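import Mathlib
import Cfsg.Agent.Lib.Fus2.Defs
import Cfsg.Agent.Lib.Fusion.RankTwo
import Cfsg.Agent.Lib.Symp.Order

/-!
Recognition of the Sylow `p`-subgroup of `Sp(4, p)`.
-/

set_option autoImplicit false

namespace CfsgLib.Fus2

open Subgroup Cfsg CfsgLib.Fusion

section Model

variable (F : Type*) [Field F]

/-- The action of a unipotent `2 × 2` matrix on symmetric matrices. -/
def s4act (k : F) : Multiplicative (F × F × F) ≃* Multiplicative (F × F × F) :=
  AddEquiv.toMultiplicative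
    { toFun := fun v => (v.1 + 2 * k * v.2.1 + k ^ 2 * v.2.2, v.2.1 + k * v.2.2, v.2.2)
      invFun := fun v => (v.1 - 2 * k * v.2.1 + k ^ 2 * v.2.2, v.2.1 - k * v.2.2, v.2.2)
      left_inv := fun v => by ext <;> simp only <;> ring
      right_inv := fun v => by ext <;> simp only <;> ring
      map_add' := fun v w => by ext <;> simp only [Prod.fst_add, Prod.snd_add] <;> ring }

theorem s4act_apply (k a b c : F) : s4act F k (Multiplicative.ofAdd (a, b, c)) =
    Multiplicative.ofAdd (a + 2 * k * b + k ^ 2 * c, b + k * c, c) := rfl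

/-- The action as a homomorphism. -/
def s4φ : Multiplicative F →* MulAut (Multiplicative (F × F × F)) :=
  MonoidHom.mk' (fun k => s4act F k.toAdd) fun k l => MulEquiv.ext fun v => by
    obtain ⟨⟨a, b, c⟩, rfl⟩ := Multiplicative.ofAdd.surjective v
    rw [MulAut.mul_apply, s4act_apply, s4act_apply, s4act_apply, toAdd_mul]
    congr 1
    ext <;> simp only <;> ring

/-- The model of the Sylow subgroup. -/
abbrev S4D := Multiplicative (F × F × F) ⋊[s4φ F] Multiplicative F

/-- The Siegel radical. -/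
def s4N : Multiplicative (F × F × F) →* Matrix.symplecticGroup (Fin 2) F :=
  MonoidHom.mk' (fun v => ⟨Matrix.fromBlocks 1 !![v.toAdd.1, v.toAdd.2.1; v.toAdd.2.1, v.toAdd.2.2] 0 1,
    SymplecticGroup.fromBlocks_mem_iff.2 ⟨by simp, by
      ext i j; fin_cases i <;> fin_cases j <;> simp, by simp⟩⟩)
    fun v w => Subtype.ext (by
      simp only [Submonoid.coe_mul, Matrix.fromBlocks_multiply, toAdd_mul, Prod.fst_add, Prod.snd_add]
      congr 1 <;> simp [add_comm])

/-- The unipotent elements of the Levi factor. -/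
def s4K : Multiplicative F →* Matrix.symplecticGroup (Fin 2) F :=
  MonoidHom.mk' (fun k => ⟨Matrix.fromBlocks !![1, k.toAdd; 0, 1] 0 0 !![1, 0; -k.toAdd, 1],
    SymplecticGroup.fromBlocks_mem_iff.2 ⟨by simp, by simp, by
      ext i j; fin_cases i <;> fin_cases j <;> simp [Matrix.mul_apply, Fin.sum_univ_two]⟩⟩)
    fun v w => Subtype.ext (by
      simp only [Submonoid.coe_mul, Matrix.fromBlocks_multiply, toAdd_mul]
      congr 1 <;> simp [add_comm])

theorem s4_compat (k : Multiplicative F) :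
    (s4N F).comp (s4φ F k).toMonoidHom = (MulAut.conj (s4K F k)).toMonoidHom.comp (s4N F) := by
  refine MonoidHom.ext fun v => ?_
  obtain ⟨⟨a, b, c⟩, rfl⟩ := Multiplicative.ofAdd.surjective v
  change s4N F (s4act F k.toAdd _) = s4K F k * s4N F _ * (s4K F k)⁻¹
  rw [eq_mul_inv_iff_mul_eq, s4act_apply]
  refine Subtype.ext ?_
  simp only [s4N, s4K, MonoidHom.mk'_apply, Submonoid.coe_mul, Matrix.fromBlocks_multiply, toAdd_ofAdd]
  congr 1
  · simp
  · ext i j; fin_cases i <;> fin_cases j <;> simp [Matrix.mul_apply, Fin.sum_univ_two] <;> ring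
  · simp
  · simp

theorem s4_lift_injective : Function.Injective (SemidirectProduct.lift (s4N F) (s4K F) (s4_compat F)) := by
  rw [injective_iff_map_eq_one]
  rintro ⟨v, k⟩ h
  obtain ⟨⟨a, b, c⟩, rfl⟩ := Multiplicative.ofAdd.surjective v
  obtain ⟨k, rfl⟩ := Multiplicative.ofAdd.surjective k
  have h1 : (s4N F (Multiplicative.ofAdd (a, b, c)) * s4K F (Multiplicative.ofAdd k)).1 = 1 :=
    congrArg Subtype.val h
  simp only [s4N, s4K, MonoidHom.mk'_apply, Submonoid.coe_mul, Matrix.fromBlocks_multiply, toAdd_ofAdd,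
    ← Matrix.fromBlocks_one, Matrix.fromBlocks_inj] at h1
  obtain ⟨e1, e2, -, -⟩ := h1
  have hk : k = 0 := by simpa using congrFun (congrFun e1 0) 1
  subst hk
  have ha : a = 0 := by simpa [Matrix.mul_apply, Fin.sum_univ_two] using congrFun (congrFun e2 0) 0
  have hb : b = 0 := by simpa [Matrix.mul_apply, Fin.sum_univ_two] using congrFun (congrFun e2 0) 1
  have hc : c = 0 := by simpa [Matrix.mul_apply, Fin.sum_univ_two] using congrFun (congrFun e2 1) 1
  subst ha hb hc
  rfl

end Model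

theorem card_S4D (p : ℕ) [Fact p.Prime] : Nat.card (S4D (ZMod p)) = p ^ 4 := by
  rw [Nat.card_congr SemidirectProduct.equivProd]
  simp only [Nat.card_prod, Nat.card_congr Multiplicative.toAdd, Nat.card_zmod]
  ring

theorem s4_exists_sylow (p : ℕ) [hp : Fact p.Prime] :
    ∃ P : Sylow p (Matrix.symplecticGroup (Fin 2) (ZMod p)),
      Nonempty (S4D (ZMod p) ≃* (P : Subgroup (Matrix.symplecticGroup (Fin 2) (ZMod p)))) := by
  have e := MonoidHom.ofInjective (s4_lift_injective (ZMod p))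
  refine ⟨Sylow.ofCard (SemidirectProduct.lift _ _ (s4_compat (ZMod p))).range ?_, ⟨e⟩⟩
  rw [← Nat.card_congr e.toEquiv, card_S4D, CfsgLib.Symp.card_sp, ZMod.card]
  have h1 : ∀ i, ¬ p ∣ p ^ (2 * (i + 1)) - 1 := fun i hd => by
    have := Nat.dvd_sub (dvd_pow_self p (by omega : 2 * (i + 1) ≠ 0)) hd
    rw [Nat.sub_sub_self (Nat.one_le_pow _ _ hp.out.pos), Nat.dvd_one] at this
    exact hp.out.one_lt.ne' this
  have h2 : ¬ p ∣ ∏ i ∈ Finset.range 2, (p ^ (2 * (i + 1)) - 1) := fun hd => by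
    obtain ⟨i, -, hi⟩ := (Prime.dvd_finset_prod_iff hp.out.prime _).1 hd
    exact h1 i hi
  rw [Nat.factorization_mul (pow_pos hp.out.pos _).ne' (fun h0 => h2 (by rw [h0]; exact dvd_zero p)),
    Finsupp.add_apply, Nat.factorization_eq_zero_of_not_dvd h2, hp.out.factorization_pow]
  simp

/-- A cyclic vector of a unipotent map of order `p` with one Jordan block in dimension three. -/
theorem s4_exists_vec {p : ℕ} [hp : Fact p.Prime] {V : Type*} [AddCommGroup V] [Module (ZMod p) V]
    (hV : Nat.card V = p ^ 3) (σ : Module.End (ZMod p) V) (hσ : σ ^ p = 1)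
    (hk : Nat.card (LinearMap.ker (σ - 1)) = p) :
    ∃ w : V, (σ - 1) ((σ - 1) w) ≠ 0 ∧ (σ - 1) ((σ - 1) ((σ - 1) w)) = 0 := by
  have h1p := hp.out.one_lt
  have : Finite V := Nat.finite_of_card_ne_zero (by rw [hV]; exact (pow_pos hp.out.pos 3).ne')
  have : Nontrivial V := by
    rw [← Finite.one_lt_card_iff_nontrivial, hV]; exact Nat.one_lt_pow (by norm_num) h1p
  have hr : Module.finrank (ZMod p) V = 3 := by
    have := Module.natCard_eq_pow_finrank (K := ZMod p) (V := V)
    rw [hV, Nat.card_zmod] at this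
    exact (Nat.pow_right_injective h1p this).symm
  have : CharP (Module.End (ZMod p) V) p := charP_of_injective_algebraMap' (ZMod p) p
  have hn : IsNilpotent (σ - 1) :=
    ⟨p, by rw [sub_pow_char_of_commute _ (Commute.one_right σ), hσ, one_pow, sub_self]⟩
  have h3 : (σ - 1) ^ 3 = 0 := by
    have := LinearMap.aeval_self_charpoly (σ - 1)
    rwa [(LinearMap.isNilpotent_iff_charpoly _).1 hn, hr, Polynomial.aeval_X_pow] at this
  by_contra hcon
  push Not at hcon
  have h4 : LinearMap.range (σ - 1) ≤ LinearMap.ker (σ - 1) := by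
    rintro _ ⟨w, rfl⟩
    by_contra hw
    exact hcon w hw (by simpa [pow_succ] using LinearMap.congr_fun h3 w)
  have h5 := LinearMap.finrank_range_add_finrank_ker (σ - 1)
  have h6 := Submodule.finrank_mono h4
  have h7 := Module.natCard_eq_pow_finrank (K := ZMod p) (V := LinearMap.ker (σ - 1))
  rw [hk, Nat.card_zmod] at h7
  have h8 : Module.finrank (ZMod p) (LinearMap.ker (σ - 1)) = 1 :=
    (Nat.pow_right_injective h1p (by simpa using h7)).symm
  omega

theorem s4_exists_lin {p : ℕ} [hp : Fact p.Prime] (h2 : p ≠ 2) {V : Type*} [AddCommGroup V]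
    [Module (ZMod p) V] (hV : Nat.card V = p ^ 3) (σ : Module.End (ZMod p) V) (hσ : σ ^ p = 1)
    (hk : Nat.card (LinearMap.ker (σ - 1)) = p) :
    ∃ L : ZMod p × ZMod p × ZMod p →+ V, Function.Injective L ∧ ∀ (k : ℕ) (a b c : ZMod p),
      (σ ^ k) (L (a, b, c)) = L (a + 2 * k * b + (k : ZMod p) ^ 2 * c, b + k * c, c) := by
  obtain ⟨w, hw, hw'⟩ := s4_exists_vec hV σ hσ hk
  have h2' : (2 : ZMod p) ≠ 0 := fun h0 => h2 ((Nat.prime_dvd_prime_iff_eq hp.out Nat.prime_two).1
    ((ZMod.natCast_eq_zero_iff 2 p).1 (by exact_mod_cast h0)))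
  set N := σ - 1 with hN
  have hσN : ∀ v, σ v = v + N v := fun v => by simp [hN]
  set ea := (2 : ZMod p)⁻¹ • N (N w) with hea
  set eb := N w - ea with heb
  have n1 : N ea = 0 := by rw [hea, map_smul, hw', smul_zero]
  have n2 : N eb = (2 : ZMod p) • ea := by
    rw [heb, map_sub, n1, sub_zero, hea, smul_smul, mul_inv_cancel₀ h2', one_smul]
  have n3 : N w = eb + ea := by rw [heb, sub_add_cancel]
  have n0 : ea ≠ 0 := smul_ne_zero (inv_ne_zero h2') hw
  clear_value ea eb N
  let L : ZMod p × ZMod p × ZMod p →+ V := AddMonoidHom.mk' (fun v => v.1 • ea + v.2.1 • eb + v.2.2 • w)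
    fun v v' => by simp only [Prod.fst_add, Prod.snd_add, add_smul]; abel
  have hL : ∀ a b c, L (a, b, c) = a • ea + b • eb + c • w := fun _ _ _ => rfl
  have hNL : ∀ a b c, N (L (a, b, c)) = L (2 * b + c, c, 0) := fun a b c => by
    rw [hL, hL, map_add, map_add, map_smul, map_smul, map_smul, n1, n2, n3]
    module
  refine ⟨L, (injective_iff_map_eq_zero L).2 fun ⟨a, b, c⟩ h0 => ?_, fun k => ?_⟩
  · have e1 := hNL a b c
    rw [h0, map_zero] at e1
    have e2 := hNL (2 * b + c) c 0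
    rw [← e1, map_zero, hL] at e2
    have hc : c = 0 := by simpa [n0, h2'] using e2.symm
    subst hc
    rw [hL] at e1
    have hb : b = 0 := by simpa [n0, h2'] using e1.symm
    subst hb
    rw [hL] at h0
    have ha : a = 0 := by simpa [n0] using h0
    subst ha
    rfl
  · induction k with
    | zero => intro a b c; simp
    | succ k ih =>
      intro a b c
      rw [pow_succ', Module.End.mul_apply, ih, hσN, hNL, ← map_add]
      congr 1
      ext <;> simp only [Prod.fst_add, Prod.snd_add] <;> push_cast <;> ring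

theorem s4_exists_add {p : ℕ} [hp : Fact p.Prime] (h2 : p ≠ 2) {V : Type*} [AddCommGroup V]
    [Module (ZMod p) V] (hV : Nat.card V = p ^ 3) (τ : V →+ V) (hτ : ∀ x, τ^[p] x = x)
    (hk : Nat.card {x // τ x = x} = p) :
    ∃ L : ZMod p × ZMod p × ZMod p →+ V, Function.Injective L ∧ ∀ (k : ℕ) (a b c : ZMod p),
      τ^[k] (L (a, b, c)) = L (a + 2 * k * b + (k : ZMod p) ^ 2 * c, b + k * c, c) := by
  let σ : Module.End (ZMod p) V := τ.toZModLinearMap p
  have hσ : ∀ (k : ℕ) (v : V), (σ ^ k) v = τ^[k] v := fun k v => Module.End.pow_apply σ k v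
  have hk' : Nat.card (LinearMap.ker (σ - 1)) = Nat.card {x // τ x = x} :=
    Nat.card_congr (Equiv.subtypeEquivRight fun v => by
      rw [LinearMap.mem_ker, LinearMap.sub_apply, sub_eq_zero]; rfl)
  obtain ⟨L, hLi, hL⟩ := s4_exists_lin h2 hV σ
    (LinearMap.ext fun v => by rw [hσ, hτ]; rfl) (hk'.trans hk)
  exact ⟨L, hLi, fun k a b c => (hσ k _).symm.trans (hL k a b c)⟩

theorem s4_exists_mul {p : ℕ} [hp : Fact p.Prime] (h2 : p ≠ 2) {W : Type*} [CommGroup W]
    (hW : Nat.card W = p ^ 3) (he : ∀ x : W, x ^ p = 1) (τ : W →* W) (hτ : ∀ x, τ^[p] x = x)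
    (hk : Nat.card {x // τ x = x} = p) :
    ∃ L : Multiplicative (ZMod p × ZMod p × ZMod p) →* W, Function.Injective L ∧
      ∀ (k : ℕ) v, τ^[k] (L v) = L (s4act (ZMod p) k v) := by
  obtain ⟨L, hLi, hL⟩ := @s4_exists_add p _ h2 (Additive W) _ (AddCommGroup.zmodModule fun x =>
    Additive.toMul.injective (by simpa using he x.toMul)) hW (MonoidHom.toAdditive τ) hτ hk
  refine ⟨AddMonoidHom.toMultiplicativeLeft L, fun a b e => hLi e, fun k v => ?_⟩
  obtain ⟨⟨x, y, z⟩, rfl⟩ := Multiplicative.ofAdd.surjective v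
  exact hL k x y z

theorem Sp4Cfg.iso {Γ : Type*} [Group Γ] {p : ℕ} [hp : Fact p.Prime] {G U Q : Subgroup Γ}
    (h : Sp4Cfg p G U Q) (h2 : p ≠ 2) :
    ∃ P : Sylow p (Matrix.symplecticGroup (Fin 2) (ZMod p)),
      Nonempty (G ≃* (P : Subgroup (Matrix.symplecticGroup (Fin 2) (ZMod p)))) := by
  obtain ⟨P, ⟨e⟩⟩ := s4_exists_sylow p
  refine ⟨P, ?_⟩
  suffices Nonempty (S4D (ZMod p) ≃* G) from ⟨this.some.symm.trans e⟩
  obtain ⟨b, hbG, hbU, hbp, hC⟩ := h.jord
  have hfin : Finite G := Nat.finite_of_card_ne_zero (by rw [h.cardG]; exact (pow_pos hp.out.pos 4).ne')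
  have hidx : (U.subgroupOf G).index = p := by
    have := CfsgLib.Core.card_mul_relIndex_of_le h.U_le
    rw [h.cardG, h.cardU, pow_succ] at this
    exact Nat.eq_of_mul_eq_mul_left (pow_pos hp.out.pos 3) this
  have hnorm : b ∈ normalizer (U : Set Γ) := (normal_subgroupOf_iff_le_normalizer h.U_le).1
    (CfsgLib.PGroup.normal_of_index_eq_prime (IsPGroup.of_card h.cardG) hidx) hbG
  let τ : U →* U := (U.normalizerMonoidHom ⟨b, hnorm⟩).toMonoidHom
  have hτ : ∀ (k : ℕ) (v : U), ((τ^[k] v : U) : Γ) = b ^ k * v * (b ^ k)⁻¹ := by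
    intro k
    induction k with
    | zero => intro v; simp
    | succ k ih =>
      intro v
      rw [Function.iterate_succ_apply']
      change b * ((τ^[k] v : U) : Γ) * b⁻¹ = _
      rw [ih, pow_succ']
      group
  have hk : Nat.card {x // τ x = x} = Nat.card (U ⊓ centralizer {b} : Subgroup Γ) := by
    have key : ∀ v : U, τ v = v ↔ (v : Γ) ∈ centralizer {b} := fun v => by
      rw [mem_centralizer_singleton_iff, Subtype.ext_iff, eq_comm (a := (v : Γ) * b),
        ← mul_inv_eq_iff_eq_mul]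
      rfl
    exact Nat.card_congr
      { toFun := fun v => ⟨v.1, v.1.2, (key _).1 v.2⟩
        invFun := fun x => ⟨⟨x.1, x.2.1⟩, (key _).2 x.2.2⟩
        left_inv := fun _ => rfl
        right_inv := fun _ => rfl }
  obtain ⟨L, hLi, hL⟩ := @s4_exists_mul p _ h2 U
    { (inferInstance : Group U) with mul_comm := h.elem.1.is_comm.comm } h.cardU
    (fun x => Subtype.ext (h.elem.2 _ x.2)) τ (fun x => Subtype.ext (by rw [hτ, hbp]; simp))
    (hk.trans hC)
  let fn : Multiplicative (ZMod p × ZMod p × ZMod p) →* G := (inclusion h.U_le).comp L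
  have hfn : ∀ v, ((fn v : G) : Γ) = (L v : U) := fun _ => rfl
  have hbp' : (⟨b, hbG⟩ : G) ^ p = 1 := Subtype.ext hbp
  let fg : Multiplicative (ZMod p) →* G :=
    MonoidHom.mk' (fun k => zpw (⟨b, hbG⟩ : G) k.toAdd) fun k l => zpw_add hbp' _ _
  have hfg : ∀ k : ℕ, ((fg (Multiplicative.ofAdd (k : ZMod p)) : G) : Γ) = b ^ k := fun k =>
    congrArg Subtype.val (zpw_natCast hbp' k)
  have hc : ∀ k, fn.comp (s4φ (ZMod p) k).toMonoidHom = (MulAut.conj (fg k)).toMonoidHom.comp fn := by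
    intro k
    obtain ⟨k, rfl⟩ := Multiplicative.ofAdd.surjective k
    obtain ⟨k, rfl⟩ := ZMod.natCast_zmod_surjective k
    refine MonoidHom.ext fun v => Subtype.ext ?_
    change ((fn (s4act (ZMod p) k _) : G) : Γ) = fg _ * fn _ * (fg _ : Γ)⁻¹
    rw [hfn, hfn, hfg, ← hτ, hL]
  refine ⟨MulEquiv.ofBijective (SemidirectProduct.lift fn fg hc)
    ((Nat.bijective_iff_injective_and_card _).2 ⟨(injective_iff_map_eq_one _).2 ?_, ?_⟩)⟩
  · rintro ⟨v, k⟩ h1
    obtain ⟨k, rfl⟩ := Multiplicative.ofAdd.surjective k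
    have h3 : fn v * fg (Multiplicative.ofAdd k) = 1 := h1
    have hk : k = 0 := by
      by_contra hk
      have h4 : zpw b k ∈ U := by
        have h5 : (L v : Γ) * zpw b k = 1 := by
          have h6 : zpw b k = G.subtype (zpw ⟨b, hbG⟩ k) := (map_zpw G.subtype (⟨b, hbG⟩ : G) k).symm
          rw [← hfn, h6]; exact congrArg Subtype.val h3
        rw [eq_inv_of_mul_eq_one_right h5]
        exact U.inv_mem (L v).2
      have h5 := zpw_mem h4 k⁻¹
      rw [zpw_zpw hbp, mul_inv_cancel₀ hk, zpw_one hbp] at h5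
      exact hbU h5
    subst hk
    rw [ofAdd_zero, map_one, mul_one] at h3
    have h4 : L v = 1 := Subtype.ext (by rw [← hfn, h3]; rfl)
    rw [(injective_iff_map_eq_one L).1 hLi v h4]
    rfl
  · rw [card_S4D, h.cardG]

end CfsgLib.Fus2
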