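import Mathlib
import Cfsg.Agent.Lib.Fus2.Case1

/-!
Two minimal models: the module `U` of the first lies in `E₂` and `O^p(L₂)` centralizes `Z(E₂)`.
-/

set_option autoImplicit false
set_option linter.unusedSectionVars false

namespace CfsgLib.Fus2

open Subgroup Cfsg CfsgLib.LAE CfsgLib.Fusion
open scoped commutatorElement

variable {Γ : Type*} [Group Γ] {p k : ℕ} {G E L E₁ E₂ L₁ L₂ H K D N U B W X Y Z : Subgroup Γ}
  {g u x y z : Γ}

variable [Finite Γ] [hp : Fact p.Prime]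

theorem exists_critical_amb (h2 : p ≠ 2) (hD : IsPGroup p D) :
    ∃ H ≤ D, normalizer (D : Set Γ) ≤ normalizer (H : Set Γ) ∧ (∀ x ∈ H, x ^ p = 1) ∧
      ⁅H, H⁆ ≤ H ⊓ centralizer (H : Set Γ) ∧ ∀ z ∈ normalizer (D : Set Γ), (orderOf z).Coprime p →
        z ∈ centralizer (H : Set Γ) → z ∈ centralizer (D : Set Γ) := by
  obtain ⟨K, hK, h1, h3, h4⟩ := PGroup.exists_critical_exponent_prime h2 hD
  refine ⟨K.map D.subtype, map_subtype_le K,
    Core.normalizer_le_normalizer_map_subtype_of_characteristic K, ?_, ?_, fun z hz hc hzc => ?_⟩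
  · rintro _ ⟨x, hx, rfl⟩
    exact congrArg Subtype.val (h1 x hx)
  · rw [commutator_le]
    rintro _ ⟨x, hx, rfl⟩ _ ⟨y, -, rfl⟩
    refine ⟨⟨_, (h3 x hx y).1, rfl⟩, ?_⟩
    rintro _ ⟨w, hw, rfl⟩
    exact congrArg Subtype.val ((h3 x hx y).2 w hw)
  · have := h4 (D.normalizerMonoidHom ⟨z, hz⟩) (Nat.Coprime.coprime_dvd_left
      ((orderOf_map_dvd _ _).trans (by rw [← Subgroup.orderOf_coe])) hc) fun x hx =>
        Subtype.ext (by
          change z * x * z⁻¹ = x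
          rw [← hzc x ⟨x, hx, rfl⟩, mul_inv_cancel_right])
    have h5 : (⟨z, hz⟩ : normalizer (D : Set Γ)) ∈ D.normalizerMonoidHom.ker := this
    rwa [normalizerMonoidHom_ker] at h5

theorem card_comm_le (hUH : U ≤ H) (hc : H ≤ centralizer (U : Set Γ)) (he : ∀ x ∈ H, x ^ p = 1)
    (hHH : ⁅H, H⁆ ≤ U) (hi : U.relIndex H = p ^ 2) : Nat.card (⁅H, H⁆ : Subgroup Γ) ≤ p := by
  obtain ⟨a, ha, haU⟩ := SetLike.not_le_iff_exists.1 (not_le_of_relIndex hi)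
  have l1 : U ⊔ zpowers a ≤ H := sup_le hUH (zpowers_le.2 ha)
  have i1 := relIndex_eq_of_mul le_sup_left l1 (relIndex_sup_zpowers
    (centralizer_le_normalizer _ (hc ha)) haU (he a ha ▸ U.one_mem)) (by rw [hi, pow_two])
  obtain ⟨b, hb, hbU⟩ := exists_not_mem i1
  have c1 := commutator_le.1 hHH a ha b hb
  have := comm_le_zpowers (hUH.trans hc) (hc ha) (hc hb) (commute_of_mem (hc ha) c1)
    (commute_of_mem (hc hb) c1)
  rw [sup_zpowers_eq l1 i1 hb hbU] at this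
  exact (card_le_of_le' this).trans (card_zpowers_le (he _ (hUH c1)))

/-- The setting of the third case. -/
structure Am3 (p : ℕ) (G E₁ E₂ L₁ L₂ U Z B : Subgroup Γ) : Prop extends Am p G E₁ E₂ L₁ L₂ where
  v : Vtx p G E₁ L₁ U
  UE₂ : U ≤ E₂
  cz : ⁅pResOf p L₂, E₂ ⊓ centralizer (E₂ : Set Γ)⁆ ≤ ⊥
  eZ : Z = U ⊓ centralizer (G : Set Γ)
  ZB : Z ≤ B
  BU : B ≤ U
  iB : Z.relIndex B = p
  cB : ⁅G, B⁆ ≤ Z

theorem Am.exists_am3 (h : Am p G E₁ E₂ L₁ L₂) (v : Vtx p G E₁ L₁ U) (hU : U ≤ E₂)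
    (cz : ⁅pResOf p L₂, E₂ ⊓ centralizer (E₂ : Set Γ)⁆ ≤ ⊥) : ∃ Z B, Am3 p G E₁ E₂ L₁ L₂ U Z B := by
  obtain ⟨B, h1, h2, h3, h4⟩ := exists_between (X := U ⊓ centralizer (G : Set Γ)) h.pG v.UG
    inf_le_left (le_centralizer_normalizer (le_centralizer_iff.1 inf_le_right)) v.GU fun hle => by
      have := card_le_of_le' hle
      rw [v.cardZ] at this
      exact not_pow_le (b := 1) (v.sq_le.trans (by rwa [pow_one])) one_lt_two
  exact ⟨_, B, h, v, hU, cz, rfl, h1, h2, h3, h4⟩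

namespace Am3

theorem cardZ (h : Am3 p G E₁ E₂ L₁ L₂ U Z B) : Nat.card Z = p := h.eZ ▸ h.v.cardZ

theorem cardB (h : Am3 p G E₁ E₂ L₁ L₂ U Z B) : Nat.card B = p ^ 2 := by
  rw [card_eq_of_relIndex h.ZB h.cardZ h.iB, pow_two]

theorem GZ (h : Am3 p G E₁ E₂ L₁ L₂ U Z B) : G ≤ centralizer (Z : Set Γ) :=
  le_centralizer_iff.1 (h.eZ ▸ inf_le_right)

theorem BE₂ (h : Am3 p G E₁ E₂ L₁ L₂ U Z B) : B ≤ E₂ := h.BU.trans h.UE₂

theorem OZ (h : Am3 p G E₁ E₂ L₁ L₂ U Z B) : ⁅pResOf p L₂, Z⁆ ≤ ⊥ :=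
  (commutator_mono le_rfl (le_inf (h.ZB.trans h.BE₂)
    (le_centralizer_iff.1 (h.h₂.le.trans h.GZ)))).trans h.cz

theorem LZ (h : Am3 p G E₁ E₂ L₁ L₂ U Z B) : L₂ ≤ centralizer (Z : Set Γ) :=
  h.h₂.le_of_res (commutator_eq_bot_iff_le_centralizer.1 (le_bot_iff.1 h.OZ)) h.GZ

theorem LZ' (h : Am3 p G E₁ E₂ L₁ L₂ U Z B) : L₂ ≤ normalizer (Z : Set Γ) :=
  le_centralizer_normalizer h.LZ

theorem GB (h : Am3 p G E₁ E₂ L₁ L₂ U Z B) : G ≤ normalizer (B : Set Γ) :=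
  le_normalizer_of_cm_le (h.cB.trans h.ZB) le_rfl

theorem mem_E₁ (h : Am3 p G E₁ E₂ L₁ L₂ U Z B) (hg : g ∈ G) (hc : g ∈ centralizer (B : Set Γ)) :
    g ∈ E₁ := by
  by_contra hgE
  exact not_le_of_relIndex_prime h.iB fun b hb =>
    h.eZ ▸ ⟨h.BU hb, h.v.mem_cent hg hgE (h.BU hb) (hc b hb)⟩

theorem E₁B (h : Am3 p G E₁ E₂ L₁ L₂ U Z B) : E₁ ≤ centralizer (B : Set Γ) :=
  h.v.cen.trans (centralizer_le h.BU)

theorem YE (h : Am3 p G E₁ E₂ L₁ L₂ U Z B) : ncl L₂ B ≤ E₂ := ncl_le h.BE₂ h.h₂.norm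

theorem cY (h : Am3 p G E₁ E₂ L₁ L₂ U Z B) : ⁅E₂, ncl L₂ B⁆ ≤ Z := by
  rw [commutator_comm]
  exact (Core.le_commutatorStabilizer_iff.1 (ncl_le_iff.2 fun l hl b hb =>
    ⟨h.LZ' (h.h₂.EL (conj_mem (h.h₂.norm hl) (h.BE₂ hb))), fun c hc => by
      have := conj_mem (h.LZ' hl) (cm_swap (commutator_le.1 h.cB _
        (h.h₂.le (conj_mem' (h.h₂.norm hl) hc)) b hb))
      convert this using 1
      group⟩)).2

theorem cYY (h : Am3 p G E₁ E₂ L₁ L₂ U Z B) : ⁅ncl L₂ B, ncl L₂ B⁆ ≤ Z :=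
  (commutator_mono h.YE le_rfl).trans h.cY

theorem expY (h : Am3 p G E₁ E₂ L₁ L₂ U Z B) : ∀ y ∈ ncl L₂ B, y ^ p = 1 := fun _ hx =>
  pow_eq_one_of_class_two h.odd
    (by rintro _ ⟨l, -, b, hb, rfl⟩; rw [conj_pow, h.v.exp b (h.BU hb)]; simp)
    (h.cYY.trans (le_centralizer_iff.1 ((h.YE.trans h.h₂.le).trans h.GZ))) hx

theorem eq_of_card (h : Am3 p G E₁ E₂ L₁ L₂ U Z B) (hU : Nat.card U = p ^ 2) : B = U :=
  eq_of_le_card h.BU (by rw [hU, h.cardB])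

/-- `B` is not normal in `L₂`. -/
theorem caseA (h : Am3 p G E₁ E₂ L₁ L₂ U Z B) : ¬ L₂ ≤ normalizer (B : Set Γ) := fun hB => by
  have eD : E₁ ⊓ E₂ = E₂ ⊓ centralizer (B : Set Γ) :=
    le_antisymm (le_inf inf_le_right (inf_le_left.trans h.E₁B))
      fun x hx => ⟨h.mem_E₁ (h.h₂.le hx.1) hx.2, hx.1⟩
  have hD : L₂ ≤ normalizer ((E₁ ⊓ E₂ : Subgroup Γ) : Set Γ) :=
    eD ▸ le_normalizer_inf h.h₂.norm (le_normalizer_centralizer hB)
  have pD := h.h₂.pX (inf_le_right : E₁ ⊓ E₂ ≤ E₂)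
  have hOE := h.h₂.res_comm_prime inf_le_right h.h₂.le hD h.h₂.norm h.idx₂
  obtain ⟨H, hHD, hHN, hHe, hHH, hHf⟩ := exists_critical_amb h.odd pD
  have hOH : ¬ ⁅pResOf p L₂, H⁆ ≤ ⊥ := fun hc => h.h₂.res_not_le (res_trans pD bot_le
    (res_comm_le (norm_bot _) fun z hz hzc y hy => cm_eq_one (hHf z (hD hz) hzc
      (mem_centralizer_of_cm fun y hy => cm_mem_of_res hc hz hzc hy)) hy) hOE)
  have hBD : B ≤ E₁ ⊓ E₂ := le_inf (h.BU.trans h.v.UE) h.BE₂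
  have hDB : E₁ ⊓ E₂ ≤ centralizer (B : Set Γ) := inf_le_left.trans h.E₁B
  have hBe : ∀ x ∈ B, x ^ p = 1 := fun x hx => h.v.exp x (h.BU hx)
  set R := H ⊔ B with hR
  have hRD : R ≤ E₁ ⊓ E₂ := sup_le hHD hBD
  have hRE := hRD.trans inf_le_right
  have hRG := hRE.trans h.h₂.le
  have hRB := hRD.trans hDB
  have hRN : L₂ ≤ normalizer (R : Set Γ) := le_normalizer_sup (hD.trans hHN) hB
  have hRe : ∀ x ∈ R, x ^ p = 1 := pow_eq_one_sup (hHD.trans hDB) hHe hBe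
  have hOB : ⁅pResOf p L₂, B⁆ ≤ ⊥ := res_trans (h.h₂.pX (h.ZB.trans h.BE₂)) bot_le h.OZ
    (h.h₂.res_comm_prime h.ZB (h.BE₂.trans h.h₂.le) h.LZ' hB h.iB)
  have hBZ : B ≤ R ⊓ centralizer (R : Set Γ) := le_inf le_sup_right (le_centralizer_iff.1 hRB)
  have eZ : R ⊓ centralizer (R : Set Γ) ≤ B := by
    by_contra hn
    have h1 := le_relIndex (h.pG.to_le (inf_le_left.trans hRG)) hn
    have h2 : R ⊓ centralizer (R : Set Γ) ≤
        centralizer ((R ⊓ centralizer (R : Set Γ) : Subgroup Γ) : Set Γ) :=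
      inf_le_right.trans (centralizer_le inf_le_left)
    have h3 := Core.card_mul_relIndex_of_le hBZ
    have h4 := h.rk.card_le (inf_le_left.trans hRG) h2 fun x hx => hRe x hx.1
    rw [h.cardB] at h3
    have h5 : R ≤ R ⊓ centralizer (R : Set Γ) := fun x hx =>
      h.rk.mem_elem (inf_le_left.trans hRG) h2 (fun x hx => hRe x hx.1)
        (by rw [← h3, pow_succ]; gcongr) (hRG hx) (le_centralizer_iff.1 inf_le_right hx) (hRe x hx)
    rw [le_antisymm inf_le_left h5] at h3 h4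
    refine hOH ((commutator_mono le_rfl le_sup_left).trans (res_trans (h.h₂.pX h.BE₂) bot_le hOB
      (h.h₂.res_comm_dvd le_sup_right hRG hB hRN ?_)))
    have : p ^ 2 * B.relIndex R ≤ p ^ 2 * p := by rw [h3, ← pow_succ]; exact h4
    exact (Nat.le_of_mul_le_mul_left this (pow_pos hp.out.pos 2)).trans_lt
      (by have := hp.out.one_lt; nlinarith)
  have hRR : ⁅R, R⁆ ≤ B := by
    rw [hR, Core.commutator_sup_self_of_le_centralizer]
    · refine hHH.trans (le_trans ?_ eZ)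
      rw [hR, Core.centralizer_sup]
      exact le_inf (inf_le_left.trans le_sup_left)
        (le_inf inf_le_right (inf_le_left.trans (hHD.trans hDB)))
    · exact le_centralizer_iff.1 hRB
  have hnc : ¬ ⁅pResOf p L₂, R⁆ ≤ B := fun hc =>
    hOH ((commutator_mono le_rfl le_sup_left).trans (res_trans (h.h₂.pX h.BE₂) bot_le hOB hc))
  have hi : B.relIndex R = p ^ 2 :=
    le_antisymm (h.rk.relIndex_le_sq hRG le_sup_right hRB h.cardB hRe hRR)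
      (not_lt.1 fun hlt => hnc (h.h₂.res_comm_dvd le_sup_right hRG hB hRN hlt))
  have hs : NatSec p G E₂ L₂ B R := ⟨h.h₂, le_sup_right, hRE, hB, hRN, hi, hnc⟩
  obtain ⟨z, hz, hzc, -, -, hzR⟩ := hs.exists_z
  have hRZ : ⁅R, R⁆ ≤ Z := h.eZ ▸ le_inf (hRR.trans h.BU) (le_centralizer_iff.1
    (le_centralizer_of_card_le h.pG ((hRR.trans h.BE₂).trans h.h₂.le)
      (h.h₂.GL'.trans (le_normalizer_commutator hRN hRN))
      (card_comm_le le_sup_right hRB hRe hRR hi)))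
  have hzB : ∀ x ∈ B, z * x * z⁻¹ = x := fun x hx => by
    rw [show z * x * z⁻¹ = ⁅z, x⁆ * x by group, mem_bot.1 (cm_mem_of_res hOB hz hzc hx), one_mul]
  obtain ⟨b, hb, hbD, hzb⟩ := exists_fixed_not_mem hzc pD inf_le_right
    (fun y hy => cm_mem_of_res hOE hz hzc hy) (not_le_of_relIndex_prime h.idx₂)
  have hbR : ∀ r ∈ R, ⁅b, r⁆ ∈ Z := fun r hr => by
    have h1 := commutator_le.1 hs.cmE b hb r hr
    have h2 := commutator_le.1 h.cB b (h.h₂.le hb) _ (hzR r hr)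
    refine mem_of_sq_mem h.odd (pg_zpowers (h.h₂.pX h.BE₂) h1) ?_
    have h3 := hzB _ h1
    have h4 : ⁅b, r * (z * r * z⁻¹)⁆ = ⁅b, r⁆ * (r * (z * ⁅b, r⁆ * z⁻¹) * r⁻¹) := by
      rw [show z * ⁅b, r⁆ * z⁻¹ = ⁅z * b * z⁻¹, z * r * z⁻¹⁆ by group, hzb.eq, mul_inv_cancel_right]
      group
    rwa [h4, h3, (commute_of_mem (hRB hr) h1).eq, mul_inv_cancel_right] at h2
  obtain ⟨m, hm⟩ := Core.isPGroup_zpowers_iff.1 (pg_zpowers h.h₂.pE hb)
  obtain ⟨j, h1, h2⟩ := PGroup.exists_pow_not_mem_pow_mem (hm ▸ B.one_mem) fun h' => hbD (hBD h')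
  have hbG := h.h₂.le hb
  by_cases h3 : (b ^ p ^ j) ^ p ∈ Z
  · have h4 : b ^ p ^ j ∈ R := h.rk.mem hRG (h.ZB.trans le_sup_right) hRZ
      (fun a ha => hRe a ha ▸ Z.one_mem)
      (by rw [← relIndex_mul_relIndex Z B R h.ZB le_sup_right, h.iB, hi, ← pow_succ'])
      (G.pow_mem hbG _) (fun a ha => by
        simpa only [zpow_natCast] using
          cm_zpow_left (centralizer_le_normalizer _ (h.GZ hbG)) (hbR a ha) (p ^ j : ℕ))
      (fun a ha => cm_eq_one (h.GZ (G.pow_mem hbG _)) ha ▸ Z.one_mem) h3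
    have h5 := hzR _ h4
    rw [(hzb.pow_right _).eq, mul_inv_cancel_right] at h5
    exact h1 (mem_of_sq_mem h.odd (pg_zpowers h.pG (G.pow_mem hbG _)) h5)
  · refine hbD ⟨h.mem_E₁ hbG ?_, hb⟩
    rw [← sup_zpowers_eq h.ZB h.iB h2 h3]
    exact mem_centralizer_sup_zpowers (h.GZ hbG) (((Commute.refl b).pow_right _).pow_right _)

/-- The normal closure of `B` in `L₂` lies in `E₁`. -/
theorem caseC (h : Am3 p G E₁ E₂ L₁ L₂ U Z B) : ncl L₂ B ≤ E₁ := by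
  by_contra hn
  obtain ⟨β, hβ, hβE⟩ := SetLike.not_le_iff_exists.1 hn
  set Y := ncl L₂ B
  have hYG : Y ≤ G := h.YE.trans h.h₂.le
  have hGY : G ≤ normalizer (Y : Set Γ) := h.h₂.GL'.trans (le_normalizer_ncl L₂ B)
  have hU := h.v.card_sq_of_cm (hYG hβ) hβE fun u hu =>
    h.eZ ▸ cm_swap (commutator_le.1 h.cY u (h.UE₂ hu) β hβ)
  have eB := h.eq_of_card hU
  subst eB
  have hBY : B ≤ Y ⊓ E₁ := le_inf (le_ncl _ _) h.v.UE
  have hβ1 : ∀ e ∈ E₁, ⁅β, e⁆ ∈ Y ⊓ E₁ := fun e he =>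
    ⟨cm_mem_left (hGY (h.h₁.le he)) hβ, cm_mem_right (h.h₁.GN (hYG hβ)) he⟩
  have hO : ⁅pResOf p L₁, E₁⁆ ≤ B := by
    by_cases hle : Y ⊓ E₁ ≤ B
    · exact h.h₁.res_comm_le h.v.inv h.h₁.norm (hYG hβ) hβE fun e he => hle (hβ1 e he)
    have h1 := h.rk Y Z hYG h.cYY fun y hy => h.expY y hy ▸ Z.one_mem
    rw [← relIndex_mul_relIndex Z B Y h.ZB (le_ncl _ _), h.iB,
      ← relIndex_mul_relIndex B _ Y hBY inf_le_left] at h1
    have h2 := le_relIndex (X := Y ⊓ E₁) (h.pG.to_le hYG) fun h' => hβE (h' hβ).2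
    have h3 : B.relIndex (Y ⊓ E₁) = p := by
      refine relIndex_eq_prime (h.pG.to_le (inf_le_left.trans hYG)) hle (not_le.1 fun h' => ?_)
      refine not_pow_le (p := p) (a := 4) (b := 3) (le_trans ?_ h1) (by norm_num)
      calc p ^ 4 = p * (p ^ 2 * p) := by ring
        _ ≤ _ := by gcongr
    have h4 := h.v.le_normalizer_of_rank h.odd h.rk hU hBY inf_le_right h3
      (fun x hx => h.expY x hx.1) (commutator_le.2 fun g hg => cm_mem_of_prime h.pG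
        (inf_le_left.trans hYG) hBY h.v.GU (le_normalizer_inf hGY h.h₁.GN) h3 g (h.h₁.le hg))
    exact res_trans (h.h₁.pX inf_le_right) hBY
      (h.h₁.res_comm_prime hBY (inf_le_left.trans hYG) h.v.inv h4 h3)
      (h.h₁.res_comm_le h4 h.h₁.norm (hYG hβ) hβE hβ1)
  obtain ⟨z, hz, hzc, -, hzG, hzU⟩ := (h.v.natSec hU).exists_z
  set C := E₁ ⊓ centralizer {z}
  have eE : B ⊔ C = E₁ := le_antisymm (sup_le h.v.UE inf_le_left) fun e he => by
    obtain ⟨u, hu, c, hc, h1, rfl⟩ := exists_mul_fixed hzc (h.h₁.pX h.v.UE) h.v.UE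
      (fun y hy => cm_mem_of_res hO hz hzc hy) he
    exact mul_mem_sup hu ⟨hc, mem_centralizer_singleton_iff.2 h1.symm⟩
  have hCB : C ⊓ B = ⊥ := eq_bot_iff.2 fun x hx => by
    have h1 := hzU x hx.2
    rw [← mem_centralizer_singleton_iff.1 hx.1.2, mul_inv_cancel_right] at h1
    exact mem_of_sq_mem h.odd (pg_zpowers h.h₁.pE hx.1.1) h1
  have hcyc : IsCyclic C := h.rk.isCyclic h.odd h.pG (inf_le_left.trans h.h₁.le) h.v.UG h.v.comm
    h.v.exp (inf_le_left.trans h.v.cen) (by rw [hCB, hU]; simp)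
  have hE₁ : E₁ ≤ centralizer (E₁ : Set Γ) := eE ▸ sup_le_centralizer h.v.comm
    (le_centralizer_of_isCyclic hcyc) (le_centralizer_iff.1 (inf_le_left.trans h.v.cen))
  obtain ⟨b, hb, hbE, hzb⟩ := exists_fixed_not_mem hzc h.h₁.pE h.h₁.le hzG
    (not_le_of_relIndex_prime h.h₁.idx)
  have hb' : b ∈ G ⊓ centralizer {z} := ⟨hb, mem_centralizer_singleton_iff.2 hzb.symm⟩
  have hCP : C ≤ G ⊓ centralizer {z} := inf_le_inf_right _ h.h₁.le
  have pP := h.pG.to_le (inf_le_left : G ⊓ centralizer {z} ≤ G)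
  have i1 : C.relIndex (G ⊓ centralizer {z}) = p := by
    refine relIndex_eq_prime pP (fun h' => hbE (h' hb').1) ?_
    rw [show C = E₁ ⊓ (G ⊓ centralizer {z}) by rw [← inf_assoc, inf_eq_left.2 h.h₁.le],
      inf_relIndex_right]
    refine (relIndex_le_of_le_right inf_le_left (relIndex_pos' E₁ G).ne').trans_lt ?_
    rw [h.h₁.idx]
    have := hp.out.one_lt
    nlinarith
  have h5 := PGroup.commutator_of_cyclic_index_prime h.odd pP (C := C.subgroupOf _)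
    ((subgroupOfEquivOfLe hCP).isCyclic.2 hcyc) i1
  have hZN : G ≤ normalizer ((E₂ ⊓ centralizer (E₂ : Set Γ) : Subgroup Γ) : Set Γ) :=
    le_normalizer_inf h.h₂.GN (le_normalizer_centralizer h.h₂.GN)
  have h6 : ∀ e ∈ E₁, ⁅b, e⁆ ∈ E₂ ⊓ centralizer (E₂ : Set Γ) := by
    have key : ∀ e ∈ E₁, ⁅b, e⁆ ∈ centralizer (G : Set Γ) →
        ⁅b, e⁆ ∈ E₂ ⊓ centralizer (E₂ : Set Γ) := fun e he h' =>
      ⟨commutator_le.1 h.h₂.comm_le b hb e (h.h₁.le he), centralizer_le h.h₂.le h'⟩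
    have := cm_sup (g := b) (h.v.UG.trans hZN) ((inf_le_left.trans h.h₁.le : C ≤ G).trans hZN)
      (fun u hu => key u (h.v.UE hu) (le_centralizer_iff.1 h.GZ (commutator_le.1 h.cB b hb u hu)))
      fun c hc => key c hc.1 (by
        rw [← h.h₁.sup_eq hb hbE]
        refine mem_centralizer_sup_zpowers (hE₁ (cm_mem_right (h.h₁.GN hb) hc.1)) ?_
        have := (h5 _ (commutator_mem_commutator (mem_top ⟨b, hb'⟩) (mem_top ⟨c, hCP hc⟩))).2.1
        exact (congrArg Subtype.val (mem_center_iff.1 this ⟨b, hb'⟩)).symm)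
    rwa [eE] at this
  obtain ⟨x, hx, hxE⟩ := h.exists₁
  refine h.h₂.res_not_le (res_trans (h.h₂.pX inf_le_left) bot_le h.cz (h.h₂.res_comm_le
    (le_normalizer_inf h.h₂.norm (le_normalizer_centralizer h.h₂.norm)) h.h₂.norm (h.h₁.le hx) hxE
    fun y hy => ?_))
  refine cm_sup_zpowers (h.h₁.le.trans hZN) (hZN hb) (fun a ha => ?_) (cm_swap (h6 x hx)) y
    (by rw [h.h₁.sup_eq hb hbE]; exact h.h₂.le hy)
  rw [cm_eq_one (hE₁ hx) ha]; exact one_mem _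

/-- The configuration in which both models act on a common subgroup `Y` of order `p ^ 3`. -/
theorem caseB (h : Am3 p G E₁ E₂ L₁ L₂ U Z B) : ∃ C, C ≤ E₁ ⊓ E₂ ∧ L₁ ≤ normalizer (C : Set Γ) ∧
    L₂ ≤ normalizer (C : Set Γ) ∧ ¬ ⁅pResOf p L₂, C⁆ ≤ ⊥ ∧ ¬ E₁ ⊓ E₂ ≤ C ∧
    (frattini C).map C.subtype ≠ ⊥ := by
  have hYE := h.caseC
  set Y := ncl L₂ B
  have hYG : Y ≤ G := h.YE.trans h.h₂.le
  have hY : L₂ ≤ normalizer (Y : Set Γ) := le_normalizer_ncl L₂ B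
  have hBY : B ≤ Y := le_ncl _ _
  have hYY : Y ≤ centralizer (Y : Set Γ) := le_centralizer_iff.1 (ncl_le_iff.2 fun l hl b hb y hy => by
    have := h.E₁B (hYE (conj_mem' (hY hl) hy)) b hb
    calc y * (l * b * l⁻¹) = l * (l⁻¹ * y * l * b) * l⁻¹ := by group
      _ = _ := by rw [← this]; group)
  have hnB : ¬ Y ≤ B := fun hle => h.caseA (le_antisymm hle hBY ▸ hY)
  have cY : Nat.card Y = p ^ 3 := le_antisymm (h.rk.card_le hYG hYY h.expY) (by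
    rw [← Core.card_mul_relIndex_of_le hBY, h.cardB, pow_succ]
    exact Nat.mul_le_mul_left _ (le_relIndex (h.pG.to_le hYG) hnB))
  have hUY : U ≤ Y := fun u hu => h.rk.mem_elem hYG hYY h.expY cY.ge (h.v.UG hu)
    (le_centralizer_iff.1 (hYE.trans h.v.cen) hu) (h.v.exp u hu)
  obtain ⟨b, hb, hbE⟩ := h.exists₂
  have hU := h.v.card_sq_of_cm (h.h₂.le hb) hbE fun u hu =>
    h.eZ ▸ commutator_le.1 h.cY b hb u (hUY hu)
  have eB := h.eq_of_card hU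
  subst eB
  have i1 : B.relIndex Y = p := relIndex_eq_of_card hBY hU (by rw [cY, pow_succ])
  have hGY := cm_mem_of_prime h.pG hYG hBY h.v.GU (h.h₂.GL'.trans hY) i1
  have hY₁ := h.v.le_normalizer_of_rank h.odd h.rk hU hBY hYE i1 h.expY
    (commutator_le.2 fun g hg => hGY g (h.h₁.le hg))
  have hs : NatSec p G E₂ L₂ Z Y := ⟨h.h₂, h.ZB.trans hBY, h.YE, h.LZ', hY,
    relIndex_eq_of_card (h.ZB.trans hBY) h.cardZ (by rw [cY, pow_succ']), fun hc =>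
      h.caseA (h.h₂.le_normalizer_of_res (hc.trans h.ZB) hBY h.GB)⟩
  obtain ⟨z, hz, hzc, -, -, hzY⟩ := hs.exists_z
  set C := G ⊓ centralizer (Y : Set Γ)
  have hC₁ : C ≤ E₁ := fun x hx => h.mem_E₁ hx.1 (centralizer_le hBY hx.2)
  have hC₂ : C ≤ E₂ := fun x hx => by
    by_contra hxE
    exact hs.nc ((h.h₂.res_comm_bot hY hx.1 hxE hx.2).trans bot_le)
  have hN : ∀ {E L : Subgroup Γ}, E ≤ G → C ≤ E → L ≤ normalizer (E : Set Γ) →
      L ≤ normalizer (Y : Set Γ) → L ≤ normalizer (C : Set Γ) := fun {E L} h1 h2 h3 h4 => by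
    rw [show C = E ⊓ centralizer (Y : Set Γ) from
      le_antisymm (le_inf h2 inf_le_right) (inf_le_inf_right _ h1)]
    exact le_normalizer_inf h3 (le_normalizer_centralizer h4)
  have hCN := hN h.h₂.le hC₂ h.h₂.norm hY
  have hYC : Y ≤ C := le_inf hYG hYY
  have hE₂L := h.h₂.EL
  have hzE : ∀ e ∈ E₂, e * (z * e * z⁻¹) ∈ C := fun e he => by
    have he' := conj_mem (h.h₂.norm hz) he
    refine ⟨h.h₂.le (E₂.mul_mem he he'), mem_centralizer_of_cm fun y' hy' => ?_⟩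
    obtain ⟨y, hy, rfl⟩ : ∃ y ∈ Y, y' = z * y * z⁻¹ := ⟨_, conj_mem' (hY hz) hy', by group⟩
    have h1 := commutator_le.1 h.cY e he y hy
    have h2 := cm_eq_one (h.LZ (hE₂L he)) (hzY y hy)
    rw [cm_mul_right' (commute_of_mem (h.LZ (hE₂L (h.YE hy))) (commutator_le.1 h.cY e he _ hy'))]
      at h2
    rw [show ⁅e * (z * e * z⁻¹), z * y * z⁻¹⁆ =
      e * (z * ⁅e, y⁆ * z⁻¹) * e⁻¹ * ⁅e, z * y * z⁻¹⁆ by group, (commute_of_mem (h.LZ hz) h1).eq,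
      mul_inv_cancel_right, (commute_of_mem (h.LZ (hE₂L he)) h1).eq, mul_inv_cancel_right, h2]
  have hS : ∀ A, C ≤ A → A ≤ E₂ → L₂ ≤ normalizer (A : Set Γ) → C.relIndex A ≠ p :=
    fun A h1 h2 h3 h4 => by
      obtain ⟨d, hd, hdC⟩ := exists_not_mem h4
      have h5 := cm_mem_of_res (h.h₂.res_comm_prime h1 (h2.trans h.h₂.le) hCN h3 h4) hz hzc hd
      refine hdC (mem_of_sq_mem h.odd (pg_zpowers h.h₂.pE (h2 hd)) ?_)
      have := C.mul_mem (C.inv_mem (conj_mem (hCN (hE₂L (h2 hd))) h5)) (hzE d (h2 hd))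
      convert this using 1
      simp [commutatorElement_def, mul_assoc]
  have hDC : ¬ E₁ ⊓ E₂ ≤ C := fun hle => hS E₂ hC₂ le_rfl h.h₂.norm
    (by rw [← le_antisymm hle (le_inf hC₁ hC₂), h.idx₂])
  refine ⟨C, le_inf hC₁ hC₂, hN h.h₁.le hC₁ h.h₁.norm hY₁, hCN,
    fun hc => hs.nc (((commutator_mono le_rfl hYC).trans hc).trans bot_le), hDC, fun hΦ => ?_⟩
  have hCe := ((Core.map_frattini_eq_bot_iff_of_isPGroup (h.pG.to_le inf_le_left)).1 hΦ).2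
  have eC : C = Y :=
    le_antisymm (fun x hx => h.rk.mem_elem hYG hYY h.expY cY.ge hx.1 hx.2 (hCe x hx)) hYC
  rw [eC] at hzE hS hDC
  have hEE : ⁅E₂, E₂⁆ ≤ Z := commutator_le.2 fun a ha b hb => by
    have nY : ∀ {x}, x ∈ E₂ → x ∈ normalizer (Y : Set Γ) := fun hx => hY (hE₂L hx)
    have nZ : ∀ {x}, x ∈ E₂ → x ∈ normalizer (Z : Set Γ) := fun hx => h.LZ' (hE₂L hx)
    have cZ : ∀ {x y}, x ∈ E₂ → y ∈ Y → ⁅x, y⁆ ∈ Z := fun hx hy => commutator_le.1 h.cY _ hx _ hy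
    have h1 := hzE a ha
    have h2 := hzE b hb
    have h3 : ⁅a, b⁆ ∈ Y := by
      have := Y.mul_mem (Y.mul_mem (hzE _ (E₂.mul_mem ha hb)) (Y.inv_mem h2))
        (Y.inv_mem (conj_mem (nY hb) h1))
      convert this using 1
      group
    have h4 := hzY _ h3
    have hb' := conj_mem (h.h₂.norm hz) hb
    have k1 := conj_mem' (nZ ha) (cm_swap (cZ hb' h1))
    have k2 := conj_mem' (nZ hb) (cZ (E₂.inv_mem ha) h2)
    have k3 := cZ (E₂.inv_mem (E₂.mul_mem ha hb)) h3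
    refine mem_of_sq_mem h.odd (pg_zpowers (h.h₂.pX h.YE) h3) ?_
    have := Z.mul_mem (Z.mul_mem (Z.inv_mem (conj_mem (nZ (h.YE h3)) (Z.mul_mem k1 k3))) h4)
      (Z.inv_mem k2)
    convert this using 1
    group
  obtain ⟨d, hd, hdY, hdp, hdG⟩ := exists_central_mod h.pG (inf_le_left.trans h.h₁.le)
    (h.h₂.GL'.trans hY) h.GD hDC
  have hdZ : d ^ p ∈ Z := by
    have h1 : d ^ p ∈ centralizer (G : Set Γ) := fun g hg => by
      have h2 := hdG g hg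
      have h3 := hGY d (h.h₁.le hd.1) _ h2
      obtain ⟨c, hc⟩ := PGroup.dvd_choose_two_of_odd (hp.out.odd_of_ne_two h.odd)
      have h4 := Core.mul_pow_of_commute_commutatorElement
        (commute_of_mem (h.v.cen (hYE h2)) h3) (commute_of_mem (h.v.cen hd.1) h3) p
      rw [hc, pow_mul, h.v.exp _ h3, h.expY _ h2, one_pow, one_mul, one_mul,
        show ⁅g, d⁆ * d = g * d * g⁻¹ by group, conj_pow] at h4
      rw [← mul_inv_eq_iff_eq_mul, h4]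
    rw [h.eZ]
    refine ⟨?_, h1⟩
    by_contra hU'
    obtain ⟨x, hx, hxE⟩ := h.exists₁
    refine hxE (hC₂ ⟨h.h₁.le hx, ?_⟩)
    rw [← sup_zpowers_eq hBY i1 hdp hU']
    exact mem_centralizer_sup_zpowers (h.v.cen hx) (h1 x (h.h₁.le hx))
  have hdN := hY (hE₂L hd.2)
  have i2 := relIndex_sup_zpowers hdN hdY hdp
  have l1 : Y ⊔ zpowers d ≤ E₂ := sup_le h.YE (zpowers_le.2 hd.2)
  have hAe : ∀ a ∈ Y ⊔ zpowers d, a ^ p ∈ Z := fun a ha => by
    obtain ⟨y, hy, i, rfl⟩ := (mem_sup_zpowers hdN).1 ha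
    exact mul_pow_mem (h.LZ' (hE₂L (h.YE hy))) (h.LZ' (hE₂L (E₂.zpow_mem hd.2 i)))
      (commutator_le.1 hEE _ (h.YE hy) _ (E₂.zpow_mem hd.2 i)) (h.expY y hy ▸ Z.one_mem)
      (zpow_pow_mem hdZ i)
  refine hS _ le_sup_left l1 (fun l hl => Core.mem_normalizer_of_forall_conj_mem fun a ha => ?_) i2
  have ha' := conj_mem (h.h₂.norm hl) (l1 ha)
  exact h.rk.mem (l1.trans h.h₂.le) (hs.XY.trans le_sup_left) ((commutator_mono l1 l1).trans hEE)
    hAe (by rw [← relIndex_mul_relIndex Z Y _ hs.XY le_sup_left, hs.idx2, i2, ← pow_succ])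
    (h.h₂.le ha') (fun c hc => commutator_le.1 hEE _ ha' c (l1 hc))
    (fun c hc => cm_mem_right (h.LZ' (hE₂L ha')) hc)
    (by rw [conj_pow]; exact conj_mem (h.LZ' hl) (hAe a ha))

end Am3

end CfsgLib.Fus2
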