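import Mathlib
import Cfsg.Agent.Lib.Fus2.Case3
import Cfsg.Agent.Lib.PGroup.Extraspecial

/-!
The classification of pairs of minimal models over a `p`-group of sectional rank at most three.
-/

set_option autoImplicit false
set_option linter.unusedSectionVars false

namespace CfsgLib.Fus2

open Subgroup Cfsg CfsgLib.LAE CfsgLib.Fusion
open scoped commutatorElement

universe u

section Bar

variable {Γ : Type*} [Group Γ] {N A B X : Subgroup Γ}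

/-- The projection `N_Γ(N) → N_Γ(N) / N`. -/
abbrev qN (N : Subgroup Γ) := QuotientGroup.mk' (N.subgroupOf (normalizer (N : Set Γ)))

/-- The image of a subgroup in `N_Γ(N) / N`. -/
def bar (N X : Subgroup Γ) := (X.subgroupOf (normalizer (N : Set Γ))).map (qN N)

/-- The preimage of a subgroup of `N_Γ(N) / N`. -/
def up (N : Subgroup Γ) (Y : Subgroup (normalizer (N : Set Γ) ⧸ N.subgroupOf (normalizer (N : Set Γ)))) :
    Subgroup Γ := (Y.comap (qN N)).map (normalizer (N : Set Γ)).subtype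

variable {Y : Subgroup (normalizer (N : Set Γ) ⧸ N.subgroupOf (normalizer (N : Set Γ)))}

theorem up_le : up N Y ≤ normalizer (N : Set Γ) := map_subtype_le _

theorem bar_le_iff (hX : X ≤ normalizer (N : Set Γ)) : bar N X ≤ Y ↔ X ≤ up N Y := by
  rw [bar, up, map_le_iff_le_comap, ← map_le_map_iff_of_injective (normalizer (N : Set Γ)).subtype_injective,
    map_subgroupOf_eq_of_le hX]

theorem bar_up : bar N (up N Y) = Y := by
  have h : (up N Y).subgroupOf (normalizer (N : Set Γ)) = Y.comap (qN N) :=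
    comap_map_eq_self_of_injective (normalizer (N : Set Γ)).subtype_injective _
  rw [bar, h, map_comap_eq_self_of_surjective (QuotientGroup.mk'_surjective _)]

theorem up_bar (hN : N ≤ X) (hX : X ≤ normalizer (N : Set Γ)) : up N (bar N X) = X := by
  rw [up, bar, comap_map_eq, QuotientGroup.ker_mk', sup_eq_left.2 (subgroupOf_mono _ hN),
    map_subgroupOf_eq_of_le hX]

theorem up_mono {Y' : Subgroup _} (h : Y ≤ Y') : up N Y ≤ up N Y' := map_mono (comap_mono h)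

theorem bar_mono (h : A ≤ B) : bar N A ≤ bar N B := map_mono (subgroupOf_mono _ h)

theorem up_bot : up N ⊥ = N := by
  rw [up, MonoidHom.comap_bot, QuotientGroup.ker_mk', map_subgroupOf_eq_of_le le_normalizer]

theorem le_up : N ≤ up N Y := up_bot.ge.trans (up_mono bot_le)

theorem bar_comm (hA : A ≤ normalizer (N : Set Γ)) (hB : B ≤ normalizer (N : Set Γ)) :
    bar N ⁅A, B⁆ = ⁅bar N A, bar N B⁆ := by
  rw [bar, ← LAE.commutator_subgroupOf hA hB, map_commutator]; rfl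

theorem comm_le_up (hA : A ≤ normalizer (N : Set Γ)) (hB : B ≤ normalizer (N : Set Γ))
    (h : ⁅bar N A, bar N B⁆ ≤ Y) : ⁅A, B⁆ ≤ up N Y :=
  (bar_le_iff (Core.commutator_le_of_le hA hB)).1 (bar_comm hA hB ▸ h)

theorem card_bar (hX : X ≤ normalizer (N : Set Γ)) : Nat.card (bar N X) = N.relIndex X := by
  rw [bar, ← relIndex_ker, QuotientGroup.ker_mk', relIndex_subgroupOf hX]

theorem bar_res [Finite Γ] {p : ℕ} [Fact p.Prime] (hX : X ≤ normalizer (N : Set Γ)) :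
    bar N (pResOf p X) = pResOf p (bar N X) := by
  rw [bar, ← pResOf_subgroupOf_of_le hX, map_pResOf]; rfl

theorem le_normalizer_up (hA : A ≤ normalizer (N : Set Γ))
    (h : bar N A ≤ normalizer (Y : Set _)) : A ≤ normalizer (up N Y : Set Γ) :=
  le_normalizer_of_cm_le (comm_le_up hA up_le
    (by rw [bar_up]; exact commutator_le_right_of_le_normalizer h)) le_rfl

theorem le_normalizer_bar (hA : A ≤ normalizer (N : Set Γ)) (hX : X ≤ normalizer (N : Set Γ))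
    (h : A ≤ normalizer (X : Set Γ)) : bar N A ≤ normalizer (bar N X : Set _) :=
  le_normalizer_of_cm_le
    (bar_comm hA hX ▸ bar_mono (commutator_le_right_of_le_normalizer h)) le_rfl

end Bar

section Main

variable {Γ : Type u} [Group Γ] {p : ℕ} {G E L E₁ E₂ L₁ L₂ K D N U : Subgroup Γ} {a z : Γ}

/-- Both `E₁` and `E₂` are abelian modulo a common normal subgroup with central chief factors. -/
def KCfg (p : ℕ) (E₁ E₂ L₁ L₂ N : Subgroup Γ) : Prop :=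
  ∃ K, N ≤ K ∧ K ≤ E₁ ⊓ E₂ ∧ L₁ ≤ normalizer (K : Set Γ) ∧ L₂ ≤ normalizer (K : Set Γ) ∧
    ⁅pResOf p L₁, K⁆ ≤ N ∧ ⁅pResOf p L₂, K⁆ ≤ N ∧ ⁅E₁, E₁⁆ ≤ K ∧ ⁅E₂, E₂⁆ ≤ K

/-- The symplectic configuration modulo `N`. -/
def SpMod (p : ℕ) (N G E L : Subgroup Γ) : Prop :=
  N.relIndex G = p ^ 4 ∧ N.relIndex E = p ^ 3 ∧ ⁅E, E⁆ ≤ N ∧ Irr L N E

/-- The inductive hypothesis. -/
def AmIH (p n : ℕ) : Prop := ∀ (Γ : Type u) [Group Γ] [Finite Γ] (G E₁ E₂ L₁ L₂ : Subgroup Γ),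
  Nat.card G < n → Am p G E₁ E₂ L₁ L₂ →
    KCfg p E₁ E₂ L₁ L₂ ⊥ ∨ SpI p G E₁ E₂ L₁ ∨ SpI p G E₂ E₁ L₂

variable [Finite Γ] [hp : Fact p.Prime]

theorem Par.bar (h : Par p G E L) (hN : N ≤ E) (hL : L ≤ normalizer (N : Set Γ))
    (hf : ∀ z ∈ L, (orderOf z).Coprime p → (∀ e ∈ E, ⁅z, e⁆ ∈ N) → z ∈ centralizer (E : Set Γ)) :
    Par p (bar N G) (bar N E) (bar N L) :=
  (h.subgroupOf hL).map _ (by rw [QuotientGroup.ker_mk']; exact subgroupOf_mono _ hN)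
    fun z hz hc h1 => by
      rw [centralizer_subgroupOf (h.EL.trans hL)]
      refine hf z hz (by rwa [Subgroup.orderOf_coe]) fun e he => ?_
      exact mem_subgroupOf.1 ((QuotientGroup.eq_one_iff _).1 (h1 ⟨e, hL (h.EL he)⟩ he))

theorem SpI.spMod {Q : Subgroup Γ} (h : Par p G E L) (hN : N ≤ E) (hL : L ≤ normalizer (N : Set Γ))
    (hs : SpI p (bar N G) (bar N E) (bar N Q) (bar N L)) : SpMod p N G E L := by
  have hE := h.EL.trans hL
  refine ⟨by rw [← card_bar (h.GL'.trans hL), hs.1.cardG], by rw [← card_bar hE, hs.1.cardU], ?_,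
    fun W h1 h2 h3 => ?_⟩
  · refine (comm_le_up hE hE (commutator_eq_bot_iff_le_centralizer.2 fun a ha b hb =>
      Core.isMulCommutative_iff_forall.1 hs.1.elem.1 b hb a ha).le).trans up_bot.le
  · rcases hs.2 _ bot_le (bar_mono h2) (le_normalizer_bar hL (h2.trans hE) h3) with e | e
    · left; rw [← up_bar h1 (h2.trans hE), e, up_bot]
    · right; rw [← up_bar h1 (h2.trans hE), e, up_bar hN hE]

theorem Am.quot (h : Am p G E₁ E₂ L₁ L₂) (ih : AmIH.{u} p (Nat.card G)) (hN : N ≠ ⊥)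
    (hND : N ≤ E₁ ⊓ E₂) (hL₁ : L₁ ≤ normalizer (N : Set Γ)) (hL₂ : L₂ ≤ normalizer (N : Set Γ))
    (f₁ : ∀ z ∈ L₁, (orderOf z).Coprime p → (∀ e ∈ E₁, ⁅z, e⁆ ∈ N) → z ∈ centralizer (E₁ : Set Γ))
    (f₂ : ∀ z ∈ L₂, (orderOf z).Coprime p → (∀ e ∈ E₂, ⁅z, e⁆ ∈ N) → z ∈ centralizer (E₂ : Set Γ)) :
    KCfg p E₁ E₂ L₁ L₂ N ∨ SpMod p N G E₁ L₁ ∨ SpMod p N G E₂ L₂ := by
  have n₁ := hND.trans inf_le_left
  have n₂ := hND.trans inf_le_right
  have e₁ := h.h₁.EL.trans hL₁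
  have e₂ := h.h₂.EL.trans hL₂
  have hlt : Nat.card (bar N G) < Nat.card G := by
    rw [card_bar (h.h₁.GL'.trans hL₁), ← Core.card_mul_relIndex_of_le (n₁.trans h.h₁.le)]
    exact lt_mul_left (relIndex_pos' N G) ((one_lt_card_iff_ne_bot N).2 hN)
  rcases ih _ _ _ _ _ _ hlt ⟨h.h₁.bar n₁ hL₁ f₁, h.h₂.bar n₂ hL₂ f₂,
    fun e => h.ne (by rw [← up_bar n₁ e₁, e, up_bar n₂ e₂]), (h.rk.subgroupOf _).map _, h.odd⟩ with
    ⟨K, -, k2, k3, k4, k5, k6, k7, k8⟩ | hs | hs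
  · refine Or.inl ⟨up N K, le_up, le_inf ((up_mono (k2.trans inf_le_left)).trans (up_bar n₁ e₁).le)
      ((up_mono (k2.trans inf_le_right)).trans (up_bar n₂ e₂).le), le_normalizer_up hL₁ k3,
      le_normalizer_up hL₂ k4, ?_, ?_, comm_le_up e₁ e₁ k7, comm_le_up e₂ e₂ k8⟩
    · exact (comm_le_up ((pResOf_le _).trans hL₁) up_le (by rwa [bar_up, bar_res hL₁])).trans
        up_bot.le
    · exact (comm_le_up ((pResOf_le _).trans hL₂) up_le (by rwa [bar_up, bar_res hL₂])).trans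
        up_bot.le
  · exact Or.inr (Or.inl (hs.spMod h.h₁ n₁ hL₁))
  · exact Or.inr (Or.inr (hs.spMod h.h₂ n₂ hL₂))

theorem Am.comm_le_of (h : Am p G E₁ E₂ L₁ L₂) (hK : G ≤ normalizer (K : Set Γ))
    (h1 : ⁅E₁, E₁⁆ ≤ K) (h2 : ⁅E₂, E₂⁆ ≤ K) : ⁅G, E₁ ⊓ E₂⁆ ≤ K := by
  conv_lhs => rw [← h.sup]
  exact Core.commutator_sup_left_le (h.h₁.le.trans hK) (h.h₂.le.trans hK)
    ((commutator_mono le_rfl inf_le_left).trans h1) ((commutator_mono le_rfl inf_le_right).trans h2)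

theorem Am.caseI_aux (h : Am p G E₁ E₂ L₁ L₂) (ih : AmIH.{u} p (Nat.card G))
    (hn : ¬ ⁅pResOf p L₁, E₁ ⊓ centralizer (E₁ : Set Γ)⁆ ≤ ⊥) :
    (E₁ ≤ centralizer (E₁ : Set Γ) ∧ E₂ ≤ centralizer (E₂ : Set Γ)) ∨ SpI p G E₁ E₂ L₁ ∨
      SpI p G E₂ E₁ L₂ := by
  obtain ⟨U, v⟩ := h.h₁.exists_vtx h.odd h.rk hn
  by_cases hU : U ≤ E₂
  swap
  · exact (h.case1 v hU).imp_right Or.inl
  by_cases cz : ⁅pResOf p L₂, E₂ ⊓ centralizer (E₂ : Set Γ)⁆ ≤ ⊥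
  swap
  · obtain ⟨U₂, v₂⟩ := h.h₂.exists_vtx h.odd h.rk cz
    exact (h.symm.case1 v₂ (h.case2 v v₂ hU)).imp And.symm Or.inr
  exfalso
  obtain ⟨Z, B, h3⟩ := h.exists_am3 v hU cz
  obtain ⟨C, hC, c1, c2, hO, hD, hΦ⟩ := h3.caseB
  have hCG := (hC.trans inf_le_left).trans h.h₁.le
  have pC := h.pG.to_le hCG
  have hΦC : (frattini C).map C.subtype ≤ C := map_subtype_le _
  have n2 := c2.trans (Core.normalizer_le_normalizer_map_frattini C)
  have fin : ¬ ⁅pResOf p L₂, C⁆ ≤ (frattini C).map C.subtype := fun hc => hO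
    (res_comm_le (norm_bot _) fun z hz hzc y hy => cm_eq_one
      (mem_centralizer_of_frattini hzc pC fun y hy => cm_mem_of_res hc hz hzc hy) hy)
  have f : ∀ {E : Subgroup Γ} {z : Γ}, IsPGroup p E → C ≤ E → (orderOf z).Coprime p →
      (∀ e ∈ E, ⁅z, e⁆ ∈ (frattini C).map C.subtype) → z ∈ centralizer (E : Set Γ) :=
    fun pE hCE hc h1 => mem_centralizer_of_frattini hc pE fun e he =>
      Core.map_frattini_mono_of_isPGroup pE hCE (h1 e he)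
  have sp : ((frattini C).map C.subtype).relIndex G ≠ p ^ 4 := fun e => by
    refine fin (h.h₂.res_comm_dvd hΦC hCG n2 c2 (not_le.1 fun hle => ?_))
    rw [← relIndex_mul_relIndex _ C G hΦC hCG, ← relIndex_mul_relIndex C _ G hC
      (inf_le_left.trans h.h₁.le), ← relIndex_mul_relIndex _ E₁ G inf_le_left h.h₁.le, h.idx₁,
      h.h₁.idx] at e
    have := le_relIndex (h.h₁.pX inf_le_left) hD
    refine not_pow_le (p := p) (a := 5) (b := 4) (le_trans ?_ e.le) (by norm_num)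
    calc p ^ 5 = p ^ 2 * (p * (p * p)) := by ring
      _ ≤ _ := by gcongr
  rcases h.quot ih hΦ (hΦC.trans hC) (c1.trans (Core.normalizer_le_normalizer_map_frattini C)) n2
    (fun z _ => f h.h₁.pE (hC.trans inf_le_left)) (fun z _ => f h.h₂.pE (hC.trans inf_le_right)) with
    ⟨K, k1, k2, -, k4, -, k6, k7, k8⟩ | hs | hs
  · exact fin (res_trans (h.h₁.pX (k2.trans inf_le_left)) k1 k6 (h.h₂.res_comm_le' k4 c2
      ((commutator_mono le_rfl hC).trans (h.comm_le_of (h.h₂.GL'.trans k4) k7 k8))))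
  · exact sp hs.1
  · exact sp hs.1

theorem SpMod.false (h : Par p G E L) (hs : SpMod p N G E L) (hNE : N ≤ E)
    (hc : E ≤ centralizer (N : Set Γ)) (hN : IsCyclic N)
    (cz : ⁅pResOf p L, E ⊓ centralizer (E : Set Γ)⁆ ≤ ⊥) : False := by
  rcases hs.2.2.2 _ (le_inf hNE (le_centralizer_iff.1 hc)) inf_le_left
    (le_normalizer_inf h.norm (le_normalizer_centralizer h.norm)) with e | e
  · have e1 : center E = N.subgroupOf E := by
      apply map_injective E.subtype_injective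
      rw [Core.map_subtype_center, e, map_subgroupOf_eq_of_le hNE]
    have h1 : _root_.commutator E ≤ center E := by
      rw [e1, subgroupOf, ← map_le_iff_le_comap, map_subtype_commutator]; exact hs.2.2.1
    have h2 : IsCyclic (center E) := e1 ▸ (subgroupOfEquivOfLe hNE).isCyclic.2 hN
    obtain ⟨A, -, hA⟩ := PGroup.exists_centralizer_eq_self_ge (G := E) (A := ⊥) inferInstance
    have h3 := PGroup.index_center_eq_sq_of_commutator_cyclic (Subgroup.isCyclic_of_le h1) h1 hA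
    obtain ⟨i, hi⟩ := h.pE.index A
    rw [e1, hi, ← pow_mul, show (N.subgroupOf E).index = p ^ 3 from hs.2.1] at h3
    have := Nat.pow_right_injective hp.out.two_le h3
    omega
  · exact h.res_not_le (e ▸ cz)

theorem amIH (p : ℕ) [hp : Fact p.Prime] (n : ℕ) : AmIH.{u} p n := by
  induction n with
  | zero => exact fun _ _ _ _ _ _ _ _ h => absurd h (Nat.not_lt_zero _)
  | succ n ih =>
    intro Γ _ _ G E₁ E₂ L₁ L₂ hlt h
    have ih' : AmIH.{u} p (Nat.card G) := fun Γ _ _ G' _ _ _ _ h' => ih Γ G' _ _ _ _ (by omega)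
    have ab : E₁ ≤ centralizer (E₁ : Set Γ) ∧ E₂ ≤ centralizer (E₂ : Set Γ) →
        KCfg p E₁ E₂ L₁ L₂ ⊥ := fun hc => ⟨⊥, le_rfl, bot_le, norm_bot _, norm_bot _, by simp,
      by simp, (commutator_eq_bot_iff_le_centralizer.2 hc.1).le,
      (commutator_eq_bot_iff_le_centralizer.2 hc.2).le⟩
    by_cases c₁ : ⁅pResOf p L₁, E₁ ⊓ centralizer (E₁ : Set Γ)⁆ ≤ ⊥
    swap
    · exact (h.caseI_aux ih' c₁).imp_left ab
    by_cases c₂ : ⁅pResOf p L₂, E₂ ⊓ centralizer (E₂ : Set Γ)⁆ ≤ ⊥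
    swap
    · exact (h.symm.caseI_aux ih' c₂).imp (fun hc => ab hc.symm) Or.symm
    obtain ⟨y, hy, hy1, -, hyG⟩ := exists_central_mod h.pG le_rfl (norm_bot G) le_normalizer
      fun hle => not_le_of_relIndex_prime h.h₁.idx (hle.trans bot_le)
    have hyc : y ∈ centralizer (G : Set Γ) :=
      mem_centralizer_of_cm fun g hg => mem_bot.1 (cm_swap (hyG g hg))
    have hG : G ≤ centralizer (zpowers y : Set Γ) := le_centralizer_iff.1 (zpowers_le.2 hyc)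
    have key : ∀ {E L : Subgroup Γ}, Par p G E L →
        ⁅pResOf p L, E ⊓ centralizer (E : Set Γ)⁆ ≤ ⊥ → zpowers y ≤ E ∧
        ⁅pResOf p L, zpowers y⁆ ≤ ⊥ ∧ L ≤ normalizer (zpowers y : Set Γ) ∧ ∀ z ∈ L,
          (orderOf z).Coprime p → (∀ e ∈ E, ⁅z, e⁆ ∈ zpowers y) → z ∈ centralizer (E : Set Γ) :=
      fun {E L} hP cz => by
        have h1 := zpowers_le.2 (hP.center_le hy hyc)
        have h2 := (commutator_mono le_rfl
          (le_inf h1 (le_centralizer_iff.1 (hP.le.trans hG)))).trans cz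
        exact ⟨h1, h2, le_centralizer_normalizer (hP.le_of_res
          (commutator_eq_bot_iff_le_centralizer.1 (le_bot_iff.1 h2)) hG),
          fun z hz hc h3 => mem_centralizer_of_cm fun e he => mem_bot.1 (cm_trans hc (hP.pX h1)
            bot_le (fun x hx => cm_mem_of_res h2 hz hc hx) (h3 e he))⟩
    obtain ⟨a1, a2, a3, a4⟩ := key h.h₁ c₁
    obtain ⟨b1, b2, b3, b4⟩ := key h.h₂ c₂
    rcases h.quot ih' (fun e => hy1 (e ▸ mem_zpowers y)) (le_inf a1 b1) a3 b3 a4 b4 with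
      ⟨K, k1, k2, k3, k4, k5, k6, k7, k8⟩ | hs | hs
    · exact Or.inl ⟨K, bot_le, k2, k3, k4, res_trans (h.h₁.pX a1) bot_le a2 k5,
        res_trans (h.h₂.pX b1) bot_le b2 k6, k7, k8⟩
    · exact (hs.false h.h₁ a1 (h.h₁.le.trans hG) inferInstance c₁).elim
    · exact (hs.false h.h₂ b1 (h.h₂.le.trans hG) inferInstance c₂).elim

/-- **Pairs of minimal models in sectional rank three.** -/
theorem Am.main (h : Am p G E₁ E₂ L₁ L₂) :
    KCfg p E₁ E₂ L₁ L₂ ⊥ ∨ SpI p G E₁ E₂ L₁ ∨ SpI p G E₂ E₁ L₂ :=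
  amIH p _ Γ G E₁ E₂ L₁ L₂ (Nat.lt_succ_self _) h

theorem Am.caseI (h : Am p G E₁ E₂ L₁ L₂)
    (hn : ¬ ⁅pResOf p L₁, E₁ ⊓ centralizer (E₁ : Set Γ)⁆ ≤ ⊥) :
    (E₁ ≤ centralizer (E₁ : Set Γ) ∧ E₂ ≤ centralizer (E₂ : Set Γ)) ∨ SpI p G E₁ E₂ L₁ ∨
      SpI p G E₂ E₁ L₂ := h.caseI_aux (amIH p _) hn

/-- Elements inverted by `z` when `E / D` is the only noncentral factor. -/
theorem NatSec.inverted (h : NatSec p G E L D E) (h2 : p ≠ 2) (hO : ⁅pResOf p L, D⁆ ≤ ⊥)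
    (hz : z ∈ L) (hzc : (orderOf z).Coprime p) (hzE : ∀ y ∈ E, y * (z * y * z⁻¹) ∈ D)
    (ha : a ∈ E) : a * (z * a * z⁻¹)⁻¹ ∈ centralizer (D : Set Γ) ∧
      z * (a * (z * a * z⁻¹)⁻¹) * z⁻¹ = (a * (z * a * z⁻¹)⁻¹)⁻¹ ∧
      (a * (z * a * z⁻¹)⁻¹) ^ p = 1 := by
  have hzD : ∀ x ∈ D, z * x * z⁻¹ = x := fun x hx => by
    rw [show z * x * z⁻¹ = ⁅z, x⁆ * x by group, mem_bot.1 (cm_mem_of_res hO hz hzc hx), one_mul]
  have ha' := conj_mem (h.norm hz) ha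
  have h1 : z * (z * a * z⁻¹) * z⁻¹ = a := by
    have := cm_trans (z := z * z) (y := a) (Nat.Coprime.coprime_dvd_left
      (by rw [← pow_two]; exact orderOf_pow_dvd 2) hzc) (h.pX h.XY) bot_le
      (fun x hx => by
        rw [show ⁅z * z, x⁆ = z * (z * x * z⁻¹) * z⁻¹ * x⁻¹ by group, hzD x hx, hzD x hx]; simp)
      (by
        have := D.mul_mem (conj_mem' (h.invX (h.EL ha')) (hzE _ ha')) (D.inv_mem (hzE a ha))
        convert this using 1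
        group)
    rw [← mul_inv_eq_one, ← mem_bot.1 this]; group
  have h3 : z * (a * (z * a * z⁻¹)⁻¹) * z⁻¹ = (a * (z * a * z⁻¹)⁻¹)⁻¹ := by
    rw [show z * (a * (z * a * z⁻¹)⁻¹) * z⁻¹ = z * a * z⁻¹ * (z * (z * a * z⁻¹) * z⁻¹)⁻¹ by group, h1]
    group
  refine ⟨fun d hd => ?_, h3, ?_⟩
  · have h4 := hzD _ (conj_mem' (h.invX (h.EL ha)) hd)
    calc d * (a * (z * a * z⁻¹)⁻¹) = a * (a⁻¹ * d * a) * (z * a * z⁻¹)⁻¹ := by group
      _ = a * (z * a * z⁻¹)⁻¹ * (z * d * z⁻¹) := by rw [← h4]; group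
      _ = _ := by rw [hzD d hd]
  · have h4 := h.pow_mem' (E.mul_mem ha (E.inv_mem ha'))
    have h5 := hzD _ h4
    rw [← conj_pow, h3, inv_pow, inv_eq_iff_mul_eq_one] at h5
    exact mem_bot.1 (mem_of_sq_mem h2 (pg_zpowers (h.pX h.XY) h4) (mem_bot.2 h5))

/-- With the extension property the abelian-modulo-`K` configuration has a nontrivial action on
`Z(E₂)`. -/
theorem Am.not_kCfg (h : Am p G E₁ E₂ L₁ L₂) (hK : KCfg p E₁ E₂ L₁ L₂ ⊥)
    (cz : ⁅pResOf p L₂, E₂ ⊓ centralizer (E₂ : Set Γ)⁆ ≤ ⊥)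
    (ext : ∀ z ∈ L₁, z ∈ normalizer (G : Set Γ) → z ∈ normalizer (E₂ : Set Γ)) : False := by
  obtain ⟨K, -, k2, k3, k4, k5, k6, k7, k8⟩ := hK
  have hGK := h.h₁.GL'.trans k3
  have hD := commutator_le.1 (h.comm_le_of hGK k7 k8)
  obtain ⟨x, hx, hxE⟩ := h.exists₁
  obtain ⟨y, hy, hyE⟩ := h.exists₂
  have hxG := h.h₁.le hx
  have hyG := h.h₂.le hy
  obtain ⟨l, -, t1, t2, s1, t3, t4⟩ := h.h₁.transvection inf_le_left h.idx₁ h.GD k2 k3 k5 hyG hyE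
    (hD y hyG)
  obtain ⟨l', -, u1, -, s2, -, u4⟩ := h.h₂.transvection inf_le_right h.idx₂ h.GD k2 k4 k6 hxG hxE
    (hD x hxG)
  obtain ⟨haD, haD1⟩ := t4 x hx fun h' => hxE h'.2
  have haD2 := (u4 y hy fun h' => hyE h'.1).2
  obtain ⟨z, hz, hzc, hzN, hzG, hzE⟩ := s1.exists_z
  have hz2 := ext z hz hzN
  have hzE₂ : ∀ e ∈ E₂, ⁅z, e⁆ ∈ E₁ ⊓ E₂ := fun e he => ⟨hzG e (h.h₂.le he), cm_mem_right hz2 he⟩
  have d1 := hzE₂ y hy
  have d1G := h.h₁.le d1.1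
  have hK1 : ⁅y, x⁆ * (z * ⁅y, x⁆ * z⁻¹) ∈ K := by
    have := K.mul_mem (K.mul_mem (cm_swap (hD _ (G.mul_mem d1G (G.inv_mem hxG)) _ haD))
      (conj_mem (hGK (G.mul_mem d1G (G.inv_mem hxG))) (hD y hyG _ (hzE x hx).1)))
      (cm_swap (hD _ (conj_mem hzN hxG) _ d1))
    convert this using 1
    group
  set a := ⁅y, x⁆
  have hK2 : z * a * z⁻¹ * a ∈ K := by
    simpa [mul_assoc] using conj_mem' (hGK (h.h₁.le haD.1)) hK1
  obtain ⟨v1, v2, -⟩ := s1.inverted h.odd t3 hz hzc hzE haD.1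
  have e1 : a * (z * a * z⁻¹)⁻¹ * (a⁻¹ * (a * (z * a * z⁻¹ * a) * a⁻¹) * a) = a * a := by group
  have hvD : a * (z * a * z⁻¹)⁻¹ ∈ E₁ ⊓ E₂ := mul_mem haD (inv_mem
    ⟨conj_mem (h.h₁.norm hz) haD.1, conj_mem hz2 haD.2⟩)
  set v := a * (z * a * z⁻¹)⁻¹
  have e2 : v * (z * a * z⁻¹ * a) = a * a := by rw [← e1]; group
  have pa := pg_zpowers h.h₁.pE haD.1
  have hv1 : v ∉ E₁ ⊓ E₂ ⊓ conjS l (E₁ ⊓ E₂) := fun h' =>
    haD1 (mem_of_sq_mem h.odd pa (e2 ▸ mul_mem h' (t1 hK2)))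
  have hvc : v ∈ centralizer ((E₁ ⊓ E₂ : Subgroup Γ) : Set Γ) := by
    rw [← sup_zpowers_eq inf_le_left t2 hvD hv1]
    exact mem_centralizer_sup_zpowers v1 rfl
  obtain ⟨w, hw, hwD, hzw⟩ := exists_fixed_not_mem hzc (h.h₂.pX inf_le_right) inf_le_right hzE₂
    (not_le_of_relIndex_prime h.idx₂)
  have c1 := commutator_le.1 k8 v hvD.2 w hw
  have c2 : ⁅v, w⁆ * ⁅v, w⁆ = 1 := by
    have h1 := mem_bot.1 (cm_mem_of_res k5 hz hzc c1)
    rw [show ⁅z, ⁅v, w⁆⁆ = ⁅z * v * z⁻¹, z * w * z⁻¹⁆ * ⁅v, w⁆⁻¹ by group, v2, hzw.eq,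
      mul_inv_cancel_right, show ⁅v⁻¹, w⁆ = v⁻¹ * ⁅v, w⁆⁻¹ * v by group, mul_assoc v⁻¹,
      hvc _ (inv_mem (k2 c1)), inv_mul_cancel_left] at h1
    rw [← inv_eq_one, mul_inv_rev, h1]
  have c3 := mem_bot.1 (mem_of_sq_mem h.odd (pg_zpowers h.h₂.pE (k2 c1).2) (mem_bot.2 c2))
  have hvZ : v ∈ E₂ ⊓ centralizer (E₂ : Set Γ) := ⟨hvD.2, by
    rw [← sup_zpowers_eq inf_le_right h.idx₂ hw hwD]
    exact mem_centralizer_sup_zpowers hvc (commutatorElement_eq_one_iff_commute.1 c3)⟩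
  obtain ⟨z', hz', hzc', -, -, hzE'⟩ := s2.exists_z
  have h5 := hzE' v hvD.2
  rw [show z' * v * z'⁻¹ = ⁅z', v⁆ * v by group, mem_bot.1 (cm_mem_of_res cz hz' hzc' hvZ),
    one_mul] at h5
  have h6 := mem_of_sq_mem h.odd (pg_zpowers h.h₂.pE hvD.2) h5
  exact haD2 (cm_swap (mem_of_sq_mem h.odd pa (e2 ▸ mul_mem h6 (u1 hK2))))

theorem Am.main_ext (h : Am p G E₁ E₂ L₁ L₂)
    (ext : ∀ z ∈ L₁, z ∈ normalizer (G : Set Γ) → z ∈ normalizer (E₂ : Set Γ)) :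
    (E₁ ≤ centralizer (E₁ : Set Γ) ∧ E₂ ≤ centralizer (E₂ : Set Γ)) ∨ SpI p G E₁ E₂ L₁ ∨
      SpI p G E₂ E₁ L₂ := by
  by_cases c₂ : ⁅pResOf p L₂, E₂ ⊓ centralizer (E₂ : Set Γ)⁆ ≤ ⊥
  · exact Or.inr (h.main.resolve_left fun hK => h.not_kCfg hK c₂ ext)
  · exact (h.symm.caseI c₂).imp And.symm Or.symm

end Main

end CfsgLib.Fus2
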