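import Mathlib
import Cfsg.Agent.Lib.Fusion.AutPair

/-!
A group with a strongly `p`-embedded subgroup acting faithfully on `𝔽_p ^ 3`, `p` odd, has Sylow
`p`-subgroups of order `p`.
-/

set_option autoImplicit false

namespace CfsgLib.Fus2

open Subgroup Cfsg CfsgLib.Fusion
open scoped commutatorElement

section R1

variable {E : Type*} [Group E] [Finite E] {p : ℕ} [hp : Fact p.Prime]

theorem r1_mk_comm (hE : IsPGroup p E) (a b : E ⧸ frattini E) : a * b = b * a := by
  obtain ⟨a, rfl⟩ := QuotientGroup.mk'_surjective _ a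
  obtain ⟨b, rfl⟩ := QuotientGroup.mk'_surjective _ b
  rw [← map_mul, ← map_mul, QuotientGroup.mk'_apply, QuotientGroup.mk'_apply, QuotientGroup.eq]
  refine CfsgLib.PGroup.commutator_le_frattini hE ?_
  have : ⁅b⁻¹, a⁻¹⁆ ∈ _root_.commutator E := commutator_mem_commutator (mem_top b⁻¹) (mem_top a⁻¹)
  simpa [commutatorElement_def, mul_assoc] using this

theorem r1_normal (hE : IsPGroup p E) {X : Subgroup E} (hX : frattini E ≤ X) : X.Normal :=
  ⟨fun x hx g => by
    have : ⁅g, x⁆ ∈ _root_.commutator E := commutator_mem_commutator (mem_top g) (mem_top x)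
    have := X.mul_mem (hX (CfsgLib.PGroup.commutator_le_frattini hE this)) hx
    simpa [commutatorElement_def, mul_assoc] using this⟩

theorem r1_step (hE : IsPGroup p E) {U : Subgroup (MulAut E)} (hU : IsPGroup p U)
    {X : Subgroup E} (hΦ : frattini E ≤ X) (hX : AInv U X) (hne : X ≠ ⊤) :
    ∃ Y : Subgroup E, X ≤ Y ∧ AInv U Y ∧ X.relIndex Y = p := by
  have := r1_normal hE hΦ
  obtain ⟨y, -, hy, hfix⟩ := exists_fixed_mod hE hU hX (aInv_top U) (fun h => hne (top_le_iff.1 h))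
  refine ⟨X ⊔ zpowers y, le_sup_left, aInv_of_stabOn (X := X) (Y := X ⊔ zpowers y) (fun u hu =>
    (stabOn_of_inv (hX u hu)).sup (stabOn_zpowers (hfix u hu))) le_sup_left le_rfl, ?_⟩
  have h1 := CfsgLib.PGroup.card_sup_zpowers (p := p) hy (hΦ (CfsgLib.PGroup.pow_mem_frattini hE y))
  have h2 := CfsgLib.Core.card_mul_relIndex_of_le (le_sup_left : X ≤ X ⊔ zpowers y)
  rw [h1] at h2
  exact Nat.eq_of_mul_eq_mul_left Nat.card_pos h2

theorem r1_stabOn_inn (hE : IsPGroup p E) {u : MulAut E} (hu : u ∈ Inn E) :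
    StabOn u (frattini E) ⊤ := by
  obtain ⟨g, rfl⟩ := hu
  intro y _
  refine CfsgLib.PGroup.commutator_le_frattini hE ?_
  have : ⁅y⁻¹, g⁆ ∈ _root_.commutator E := commutator_mem_commutator (mem_top _) (mem_top _)
  simpa [commutatorElement_def, mul_assoc] using this

theorem r1_relIndex_stabSub (hE : IsPGroup p E) {U : Subgroup (MulAut E)} (hU : IsPGroup p U)
    {X Y : Subgroup E} (hΦ : frattini E ≤ X) (hX : AInv U X) (hY : AInv U Y)
    (hi : X.relIndex Y = p ^ 2) : (stabSub U X hY).relIndex U ∣ p := by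
  have := r1_normal hE hΦ
  have h0 : ElemTwo p (Sec X Y) := elemTwo_sec (fun a _ b _ => hΦ (by
      rw [← QuotientGroup.eq, QuotientGroup.mk_mul, QuotientGroup.mk_mul]
      exact r1_mk_comm hE _ _))
    (fun a _ => hΦ (CfsgLib.PGroup.pow_mem_frattini hE a)) hi
  have h1 := h0.card_dvd_of_isPGroup (hU.of_surjective _ (secAut hX hY).rangeRestrict_surjective)
  rw [← index_ker] at h1
  have h2 : (stabSub U X hY).subgroupOf U = (secAut hX hY).ker := by
    ext a
    rw [mem_subgroupOf, mem_stabSub, MonoidHom.mem_ker, secAut_eq_one_iff]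
    exact and_iff_right a.2
  rwa [relIndex, h2]

variable {A U M : Subgroup (MulAut E)} {L W : Subgroup E}

/-- A transvection in `U`. -/
theorem r1_exists_transvection (h : EssAut p A U M) (hE : IsPGroup p E) (hΦ : frattini E ≤ L)
    (hLW : L ≤ W) (hL : AInv U L) (hW : AInv U W) (i1 : (frattini E).relIndex L = p)
    (i2 : L.relIndex W = p) (i3 : W.index = p) (hn : ¬ (Inn E).relIndex U ∣ p) :
    ∃ y ∈ U, y ∉ Inn E ∧ StabOn y L ⊤ ∧ StabOn y (frattini E) W := by
  by_contra hcon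
  push Not at hcon
  have hLn := r1_normal hE hΦ
  have hWn := r1_normal hE (hΦ.trans hLW)
  have k1 := r1_relIndex_stabSub hE h.isPGroup hΦ hL (aInv_top U)
    (by rw [← relIndex_mul_relIndex L W ⊤ hLW le_top, i2, relIndex_top_right, i3, pow_two])
  have k2 := r1_relIndex_stabSub hE h.isPGroup le_rfl (aInv_frattini U) hW
    (by rw [← relIndex_mul_relIndex _ L W hΦ hLW, i1, i2, pow_two])
  have key : ∀ y, y ∈ stabSub U L (aInv_top U) → y ∈ stabSub U (frattini E) hW → y ∈ Inn E :=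
    fun y h1 h2 => by
      by_contra hI
      exact hcon y h1.1 hI h1.2 h2.2
  have aux : ∀ K : Subgroup (MulAut E), K ≤ Inn E → K.relIndex U ∣ p → False := fun K hK hd =>
    hn ((relIndex_dvd_of_le_left U hK).trans hd)
  obtain ⟨a, ha, ha'⟩ := SetLike.not_le_iff_exists.1
    fun hle : stabSub U L (aInv_top U) ≤ stabSub U (frattini E) hW =>
      aux _ (fun y hy => key y hy (hle hy)) k1
  obtain ⟨b, hb, hb'⟩ := SetLike.not_le_iff_exists.1
    fun hle : stabSub U (frattini E) hW ≤ stabSub U L (aInv_top U) =>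
      aux _ (fun y hy => key y (hle hy) hy) k2
  have hc : a * b * a⁻¹ * b⁻¹ ∈ Inn E := key _
    (by
      have := mul_mem ha (conj_mem_stabSub hL (aInv_top U) hb.1 (inv_mem ha))
      simpa only [mul_assoc] using this)
    (mul_mem (conj_mem_stabSub (aInv_frattini U) hW ha.1 hb) (inv_mem hb))
  have hc' := stabOn_iff_mk.1 (r1_stabOn_inn hE hc)
  obtain ⟨x, hx⟩ : ∃ x, x⁻¹ * b x ∉ L := by
    by_contra hx
    push Not at hx
    exact hb' ⟨hb.1, fun y _ => hx y⟩
  set t := x⁻¹ * b x with ht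
  have htW : t ∈ W := stabOn_of_relIndex_prime hE h.isPGroup hW (aInv_top U) le_top
    (by rw [relIndex_top_right, i3]) hb.1 x (mem_top x)
  set l := x⁻¹ * a x with hl
  have hlL : l ∈ L := ha.2 x (mem_top x)
  have e1 : b x = x * t := by simp [ht]
  have e2 : a x = x * l := by simp [hl]
  clear_value t l
  have e3 := hc' (b (a x)) (mem_top _)
  have e4 : (a * b * a⁻¹ * b⁻¹) (b (a x)) = a (b x) := by simp
  rw [e4, e1, e2, map_mul a, map_mul b, e1, e2, map_mul, map_mul, map_mul, map_mul,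
    stabOn_iff_mk.1 hb.2 l (hLW hlL), mul_assoc, mul_assoc, mul_right_inj,
    r1_mk_comm hE _ (QuotientGroup.mk' _ l), mul_right_inj] at e3
  refine ha' ⟨ha.1, ?_⟩
  rw [← eq_sup_zpowers_of_relIndex_prime hLW (i2 ▸ hp.out) htW hx]
  refine (stabOn_of_relIndex_prime hE h.isPGroup (aInv_frattini U) hL hΦ (by rw [i1]) ha.1).sup
    (stabOn_zpowers ?_)
  rw [← QuotientGroup.eq]
  exact e3.symm

/-- The centre of a conjugate transvection outside `M` is not on the axis. -/
theorem r1_opposite (h : EssAut p A U M) (hE : IsPGroup p E) (hΦ : frattini E ≤ L)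
    (hLW : L ≤ W) {y : MulAut E} (hy : y ∈ U) (hyI : y ∉ Inn E) (h1 : StabOn y L ⊤)
    (h2 : StabOn y (frattini E) W) {g : MulAut E} (hg : g ∈ A) (hgM : g ∉ M) :
    ¬ L.map g.toMonoidHom ≤ W := by
  intro hle
  have hΦ' : (frattini E).map g.toMonoidHom = frattini E := (aInv_frattini A).map_eq hg
  have h1' := h1.cjA g
  have h2' := h2.cjA g
  rw [map_top_of_surjective _ g.surjective] at h1'
  rw [hΦ'] at h2'
  set L' := L.map g.toMonoidHom with hL'
  have hΦL' : frattini E ≤ L' := hΦ' ▸ map_mono hΦ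
  have hLW' : L' ≤ W.map g.toMonoidHom := map_mono hLW
  have hgen : ∀ X Y : Subgroup E, X ≤ Y → StabOn y X Y → StabOn (g * y * g⁻¹) X Y →
      CopStab p (zpowers y ⊔ zpowers (g * y * g⁻¹)) X Y y := fun X Y hXY a b => by
    have hz : ∀ v : MulAut E, StabOn v X Y → ∀ u ∈ zpowers v, StabOn u X Y := fun v hv u hu =>
      ((zpowers_le.2 ⟨mem_zpowers v, hv⟩ : zpowers v ≤
        stabSub (zpowers v) X (aInv_zpowers_aut fun _ hx => hv.apply_mem hXY hx)) hu).2
    exact copStab_of_forall (forall_stabOn_sup hXY (hz _ a) (hz _ b)) (mem_sup_left (mem_zpowers y))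
  have := r1_normal hE hΦL'
  refine hyI (h.mem_Inn_of_sub hE (B := zpowers y ⊔ zpowers (g * y * g⁻¹))
    (sup_le (zpowers_le.2 (h.U_le_A hy)) (zpowers_le.2
      (A.mul_mem (A.mul_mem hg (h.U_le_A hy)) (A.inv_mem hg))))
    (mem_sup_right (mem_zpowers _)) ?_ (h.conj_notMem hg hgM hy hyI) (h.U_le hy) ?_)
  · have := (h.isPGroup_zpowers hy).map (MulAut.conj g).toMonoidHom
    rwa [MonoidHom.map_zpowers] at this
  · refine CopStab.trans hE hΦL' (hgen _ _ hΦL' (h2.mono le_rfl hle) (h2'.mono le_rfl hLW'))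
      (CopStab.trans (X := L ⊔ L') hE le_sup_right
        (hgen _ _ le_sup_right (h2.mono hΦL' (sup_le hLW hle)) (h1'.mono le_rfl le_top))
        (hgen _ _ le_top (h1.mono le_sup_left le_rfl) (h1'.mono le_sup_right le_rfl)))

theorem r1_pow_apply {y : MulAut E} (h2 : StabOn y (frattini E) W) (hΦ : frattini E ≤ W) {z l : E}
    (hl : l ∈ W) (e : y z = z * l) (k : ℕ) :
    QuotientGroup.mk' (frattini E) ((y ^ k) z) =
      QuotientGroup.mk' (frattini E) z * QuotientGroup.mk' (frattini E) l ^ k := by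
  induction k with
  | zero => simp
  | succ k ih =>
    rw [pow_succ, MulAut.mul_apply, e, map_mul, map_mul, ih,
      stabOn_iff_mk.1 (h2.pow (fun _ hx => h2.apply_mem hΦ hx) k) l hl, pow_succ, mul_assoc]

theorem r1_cube (h : EssAut p A U M) (hE : IsPGroup p E) (hi : (frattini E).index = p ^ 3) :
    (Inn E).relIndex U ∣ p := by
  by_contra hn
  have h1p := hp.out.one_lt
  obtain ⟨L, hΦ, hL, i1⟩ := r1_step hE h.isPGroup le_rfl (aInv_frattini U) (fun e => by
    rw [e, index_top] at hi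
    exact absurd hi (Nat.one_lt_pow (by norm_num) h1p).ne)
  have iL : L.index = p ^ 2 := by
    have := relIndex_mul_index hΦ
    rw [i1, hi, pow_succ'] at this
    exact Nat.eq_of_mul_eq_mul_left hp.out.pos this
  obtain ⟨W, hLW, hW, i2⟩ := r1_step hE h.isPGroup hΦ hL (fun e => by
    rw [e, index_top] at iL
    exact absurd iL (Nat.one_lt_pow (by norm_num) h1p).ne)
  have i3 : W.index = p := by
    have := relIndex_mul_index hLW
    rw [i2, iL, pow_two] at this
    exact Nat.eq_of_mul_eq_mul_left hp.out.pos this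
  obtain ⟨y, hy, hyI, h1, h2⟩ := r1_exists_transvection h hE hΦ hLW hL hW i1 i2 i3 hn
  have hΦW := hΦ.trans hLW
  have hWn := r1_normal hE hΦW
  have i3' : (W.relIndex ⊤).Prime := by rw [relIndex_top_right, i3]; exact hp.out
  have hgenW : ∀ v : MulAut E, StabOn v (frattini E) W → ∀ z, z ∉ W → z⁻¹ * v z ∈ frattini E →
      StabOn v (frattini E) ⊤ := fun v hv z hz hz' => by
    rw [← eq_sup_zpowers_of_relIndex_prime le_top i3' (mem_top z) hz]
    exact hv.sup (stabOn_zpowers hz')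
  obtain ⟨g, hg, hgM⟩ := h.exists_notMem
  obtain ⟨_, ⟨x, hx, rfl⟩, hxW⟩ :=
    SetLike.not_le_iff_exists.1 (r1_opposite h hE hΦ hLW hy hyI h1 h2 hg hgM)
  change g x ∉ W at hxW
  have hxΦ : x ∉ frattini E := fun hh => hxW (hΦW (aInv_frattini A g hg x hh))
  have hyp : y ^ p ∈ Inn E := by
    refine h.mem_Inn_of_stabOn hE (h.U_le_A (U.pow_mem hy p))
      (hgenW _ (h2.pow (fun _ hx => h2.apply_mem hΦW hx) p) _ hxW ?_)
    have := r1_pow_apply h2 hΦW (z := g x) (hLW (h1 (g x) (mem_top _))) (by simp) p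
    rw [← map_pow, (QuotientGroup.eq_one_iff _).2 (CfsgLib.PGroup.pow_mem_frattini hE _) |>
      (QuotientGroup.mk'_apply _ _).trans, mul_one] at this
    rw [← QuotientGroup.eq]
    exact this.symm
  have hU : U = Inn E ⊔ zpowers y := by
    refine le_antisymm (fun u hu => ?_) (sup_le h.inn (zpowers_le.2 hy))
    set z := u (g x) with hz
    have hzW : z ∉ W := fun hh => hxW ((hW.mem_iff hu).1 hh)
    set l := z⁻¹ * y z with hl
    have hlL : l ∈ L := h1 z (mem_top z)
    have hlΦ : l ∉ frattini E := fun hh =>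
      hyI (h.mem_Inn_of_stabOn hE (h.U_le_A hy) (hgenW y h2 z hzW hh))
    have hlW : g⁻¹ l ∉ W := fun hh => by
      refine r1_opposite h hE hΦ hLW hy hyI h1 h2 (A.inv_mem hg) (fun hh => hgM (by simpa using hh)) ?_
      rw [← eq_sup_zpowers_of_relIndex_prime hΦ (i1 ▸ hp.out) hlL hlΦ, Subgroup.map_sup,
        (aInv_frattini A).map_eq (A.inv_mem hg), MonoidHom.map_zpowers]
      exact sup_le hΦW (zpowers_le.2 hh)
    obtain ⟨k, hk⟩ : ∃ k : ℕ, g⁻¹ z * g⁻¹ l ^ k ∈ W := by
      have hm : (g⁻¹ z)⁻¹ ∈ W ⊔ zpowers (g⁻¹ l) := by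
        rw [eq_sup_zpowers_of_relIndex_prime le_top i3' (mem_top _) hlW]; exact mem_top _
      obtain ⟨w, hw, j, e⟩ := CfsgLib.PGroup.mem_sup_zpowers_iff.1 hm
      obtain ⟨k, hk⟩ := mem_powers_iff_mem_zpowers.2 (zpow_mem_zpowers (g⁻¹ l) j)
      refine ⟨k, ?_⟩
      have hk' : g⁻¹ l ^ k = g⁻¹ l ^ j := hk
      have : g⁻¹ z * g⁻¹ l ^ k = g⁻¹ z * w⁻¹ * (g⁻¹ z)⁻¹ := by rw [hk', ← e]; group
      rw [this]
      exact hWn.conj_mem _ (W.inv_mem hw) _
    have hyu : y ^ k * u ∈ U := U.mul_mem (U.pow_mem hy k) hu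
    have hI : y ^ k * u ∈ Inn E := by
      by_contra hI
      have hA : g⁻¹ * (y ^ k * u) * g⁻¹⁻¹ ∈ A :=
        A.mul_mem (A.mul_mem (A.inv_mem hg) (h.U_le_A hyu)) (A.inv_mem (A.inv_mem hg))
      refine r1_opposite h hE hΦ hLW hy hyI h1 h2 hA (h.conj_notMem (A.inv_mem hg)
        (fun hh => hgM (by simpa using hh)) hyu hI) ?_
      rw [← eq_sup_zpowers_of_relIndex_prime hΦ (i1 ▸ hp.out) hx hxΦ, Subgroup.map_sup,
        (aInv_frattini A).map_eq hA, MonoidHom.map_zpowers]
      refine sup_le hΦW (zpowers_le.2 ?_)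
      have e := r1_pow_apply h2 hΦW (z := z) (hLW hlL) (by simp [hl]) k
      rw [← map_pow, ← map_mul, eq_comm, QuotientGroup.mk'_apply, QuotientGroup.mk'_apply,
        QuotientGroup.eq] at e
      have e' := W.mul_mem hk (hΦW (aInv_frattini A _ (A.inv_mem hg) _ e))
      rw [← map_pow, ← map_mul, ← map_mul, mul_inv_cancel_left] at e'
      simpa [hz] using e'
    have := mul_mem (mem_sup_right (inv_mem (pow_mem (mem_zpowers y) k)))
      (mem_sup_left hI : y ^ k * u ∈ Inn E ⊔ zpowers y)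
    simpa using this
  have := finite_mulAut' E
  have h3 := CfsgLib.PGroup.card_sup_zpowers (p := p) hyI hyp
  have h4 := CfsgLib.Core.card_mul_relIndex_of_le h.inn
  rw [← hU, ← h4] at h3
  exact hn (by rw [Nat.eq_of_mul_eq_mul_left Nat.card_pos h3])

end R1

theorem relIndex_Inn_of_rank_three {E : Type*} [Group E] [Finite E] {p : ℕ} [hp : Fact p.Prime]
    {A U M : Subgroup (MulAut E)} (h : EssAut p A U M) (hE : IsPGroup p E) (h2 : p ≠ 2)
    (hi : (frattini E).index ≤ p ^ 3) : (Inn E).relIndex U = p := by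
  obtain ⟨d, hd, e⟩ := h.exists_index_frattini hE
  rw [e, Nat.pow_le_pow_iff_right hp.out.one_lt] at hi
  interval_cases d
  · exact SecSq.relIndex_Inn (X := frattini E) (Y := ⊤)
      { h with
        pg := hE, invX := aInv_frattini A, invY := aInv_top A, le := le_top
        idx := by rwa [relIndex_top_right], faith := fun u _ hc => h.mem_Inn hE hc }
  · exact ((Nat.dvd_prime hp.out).1 (r1_cube h hE e)).resolve_left
      fun e => h.U_not_le (relIndex_eq_one.1 e)

end CfsgLib.Fus2
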