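import Mathlib
import Cfsg.Agent.Lib.Fus2.Par
import Cfsg.Agent.Lib.Fus2.R1
import Cfsg.Agent.Lib.Fusion.LocalModel
import Cfsg.Agent.Lib.Fusion.Iso
import Cfsg.Agent.Lib.Fusion.Top
import Cfsg.Agent.Lib.Fusion.AbIdx
import Cfsg.Agent.Lib.InvChar.AutElem

/-!
Every saturated fusion system is isomorphic to one inside a finite group that contains models of
all the normalizer systems of centric fully normalized subgroups.
-/

set_option autoImplicit false
set_option linter.unusedSectionVars false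

namespace CfsgLib.Fus2

open Subgroup Cfsg Cfsg.FusionSystem CfsgLib.LAE CfsgLib.Fusion
open scoped commutatorElement

universe u

theorem exists_free_coord {N A : Type u} [Group N] [Group A] [Finite A] {i : N →* A}
    (hi : Function.Injective i) : ∃ (T : Type u) (_ : Finite T) (_ : Nonempty T) (e : A ≃ N × T),
      ∀ n a, e (i n * a) = (n * (e a).1, (e a).2) := by
  obtain ⟨T, hT, h1⟩ := i.range.exists_isComplement_right 1
  refine ⟨T, inferInstance, ⟨⟨1, h1⟩⟩,
    hT.equiv.trans (Equiv.prodCongr (MonoidHom.ofInjective hi).symm.toEquiv (Equiv.refl _)),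
    fun n a => ?_⟩
  have := hT.equiv_mul_left_of_mem (h := i n) (g := a) ⟨n, rfl⟩
  simp only [Equiv.trans_apply, this, Equiv.prodCongr_apply, Prod.map, Equiv.refl_apply]
  refine Prod.ext ?_ rfl
  apply (MonoidHom.ofInjective hi).injective
  simp only [MulEquiv.toEquiv_eq_coe, MulEquiv.coe_toEquiv, MulEquiv.apply_symm_apply, map_mul]
  rfl

/-- Left multiplication on the first factor, transported along a bijection. -/
def lmulPerm {A T X : Type u} [Group A] (e : A × T ≃ X) : A →* Equiv.Perm X :=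
  MonoidHom.mk' (fun a => e.permCongr (Equiv.prodCongr (Equiv.mulLeft a) (Equiv.refl T)))
    fun a b => by ext x; simp [Prod.map]

theorem lmulPerm_apply {A T X : Type u} [Group A] (e : A × T ≃ X) (a b : A) (t : T) :
    lmulPerm e a (e (b, t)) = e (a * b, t) := by simp [lmulPerm]

theorem lmulPerm_injective {A T X : Type u} [Group A] [Nonempty T] (e : A × T ≃ X) :
    Function.Injective (lmulPerm e) := by
  obtain ⟨t⟩ := ‹Nonempty T›
  intro a b h
  have := lmulPerm_apply e a 1 t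
  rw [h, lmulPerm_apply] at this
  simpa using (e.injective this).symm

/-- Two finite groups embed in a finite group compatibly with a common subgroup. -/
theorem exists_amalgam {N A B : Type u} [Group N] [Group A] [Group B] [Finite A] [Finite B]
    {i : N →* A} {j : N →* B} (hi : Function.Injective i) (hj : Function.Injective j) :
    ∃ (Γ : Type u) (_ : Group Γ) (_ : Finite Γ) (κ : A →* Γ) (μ : B →* Γ),
      Function.Injective κ ∧ Function.Injective μ ∧ ∀ n, κ (i n) = μ (j n) := by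
  obtain ⟨T, _, _, e, he⟩ := exists_free_coord hi
  obtain ⟨T', _, _, e', he'⟩ := exists_free_coord hj
  have : Finite N := Finite.of_injective i hi
  let a : A × T' ≃ (N × T) × T' := Equiv.prodCongr e (Equiv.refl _)
  let s : (N × T') × T ≃ (N × T) × T' :=
    ⟨fun x => ((x.1.1, x.2), x.1.2), fun x => ((x.1.1, x.2), x.1.2), fun _ => rfl, fun _ => rfl⟩
  let b : B × T ≃ (N × T) × T' := (Equiv.prodCongr e' (Equiv.refl _)).trans s
  refine ⟨Equiv.Perm ((N × T) × T'), inferInstance, inferInstance, lmulPerm a, lmulPerm b,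
    lmulPerm_injective a, lmulPerm_injective b, fun n => Equiv.ext fun ⟨⟨m, t⟩, t'⟩ => ?_⟩
  have h1 : ((m, t), t') = a (e.symm (m, t), t') := by simp [a]
  have h2 : ((m, t), t') = b (e'.symm (m, t'), t) := by simp [b, s]
  conv_lhs => rw [h1, lmulPerm_apply]
  conv_rhs => rw [h2, lmulPerm_apply]
  simp [a, b, s, he, he']

section TMod

variable {Ω : Type*} [Group Ω] {S P : Subgroup Ω} {F : FusionSystem S} {p : ℕ}
  {Γ : Type*} [Group Γ] {Γ' : Type*} [Group Γ'] {t : Ω → Γ} {L : Subgroup Γ}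

/-- `L` is a model of the normalizer system of `P`, read through `t`. -/
structure TMod (p : ℕ) (F : FusionSystem S) (P : Subgroup Ω) (t : Ω → Γ) (L : Subgroup Γ) :
    Prop where
  mod : Mod p (img (normalizerIn S P) t) (img P t) L
  mor : ∀ R ≤ normalizerIn S P, ∀ g ∈ L, (∀ x ∈ R, g * t x * g⁻¹ ∈ img (normalizerIn S P) t) →
    ∃ f, Mor F R f ∧ ∀ x ∈ R, t (f x) = g * t x * g⁻¹
  lift : ∀ R f, P ≤ R → R ≤ normalizerIn S P → Mor F R f → img P f = P →
    ∃ g ∈ L, ∀ x ∈ R, t (f x) = g * t x * g⁻¹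

theorem img_comp_hom (R : Subgroup Ω) (t : Ω → Γ) (κ : Γ →* Γ') :
    img R (fun x => κ (t x)) = (img R t).map κ := by
  rw [img, img, MonoidHom.map_closure, Set.image_image]

theorem TMod.map [Finite Γ] [Fact p.Prime] (h : TMod p F P t L) {κ : Γ →* Γ'}
    (hκ : Function.Injective κ) : TMod p F P (fun x => κ (t x)) (L.map κ) where
  mod := by rw [img_comp_hom, img_comp_hom]; exact h.mod.map_inj hκ
  mor R hR := by
    rintro _ ⟨g, hg, rfl⟩ hm
    obtain ⟨f, hf, e⟩ := h.mor R hR g hg fun x hx => by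
      have := hm x hx
      rwa [img_comp_hom, ← map_inv, ← map_mul, ← map_mul, mem_map_iff_mem hκ] at this
    exact ⟨f, hf, fun x hx => by rw [e x hx, map_mul, map_mul, map_inv]⟩
  lift R f h1 h2 hf e := by
    obtain ⟨g, hg, e'⟩ := h.lift R f h1 h2 hf e
    exact ⟨κ g, mem_map_of_mem κ hg, fun x hx => by rw [e' x hx, map_mul, map_mul, map_inv]⟩

theorem TMod.congr (h : TMod p F P t L) (hP : P ≤ S) {t' : Ω → Γ}
    (ht : IsHomOn (normalizerIn S P) t) (hi : Set.InjOn t (normalizerIn S P))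
    (hm : ∀ R ≤ normalizerIn S P, ∀ g ∈ L, (∀ x ∈ R, g * t x * g⁻¹ ∈ img (normalizerIn S P) t) →
      ∃ f, Mor F R f ∧ (∀ x ∈ R, f x ∈ normalizerIn S P) ∧ ∀ x ∈ R, t (f x) = g * t x * g⁻¹)
    (e : ∀ x ∈ normalizerIn S P, t x = t' x) : TMod p F P t' L where
  mod := by
    rw [← img_congr e, ← img_congr fun x hx => e x (le_normalizerIn hP hx)]; exact h.mod
  mor R hR g hg hc := by
    obtain ⟨f, hf, h1, h2⟩ := hm R hR g hg fun x hx => by
      rw [img_congr e, e x (hR hx)]; exact hc x hx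
    exact ⟨f, hf, fun x hx => by rw [← e _ (h1 x hx), h2 x hx, e x (hR hx)]⟩
  lift R f h1 h2 hf e1 := by
    obtain ⟨g, hg, e'⟩ := h.lift R f h1 h2 hf e1
    refine ⟨g, hg, fun x hx => ?_⟩
    rw [← e _ (e1 ▸ hf.mem_normalizerIn_img h1 hx (h2 hx).2), e' x hx, e x (h2 hx)]

end TMod

theorem exists_tMod_step {Ω : Type u} [Group Ω] {S P : Subgroup Ω} [Finite S] {F : FusionSystem S}
    {p : ℕ} [Fact p.Prime] (hS : IsPGroup p S) (hF : F.IsSaturated p) (hc : F.IsCentric P)
    (hP : F.IsFullyNormalized P) {Γ : Type u} [Group Γ] [Finite Γ] {t : Ω → Γ} (ht : IsHomOn S t)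
    (hi : Set.InjOn t S) : ∃ (Γ' : Type u) (_ : Group Γ') (_ : Finite Γ') (κ : Γ →* Γ')
      (L : Subgroup Γ'), Function.Injective κ ∧ TMod p F P (fun x => κ (t x)) L := by
  obtain ⟨G, _, θ, H, h⟩ := exists_locMod hS (isNormalIn_refl hF) hc hP
  have := h.finite
  have hX : P ⊔ centralizerIn S P = P := sup_eq_left.2 (centric_centralizerIn_le hc)
  have h0 : TMod p F P θ ⊤ :=
    { mod := ⟨h.syl, img_mono θ (le_normalizerIn hc.1), by
        have := h.normalP; rw [normalizer_eq_top], fun x _ hx => by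
        have := h.centX; rw [hX] at this; exact this hx⟩
      mor := fun R hR g _ hm => by
        obtain ⟨f, hf, -, e⟩ := h.exists_mor R hR g hm
        exact ⟨f, hf, e⟩
      lift := fun R f h1 h2 hf e => by
        obtain ⟨g, e'⟩ := h.lift R f (hX.le.trans h1) h2 hf e
        exact ⟨g, trivial, e'⟩ }
  obtain ⟨Γ', _, _, κ, μ, hκ, hμ, e⟩ := exists_amalgam
    (i := (ht.mono (normalizerIn_le S P)).toHom) (j := h.hom.toHom)
    (fun x y e => Subtype.ext (hi x.2.1 y.2.1 e)) (fun x y e => Subtype.ext (h.inj x.2 y.2 e))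
  refine ⟨Γ', inferInstance, inferInstance, κ, _, hκ, (h0.map hμ).congr hc.1
    (h.hom.comp (isHomOn_coe ⊤ μ) fun _ _ => trivial) (fun x hx y hy e => h.inj hx hy (hμ e)) ?_
    fun x hx => (e ⟨x, hx⟩).symm⟩
  rintro R hR _ ⟨g, -, rfl⟩ hm
  obtain ⟨f, hf, h1, e⟩ := h.exists_mor R hR g fun x hx => by
    have := hm x hx
    rwa [img_comp_hom, ← map_inv, ← map_mul, ← map_mul, mem_map_iff_mem hμ] at this
  exact ⟨f, hf, h1, fun x hx => by rw [e x hx, map_mul, map_mul, map_inv]⟩

theorem exists_tMod_all {Ω : Type u} [Group Ω] {S : Subgroup Ω} [Finite S] {F : FusionSystem S}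
    {p : ℕ} [Fact p.Prime] (hS : IsPGroup p S) (hF : F.IsSaturated p) (X : Finset (Subgroup S)) :
    ∃ (Γ : Type u) (_ : Group Γ) (_ : Finite Γ) (t : Ω → Γ), IsHomOn S t ∧ Set.InjOn t S ∧
      ∀ P, P.subgroupOf S ∈ X → F.IsCentric P → F.IsFullyNormalized P → ∃ L, TMod p F P t L := by
  classical
  induction X using Finset.induction_on with
  | empty =>
    exact ⟨S, inferInstance, inferInstance, toS S, isHomOn_extFun _, fun x hx y hy e => by
      rw [toS_of_mem hx, toS_of_mem hy] at e; exact congrArg Subtype.val e, fun P h => by simp at h⟩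
  | insert Q X _ ih =>
    obtain ⟨Γ, _, _, t, ht, hi, h⟩ := ih
    by_cases hQ : F.IsCentric (Q.map S.subtype) ∧ F.IsFullyNormalized (Q.map S.subtype)
    · obtain ⟨Γ', _, _, κ, L, hκ, hL⟩ := exists_tMod_step hS hF hQ.1 hQ.2 ht hi
      refine ⟨Γ', inferInstance, inferInstance, fun x => κ (t x),
        ht.comp (isHomOn_coe ⊤ κ) fun _ _ => trivial, fun x hx y hy e => hi hx hy (hκ e),
        fun P hP h1 h2 => ?_⟩
      rcases Finset.mem_insert.1 hP with rfl | hP
      · rw [map_subgroupOf_eq_of_le h1.1] at hL; exact ⟨L, hL⟩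
      · obtain ⟨L', hL'⟩ := h P hP h1 h2
        exact ⟨_, hL'.map hκ⟩
    · refine ⟨Γ, inferInstance, inferInstance, t, ht, hi, fun P hP h1 h2 => ?_⟩
      rcases Finset.mem_insert.1 hP with rfl | hP
      · rw [map_subgroupOf_eq_of_le h1.1] at hQ; exact (hQ ⟨h1, h2⟩).elim
      · exact h P hP h1 h2

section AMod

variable {Γ : Type*} [Group Γ] {S P L : Subgroup Γ} {F : FusionSystem S} {p : ℕ}

/-- `L` is a model of the normalizer system of `P` inside the ambient group. -/
structure AMod (p : ℕ) (F : FusionSystem S) (P L : Subgroup Γ) : Prop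
    extends Mod p (normalizerIn S P) P L where
  mor : ∀ R ≤ normalizerIn S P, ∀ g ∈ L, (∀ x ∈ R, g * x * g⁻¹ ∈ normalizerIn S P) →
    Mor F R fun x => g * x * g⁻¹
  lift : ∀ R f, P ≤ R → R ≤ normalizerIn S P → Mor F R f → img P f = P →
    ∃ g ∈ L, ∀ x ∈ R, f x = g * x * g⁻¹

/-- The ambient group contains all the local models. -/
structure LR (p : ℕ) (F : FusionSystem S) : Prop where
  pS : IsPGroup p S
  sat : F.IsSaturated p
  ex : ∀ P, F.IsCentric P → F.IsFullyNormalized P → ∃ L, AMod p F P L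

end AMod

theorem exists_LR {Ω : Type u} [Group Ω] {S : Subgroup Ω} [Finite S] {F : FusionSystem S}
    {p : ℕ} [Fact p.Prime] (hS : IsPGroup p S) (hF : F.IsSaturated p) :
    ∃ (Γ : Type u) (_ : Group Γ) (_ : Finite Γ) (t : Ω → Γ) (S' : Subgroup Γ)
      (F' : FusionSystem S'), IsFactor F ⊥ t F' ∧ LR p F' := by
  have := Fintype.ofFinite (Subgroup S)
  obtain ⟨Γ, _, _, t, ht, hi, h⟩ := exists_tMod_all hS hF Finset.univ
  obtain ⟨F', hF'⟩ := exists_iso_img F ht hi
  refine ⟨Γ, inferInstance, inferInstance, t, _, F', hF', hF'.isPGroup hS, hF'.iso_saturated hS hF,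
    fun P' hc hn => ?_⟩
  obtain ⟨P, hP, rfl⟩ := hF'.iso_exists_img hc.1
  obtain ⟨t', h', e, -⟩ := hF'.iso_symm
  have e1 := hF'.iso_img_img e hP
  obtain ⟨L, hL⟩ := h P (Finset.mem_univ _) (e1 ▸ h'.iso_centric hc)
    (e1 ▸ h'.iso_fullyNormalized hn)
  have eN := hF'.iso_img_normalizerIn hP
  have hR : ∀ R' ≤ normalizerIn (img S t) (img P t), ∃ R ≤ normalizerIn S P, img R t = R' :=
    fun R' hR' => by
      obtain ⟨R, hR, rfl⟩ := hF'.iso_exists_img (hR'.trans (normalizerIn_le _ _))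
      exact ⟨R, (ht.img_le_img_iff hi hR (normalizerIn_le _ _)).1 (eN ▸ hR'), rfl⟩
  refine ⟨L, eN ▸ hL.mod, fun R' hR' g hg hm => ?_, fun R' f' h1 h2 hf e2 => ?_⟩
  · obtain ⟨R, hR, rfl⟩ := hR R' hR'
    obtain ⟨f, hf, e3⟩ := hL.mor R hR g hg fun x hx => eN ▸ hm _ (mem_img_of_mem t hx)
    exact hF'.iso_mor hf fun x hx => (e3 x hx).symm
  · obtain ⟨R, hR, rfl⟩ := hR R' h2
    have hRS := hR.trans (normalizerIn_le _ _)
    have hPR := (ht.img_le_img_iff hi hP hRS).1 h1
    obtain ⟨f, hf', e3⟩ := hF'.iso_lift hRS hf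
    have := Fusion.finite_of_le hP
    obtain ⟨g, hg, e4⟩ := hL.lift R f hPR hR hf' ((hf'.mono hPR).img_eq_self fun x hx => by
      rw [← ht.mem_img_iff_of_injOn hi hP (hf'.mem (hPR hx)), ← e3 x (hPR hx), ← e2]
      exact mem_img_of_mem _ (mem_img_of_mem _ hx))
    refine ⟨g, hg, fun y hy => ?_⟩
    obtain ⟨x, hx, rfl⟩ := (ht.mono hRS).mem_img.1 hy
    rw [e3 x hx, e4 x hx]

end CfsgLib.Fus2
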