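import Mathlib
import Cfsg.Agent.Lib.Fus2.AM

/-!
Weights of an element acting on the factors of a chain in a `p`-group.
-/

set_option autoImplicit false
set_option linter.unusedSectionVars false

namespace CfsgLib.Fus2

open Subgroup Cfsg CfsgLib.LAE CfsgLib.Fusion
open scoped commutatorElement

variable {Γ : Type*} [Group Γ] {p : ℕ} {X Y Z G₀ G₁ Y₀ Y₁ X₀ X₁ X' : Subgroup Γ} {h h' g x y : Γ}
  {a b c : ℤ}

/-- `y` is an eigenvector of `h` modulo `X`. -/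
def Ew (h : Γ) (a : ℤ) (X : Subgroup Γ) (y : Γ) : Prop := (y ^ a)⁻¹ * (h * y * h⁻¹) ∈ X

theorem Wt.ew (H : Wt h a X Y) (hy : y ∈ Y) : Ew h a X y := H y hy

theorem Ew.mono (H : Ew h a X y) (hX : X ≤ X') : Ew h a X' y := hX H

theorem Wt.mono (H : Wt h a X Y) (hX : X ≤ X') (hZ : Z ≤ Y) : Wt h a X' Z :=
  fun y hy => hX (H y (hZ hy))

theorem Wt.congr (H : Wt h a X Y) (e : ∀ y ∈ Y, h * y * h⁻¹ = h' * y * h'⁻¹) : Wt h' a X Y :=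
  fun y hy => e y hy ▸ H y hy

theorem Wt.inf (H : Wt h a X Y) (hZ : Z ≤ Y) (hh : h ∈ normalizer (Z : Set Γ)) :
    Wt h a (X ⊓ Z) Z := fun y hy =>
  ⟨H y (hZ hy), Z.mul_mem (Z.inv_mem (Z.zpow_mem hy a)) (conj_mem hh hy)⟩

theorem wt_one (H : ∀ y ∈ Y, ⁅h, y⁆ ∈ X) : Wt h 1 X Y := fun y hy => by
  have e : ⁅y⁻¹, h⁆ = (y ^ (1 : ℤ))⁻¹ * (h * y * h⁻¹) := by group
  exact e ▸ cm_swap (H _ (Y.inv_mem hy))

theorem qeq {u v : normalizer (X : Set Γ)} : qN X u = qN X v ↔ (u : Γ)⁻¹ * v ∈ X :=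
  QuotientGroup.eq

theorem qone {u : normalizer (X : Set Γ)} : qN X u = 1 ↔ (u : Γ) ∈ X := QuotientGroup.eq_one_iff u

theorem qcomm {u v : normalizer (X : Set Γ)} : Commute (qN X u) (qN X v) ↔ ⁅(u : Γ), (v : Γ)⁆ ∈ X := by
  rw [← commutatorElement_eq_one_iff_commute, ← map_commutatorElement, qone]; rfl

theorem ew_iff (hh : h ∈ normalizer (X : Set Γ)) (hy : y ∈ normalizer (X : Set Γ)) :
    Ew h a X y ↔ qN X ⟨h, hh⟩ * qN X ⟨y, hy⟩ * (qN X ⟨h, hh⟩)⁻¹ = qN X ⟨y, hy⟩ ^ a := by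
  rw [← map_inv, ← map_mul, ← map_mul, ← map_zpow, eq_comm, qeq]; rfl

theorem Ew.mem_normalizer [Finite Γ] (H : Ew h a X y) (hh : h ∈ normalizer (X : Set Γ))
    (hy : y ∈ normalizer (X : Set Γ)) :
    h ∈ normalizer ((X ⊔ zpowers y : Subgroup Γ) : Set Γ) := by
  refine mem_normalizer_of_conjS_le ?_
  rw [conjS_sup, mem_normalizer_iff_conjS.1 hh, conjS_def, MonoidHom.map_zpowers]
  refine sup_le le_sup_left (zpowers_le.2 ?_)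
  have := mul_mem (mem_sup_right (S := X) (zpow_mem_zpowers y a)) (mem_sup_left H)
  rw [mul_inv_cancel_left] at this
  exact this

theorem Ew.wt (H : Ew h a X y) (hh : h ∈ normalizer (X : Set Γ))
    (hy : y ∈ normalizer (X : Set Γ)) : Wt h a X (X ⊔ zpowers y) := fun z hz => by
  obtain ⟨u, hu, i, rfl⟩ := (mem_sup_zpowers hy).1 hz
  have e : qN X ⟨u * y ^ i, mul_mem (le_normalizer hu) (zpow_mem hy i)⟩ = qN X ⟨y, hy⟩ ^ i := by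
    rw [← map_zpow, ← one_mul (qN X (_ ^ i)), ← (qone (u := ⟨u, le_normalizer hu⟩)).2 hu, ← map_mul]
    rfl
  refine (ew_iff hh (mul_mem (le_normalizer hu) (zpow_mem hy i))).2 ?_
  rw [e, ← conj_zpow, (ew_iff hh hy).1 H, ← zpow_mul, ← zpow_mul, mul_comm]

theorem Ew.comm (hh : h ∈ normalizer (X : Set Γ)) (hg : g ∈ normalizer (X : Set Γ))
    (hy : y ∈ normalizer (X : Set Γ)) (c1 : ⁅g, ⁅g, y⁆⁆ ∈ X) (c2 : ⁅y, ⁅g, y⁆⁆ ∈ X)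
    (c3 : ⁅(g ^ a)⁻¹ * (h * g * h⁻¹), h * y * h⁻¹⁆ ∈ X) (c4 : ⁅g, (y ^ b)⁻¹ * (h * y * h⁻¹)⁆ ∈ X) :
    Ew h (a * b) X ⁅g, y⁆ := by
  let H := qN X ⟨h, hh⟩
  let G := qN X ⟨g, hg⟩
  let Y := qN X ⟨y, hy⟩
  have d1 : Commute G ⁅G, Y⁆ := by
    rw [← map_commutatorElement]; exact qcomm.2 c1
  have d2 : Commute Y ⁅G, Y⁆ := by
    rw [← map_commutatorElement]; exact qcomm.2 c2
  have d3 : Commute ((G ^ a)⁻¹ * (H * G * H⁻¹)) (H * Y * H⁻¹) := by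
    simp only [G, H, Y, ← map_zpow, ← map_inv, ← map_mul]; exact qcomm.2 c3
  have d4 : Commute G ((Y ^ b)⁻¹ * (H * Y * H⁻¹)) := by
    simp only [G, H, Y, ← map_zpow, ← map_inv, ← map_mul]; exact qcomm.2 c4
  have key : H * ⁅G, Y⁆ * H⁻¹ = ⁅G, Y⁆ ^ (a * b) := by
    have e1 : H * ⁅G, Y⁆ * H⁻¹ =
        G ^ a * ⁅(G ^ a)⁻¹ * (H * G * H⁻¹), H * Y * H⁻¹⁆ * (G ^ a)⁻¹ * ⁅G ^ a, H * Y * H⁻¹⁆ := by
      group
    have e2 : ⁅G ^ a, H * Y * H⁻¹⁆ =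
        ⁅G ^ a, Y ^ b⁆ * (Y ^ b * ⁅G ^ a, (Y ^ b)⁻¹ * (H * Y * H⁻¹)⁆ * (Y ^ b)⁻¹) := by group
    have e3 := Core.commutatorElement_zpow_left_of_commute d1 a
    rw [e1, e2, d3.commutator_eq, (d4.zpow_left a).commutator_eq,
      Core.commutatorElement_zpow_right_of_commute (e3 ▸ d2.zpow_right a), e3, ← zpow_mul]
    simp
  refine (ew_iff hh (mul_mem (mul_mem (mul_mem hg hy) (inv_mem hg)) (inv_mem hy))).2 ?_
  rw [← map_commutatorElement] at key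
  exact key

theorem Ew.pow (hx : x ∈ normalizer (X : Set Γ)) (hh : h ∈ normalizer (X : Set Γ)) {n : ℕ}
    (c1 : ⁅x, (x ^ a)⁻¹ * (h * x * h⁻¹)⁆ ∈ X) (c2 : ((x ^ a)⁻¹ * (h * x * h⁻¹)) ^ n ∈ X) :
    Ew h a X (x ^ n) := by
  have := X.mul_mem c2 (mul_pow_mod (zpow_mem hx a)
    (mul_mem (inv_mem (zpow_mem hx a)) (mul_mem (mul_mem hh hx) (inv_mem hh)))
    (cm_zpow_left hx c1 a) n)
  rw [mul_inv_cancel_left, conj_pow, mul_inv_rev, ← mul_assoc, mul_inv_cancel_left,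
    ← zpow_natCast, ← zpow_mul, mul_comm a, zpow_mul, zpow_natCast] at this
  exact this

/-- An eigenvector in the abelian section `Z / X` outside `Y`. -/
theorem ew_eig (hh : h ∈ normalizer (X : Set Γ)) (hZ : Z ≤ normalizer (X : Set Γ))
    (hhZ : h ∈ normalizer (Z : Set Γ)) (hc : ⁅Z, Z⁆ ≤ X) (w1 : Wt h b X Y) (hg : g ∈ Z)
    (w2 : Ew h a Y g) : Ew h a X ((g ^ b)⁻¹ * (h * g * h⁻¹)) := by
  have h1 := conj_mem hhZ hg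
  have h2 := conj_mem hhZ h1
  have k := (ew_iff hh (hZ (Z.mul_mem (Z.inv_mem (Z.zpow_mem hg a)) h1))).1 (w1 _ w2)
  refine (ew_iff hh (hZ (Z.mul_mem (Z.inv_mem (Z.zpow_mem hg b)) h1))).2 ?_
  let H := qN X ⟨h, hh⟩
  let G := qN X ⟨g, hZ hg⟩
  have c1 : Commute G (H * G * H⁻¹) := by
    simp only [G, H, ← map_inv, ← map_mul]; exact qcomm.2 (commutator_le.1 hc _ hg _ h1)
  have e : ∀ i : ℤ, qN X ⟨_, hZ (Z.mul_mem (Z.inv_mem (Z.zpow_mem hg i)) h1)⟩ =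
      (G ^ i)⁻¹ * (H * G * H⁻¹) := fun i => by
    simp only [G, H, ← map_zpow, ← map_inv, ← map_mul]; rfl
  rw [e] at k ⊢
  change H * _ * H⁻¹ = _ at k ⊢
  have e1 : ∀ i : ℤ, H * ((G ^ i)⁻¹ * (H * G * H⁻¹)) * H⁻¹ =
      ((H * G * H⁻¹) ^ i)⁻¹ * (H * (H * G * H⁻¹) * H⁻¹) := fun i => by rw [conj_zpow]; group
  rw [e1] at k ⊢
  generalize H * (H * G * H⁻¹) * H⁻¹ = G₂ at k ⊢
  generalize H * G * H⁻¹ = G₁ at k c1 ⊢
  rw [inv_mul_eq_iff_eq_mul] at k ⊢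
  rw [k, (c1.zpow_left _).inv_left.mul_zpow, (c1.zpow_left _).inv_left.mul_zpow, inv_zpow, inv_zpow,
    ← zpow_mul, ← zpow_mul, mul_comm a b, ← mul_assoc, ← mul_assoc,
    ← (c1.zpow_zpow _ _).inv_left.eq, ← (c1.zpow_zpow _ _).inv_left.eq, mul_assoc, mul_assoc,
    zpow_mul_comm]

variable [Finite Γ] [hp : Fact p.Prime]

theorem Ew.step (hy : IsPGroup p (zpowers y)) (h1 : Ew h a X y) (h2 : Ew h b X y)
    (hab : (a : ZMod p) ≠ b) : y ∈ X := by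
  refine mem_of_zpow_mem hy (i := b - a) (fun hd => hab ?_) ?_
  · exact (ZMod.intCast_eq_intCast_iff_dvd_sub a b p).2 hd
  · have := X.mul_mem h1 (X.inv_mem h2)
    convert this using 1
    group

theorem Wt.step (H : Wt h a X Y) (hY : IsPGroup p Y) (hy : y ∈ Y) (h2 : Ew h b X y)
    (hab : (b : ZMod p) ≠ a) : y ∈ X := h2.step (pg_zpowers hY hy) (H y hy) hab

theorem Wt.unique (H : Wt h a X Y) (H' : Wt h b X Y) (hY : IsPGroup p Y) (hn : ¬ Y ≤ X) :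
    (a : ZMod p) = b := by
  by_contra hab
  exact hn fun y hy => H'.step hY hy (H y hy) hab

theorem exists_wt (hY : IsPGroup p Y) (hXY : X ≤ Y) (hi : X.relIndex Y = p)
    (hX : h ∈ normalizer (X : Set Γ)) (hh : h ∈ normalizer (Y : Set Γ)) : ∃ a, Wt h a X Y := by
  obtain ⟨y, hy, hyX⟩ := exists_not_mem hi
  have hn := le_normalizer_of_prime hY hXY hi
  obtain ⟨u, hu, i, e⟩ := exists_eq_mul_zpow hY hXY hi hy hyX (conj_mem hh hy)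
  refine ⟨i, sup_zpowers_eq hXY hi hy hyX ▸ Ew.wt ?_ hX (hn hy)⟩
  rw [Ew, e, ← mul_assoc]
  exact conj_mem' (zpow_mem (hn hy) i) hu

/-- Commutators vanish when the weights do not match. -/
theorem comm_le_of_wt (hX₁ : IsPGroup p X₁) (hh : h ∈ normalizer (X₀ : Set Γ))
    (hG : G₁ ≤ normalizer (X₀ : Set Γ)) (hY : Y₁ ≤ normalizer (X₀ : Set Γ))
    (hhY : h ∈ normalizer (Y₁ : Set Γ)) (c0 : ⁅G₁, Y₁⁆ ≤ X₁) (c1 : ⁅G₁, X₁⁆ ≤ X₀)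
    (c2 : ⁅Y₁, X₁⁆ ≤ X₀) (c3 : ⁅G₀, Y₁⁆ ≤ X₀) (c4 : ⁅G₁, Y₀⁆ ≤ X₀) (w1 : Wt h a G₀ G₁)
    (w2 : Wt h b Y₀ Y₁) (w3 : Wt h c X₀ X₁) (hne : ((a * b : ℤ) : ZMod p) ≠ c) :
    ⁅G₁, Y₁⁆ ≤ X₀ := commutator_le.2 fun g hg y hy =>
  have h0 := commutator_le.1 c0 g hg y hy
  w3.step hX₁ h0 (Ew.comm hh (hG hg) (hY hy) (commutator_le.1 c1 _ hg _ h0)
    (commutator_le.1 c2 _ hy _ h0) (commutator_le.1 c3 _ (w1 g hg) _ (conj_mem hhY hy))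
    (commutator_le.1 c4 _ hg _ (w2 y hy))) hne

omit [Finite Γ] in
theorem exists_gen (p : ℕ) [hp : Fact p.Prime] : ∃ a b : ℤ, ((a * b : ℤ) : ZMod p) = 1 ∧
    ∀ k : ℕ, (a : ZMod p) ^ k = 1 → p - 1 ∣ k := by
  obtain ⟨g, hg⟩ := IsCyclic.exists_ofOrder_eq_natCard (α := (ZMod p)ˣ)
  rw [Nat.card_eq_fintype_card, ZMod.card_units] at hg
  refine ⟨(g : ZMod p).cast, ((g⁻¹ : (ZMod p)ˣ) : ZMod p).cast,
    by rw [Int.cast_mul, ZMod.intCast_zmod_cast, ZMod.intCast_zmod_cast, Units.mul_inv], fun k hk => ?_⟩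
  rw [← hg, orderOf_dvd_iff_pow_eq_one]
  rw [ZMod.intCast_zmod_cast] at hk
  exact Units.ext (by rw [Units.val_pow_eq_pow_val, hk, Units.val_one])

end CfsgLib.Fus2
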