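import Mathlib
import Cfsg.Agent.Lib.Fus2.Wt

/-!
The weight argument for an essential subgroup that is not normal: a chain with weights
`a, 1, a ^ 2, a⁻¹` in `N` cannot be extended inside a group of sectional rank three.
-/

set_option autoImplicit false
set_option linter.unusedSectionVars false

namespace CfsgLib.Fus2

open Subgroup Cfsg CfsgLib.LAE CfsgLib.Fusion
open scoped commutatorElement

variable {Γ : Type*} [Group Γ] {p : ℕ} {X V W A N R M T E B Y Y₀ X₀ X₁ : Subgroup Γ}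
  {h g x y t : Γ} {a b : ℤ}

/-- The centralizer of the section `Y / X`. -/
abbrev cs (Y X : Subgroup Γ) : Subgroup Γ := Core.commutatorStabilizer Y X

theorem conj_mem_cs (hX : g ∈ normalizer (X : Set Γ)) (hY : g ∈ normalizer (Y : Set Γ))
    (hx : x ∈ cs Y X) : g * x * g⁻¹ ∈ cs Y X :=
  ⟨mul_mem (mul_mem hX hx.1) (inv_mem hX), fun c hc => by
    have := conj_mem hX (hx.2 _ (conj_mem' hY hc))
    convert this using 1
    group⟩

variable [Finite Γ]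

theorem mem_normalizer_cs (hX : g ∈ normalizer (X : Set Γ)) (hY : g ∈ normalizer (Y : Set Γ)) :
    g ∈ normalizer (cs Y X : Set Γ) :=
  Core.mem_normalizer_of_forall_conj_mem fun _ hx => conj_mem_cs hX hY hx

theorem relIndex_cs_le (hR : R ≤ normalizer (X₀ : Set Γ)) (hy : y ∈ normalizer (X₀ : Set Γ))
    (hY : Y₀ ≤ normalizer (X₀ : Set Γ)) (hX : X₁ ≤ normalizer (X₀ : Set Γ)) (c0 : ⁅R, Y₀⁆ ≤ X₀)
    (c1 : ∀ r ∈ R, ⁅y, r⁆ ∈ X₁) (c2 : ⁅R, X₁⁆ ≤ X₀) :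
    (cs (Y₀ ⊔ zpowers y) X₀).relIndex R ≤ X₀.relIndex X₁ := by
  let φ : R →* _ := MonoidHom.mk' (fun r => qN X₀ ⟨⁅y, (r : Γ)⁆, hX (c1 r r.2)⟩) fun r s => by
    rw [← map_mul, eq_comm, qeq]
    have := conj_mem' (hX (c1 s s.2)) (commutator_le.1 c2 r r.2 _ (c1 s s.2))
    convert this using 1
    simp only [coe_mul]
    group
  have h1 : φ.ker ≤ (cs (Y₀ ⊔ zpowers y) X₀).subgroupOf R := fun r hr =>
    ⟨hR r.2, cm_sup_zpowers hY hy (commutator_le.1 c0 r r.2) (cm_swap (qone.1 hr))⟩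
  have h2 : φ.range ≤ bar X₀ X₁ := by
    rintro _ ⟨r, rfl⟩
    exact ⟨_, c1 r r.2, rfl⟩
  refine (Nat.le_of_dvd (Nat.pos_of_ne_zero index_ne_zero_of_finite) (index_dvd_of_le h1)).trans ?_
  rw [index_ker, ← card_bar hX]
  exact card_le_of_le h2

variable [hp : Fact p.Prime]

theorem zpow_conj_mod (ht : t ∈ normalizer (W : Set Γ)) (hx : x ∈ normalizer (W : Set Γ))
    (hc : ⁅t, ⁅t, x⁆⁆ ∈ W) (i : ℤ) : (⁅t, x⁆ ^ i)⁻¹ * ⁅t ^ i, x⁆ ∈ W := by
  have d1 : Commute (qN W ⟨t, ht⟩) ⁅qN W ⟨t, ht⟩, qN W ⟨x, hx⟩⁆ := by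
    rw [← map_commutatorElement]; exact qcomm.2 hc
  have := (Core.commutatorElement_zpow_left_of_commute d1 i).symm
  rw [← map_commutatorElement, ← map_zpow, ← map_zpow, ← map_commutatorElement, qeq] at this
  exact this

theorem inf_eq_of_ne_prime (hWX : W ≤ X) (hWY : W ≤ Y) (h1 : W.relIndex X = p)
    (h2 : W.relIndex Y = p) (hne : X ≠ Y) : X ⊓ Y = W :=
  (eq_or_eq_prime h1 (le_inf hWX hWY) inf_le_left).resolve_right fun e => hne
    (eq_of_le_card (inf_eq_left.1 e) (by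
      rw [card_eq_of_relIndex hWX rfl h1, card_eq_of_relIndex hWY rfl h2]))

/-- A transvection permutes the other lines transitively. -/
theorem exists_conj_line (pN : IsPGroup p N) (hW : N ≤ normalizer (W : Set Γ))
    (ht : t ∈ normalizer (W : Set Γ)) (hWB : W ≤ B) (hBN : B ≤ N) (i1 : W.relIndex B = p)
    (i2 : B.relIndex N = p) (c1 : ∀ n ∈ N, ⁅t, n⁆ ∈ B) (c2 : ∀ n ∈ B, ⁅t, n⁆ ∈ W)
    (c3 : ¬ ∀ n ∈ N, ⁅t, n⁆ ∈ W) (hWX : W ≤ X) (hXN : X ≤ N) (iX : W.relIndex X = p)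
    (hXB : X ≠ B) (hWY : W ≤ Y) (hYN : Y ≤ N) (iY : W.relIndex Y = p) (jY : Y.relIndex N = p)
    (hYB : Y ≠ B) : ∃ i : ℤ, conjS (t ^ i) X = Y := by
  obtain ⟨x, hx, hxW⟩ := exists_not_mem iX
  have hxB : x ∉ B := fun h' => hxW ((inf_eq_of_ne_prime hWX hWB iX i1 hXB).le ⟨hx, h'⟩)
  have hc : ⁅t, x⁆ ∉ W := fun h' => c3 (sup_zpowers_eq hBN i2 (hXN hx) hxB ▸
    cm_sup_zpowers (hBN.trans hW) (hW (hXN hx)) c2 h')
  obtain ⟨u, hu, y, hy, e⟩ := (mem_sup_iff_of_right_le_normalizer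
    (hYN.trans (le_normalizer_of_prime pN hBN i2))).1
    ((sup_eq_of_ne_prime hBN hYN i2 jY hYB.symm).ge (hXN hx))
  obtain ⟨w, hw, i, e'⟩ := exists_eq_mul_zpow (pN.to_le hBN) hWB i1 (c1 x (hXN hx)) hc (B.inv_mem hu)
  have h1 := zpow_conj_mod ht (hW (hXN hx)) (c2 _ (c1 x (hXN hx))) i
  refine ⟨i, eq_of_le_card ?_ (by
    rw [card_conjS, card_eq_of_relIndex hWX rfl iX, card_eq_of_relIndex hWY rfl iY])⟩
  rw [← sup_zpowers_eq hWX iX hx hxW, conjS_sup, mem_normalizer_iff_conjS.1 (zpow_mem ht i),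
    conjS_def, MonoidHom.map_zpowers]
  refine sup_le hWY (zpowers_le.2 ?_)
  have h2 := Y.mul_mem (hWY (W.mul_mem (W.inv_mem hw)
    (conj_mem (hW (hBN (B.inv_mem hu))) h1))) hy
  have e1 : y = w * ⁅t, x⁆ ^ i * x := by rw [← e', e]; group
  have e2 : u⁻¹ = w * ⁅t, x⁆ ^ i := e'
  rw [e1, inv_inv, ← inv_inv u, e2] at h2
  convert h2 using 1
  simp only [MulEquiv.coe_toMonoidHom, MulAut.conj_apply]
  group

/-- The chain `X < V < W < A < N` with weights `a, 1, a ^ 2, b` of `h`. -/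
structure NCh (p : ℕ) (h : Γ) (a b : ℤ) (X V W A N : Subgroup Γ) : Prop where
  pN : IsPGroup p N
  l1 : X ≤ V
  l2 : V ≤ W
  l3 : W ≤ A
  l4 : A ≤ N
  i1 : X.relIndex V = p
  i2 : V.relIndex W = p
  i3 : W.relIndex A = p
  i4 : A.relIndex N = p
  hX : h ∈ normalizer (X : Set Γ)
  hV : h ∈ normalizer (V : Set Γ)
  hW : h ∈ normalizer (W : Set Γ)
  hA : h ∈ normalizer (A : Set Γ)
  hN : h ∈ normalizer (N : Set Γ)
  w1 : Wt h a X V
  w2 : Wt h 1 V W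
  w3 : Wt h (a * a) W A
  w4 : Wt h b A N
  cA : ⁅A, A⁆ ≤ X
  cW : ⁅N, W⁆ ≤ X
  cN : ⁅N, N⁆ ≤ V
  eA : ∀ x ∈ A, x ^ p ∈ X
  nA : ¬ ⁅N, A⁆ ≤ X
  ab : (a : ZMod p) * b = 1
  a2 : (a : ZMod p) ^ 2 ≠ 1
  a3 : (a : ZMod p) ^ 3 ≠ 1
  a5 : (a : ZMod p) ^ 5 ≠ 1

theorem NCh.fin (c : NCh p h a b X V W A N) (pR : IsPGroup p R) (hr : Rk p 3 R) (l5 : N ≤ R)
    (i5 : N.relIndex R = p) (hR : h ∈ normalizer (R : Set Γ)) (nX : R ≤ normalizer (X : Set Γ))
    (nV : R ≤ normalizer (V : Set Γ)) (nW : R ≤ normalizer (W : Set Γ))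
    (nA : R ≤ normalizer (A : Set Γ)) (nR : ¬ ⁅R, N⁆ ≤ W) : False := by
  have nN := le_normalizer_of_prime pR l5 i5
  have AR := c.l4.trans l5
  have WR := c.l3.trans AR
  have VR := c.l2.trans WR
  have r1 := commutator_le.2 (cm_mem_of_prime pR VR c.l1 nX nV c.i1)
  have r2 := commutator_le.2 (cm_mem_of_prime pR WR c.l2 nV nW c.i2)
  have r3 := commutator_le.2 (cm_mem_of_prime pR AR c.l3 nW nA c.i3)
  have r4 := commutator_le.2 (cm_mem_of_prime pR l5 c.l4 nA nN c.i4)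
  obtain ⟨m, w5⟩ := exists_wt pR l5 i5 c.hN hR
  have a0 : (a : ZMod p) ≠ 0 := fun e => by simpa [e] using c.ab
  have hm : (m : ZMod p) = a ^ 3 := by
    have : ((m * b : ℤ) : ZMod p) = (a * a : ℤ) := by
      by_contra hne
      exact nR (comm_le_of_wt (pR.to_le AR) c.hW nW (l5.trans nW) c.hN r4 r3
        ((commutator_mono l5 le_rfl).trans r3) (c.cN.trans c.l2) r3 w5 c.w4 c.w3 hne)
    push_cast at this
    linear_combination a * this - m * c.ab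
  have m1 : (m : ZMod p) ≠ a := fun e => c.a2 (mul_left_cancel₀ a0 (by
    rw [hm] at e; linear_combination e))
  have s1 : ⁅R, W⁆ ≤ X := comm_le_of_wt (pR.to_le VR) c.hX nX (WR.trans nX) c.hW r2 r1
    ((commutator_mono WR le_rfl).trans r1) c.cW r1 w5 c.w2 c.w1 (by simpa using m1)
  have s2 : ⁅R, A⁆ ≤ V := comm_le_of_wt (pR.to_le WR) c.hV nV (AR.trans nV) c.hA r3 r2
    ((commutator_mono AR le_rfl).trans r2) ((commutator_mono le_rfl c.l4).trans c.cN) r2 w5 c.w3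
    c.w2 fun e => c.a5 (by push_cast at e; rw [hm] at e; linear_combination e)
  obtain ⟨x, hx, hxW⟩ := exists_not_mem c.i3
  have k1 := relIndex_cs_le nX (nX (AR hx)) (WR.trans nX) (VR.trans nX) s1
    (fun r hr => cm_swap (commutator_le.1 s2 r hr x hx)) r1
  rw [sup_zpowers_eq c.l3 c.i3 hx hxW, c.i1, ← inf_relIndex_left] at k1
  set H := R ⊓ cs A X with hH
  have AH : A ≤ H := le_inf AR (Core.le_commutatorStabilizer_iff.2 ⟨AR.trans nX, c.cA⟩)
  have HN : N ⊓ H = A := (eq_or_eq_prime c.i4 (le_inf c.l4 AH) inf_le_left).resolve_right fun e =>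
    c.nA (Core.le_commutatorStabilizer_iff.1 ((inf_eq_left.1 e).trans inf_le_right)).2
  have HN' : ¬ H ≤ N := fun e => by
    rw [← inf_eq_right.2 e, HN, ← relIndex_mul_relIndex _ _ _ c.l4 l5, c.i4, i5] at k1
    nlinarith [hp.out.two_le]
  obtain ⟨t, ht, htN⟩ := SetLike.not_le_iff_exists.1 HN'
  have i6 : A.relIndex H = p := by
    rw [← HN, inf_relIndex_right, ← relIndex_sup (inf_le_left.trans nN), ← i5]
    congr 1
    exact (eq_or_eq_prime i5 le_sup_right (sup_le inf_le_left l5)).resolve_left fun e =>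
      HN' (le_sup_left.trans e.le)
  have hh : h ∈ normalizer (H : Set Γ) := inf_normalizer_le_normalizer_inf
    ⟨hR, mem_normalizer_cs c.hX c.hA⟩
  have w6 : Wt h m A H := HN ▸ w5.inf inf_le_left hh
  have eH := sup_zpowers_eq AH i6 ht fun h' => htN (c.l4 h')
  have pt := pR.to_le (inf_le_left : H ≤ R)
  have k2 : t ^ p ∈ X := by
    have e1 : Ew h m X (t ^ p) := Ew.pow (nX ht.1) c.hX (ht.2.2 _ (w6 t ht)) (c.eA _ (w6 t ht))
    have t1 := pow_mem_of_prime pt i6 ht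
    have t2 := c.w3.step (pR.to_le AR) t1 (e1.mono (c.l1.trans c.l2)) fun e => c.a2 (by
      have : (a : ZMod p) = 1 := mul_left_cancel₀ (mul_ne_zero a0 a0) (by
        push_cast at e; rw [hm] at e; linear_combination e)
      rw [this, one_pow])
    have t3 := c.w2.step (pR.to_le WR) t2 (e1.mono c.l1) fun e => c.a3 (by simpa [hm] using e)
    exact c.w1.step (pR.to_le VR) t3 e1 m1
  have k3 : ⁅H, H⁆ ≤ X := commutator_le.2 fun u hu => eH ▸ cm_sup_zpowers (AR.trans nX) (nX ht.1)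
    hu.2.2 (cm_swap ((eH ▸ cm_sup_zpowers (AR.trans nX) (nX ht.1) ht.2.2 (by simp) :
      ∀ a ∈ H, ⁅t, a⁆ ∈ X) u hu))
  have k4 := hr H X inf_le_left k3 fun u hu => by
    obtain ⟨v, hv, i, rfl⟩ := (mem_sup_zpowers (nA ht.1)).1 (eH.ge hu)
    exact mul_pow_mem (nX (AR hv)) (zpow_mem (nX ht.1) i)
      (commutator_le.1 k3 _ (AH hv) _ (H.zpow_mem ht i)) (c.eA v hv) (zpow_pow_mem k2 i)
  rw [← relIndex_mul_relIndex _ _ _ (c.l1.trans (c.l2.trans c.l3)) AH,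
    ← relIndex_mul_relIndex _ _ _ (c.l1.trans c.l2) c.l3, ← relIndex_mul_relIndex _ _ _ c.l1 c.l2,
    c.i1, c.i2, c.i3, i6] at k4
  exact not_pow_le (p := p) (a := 4) (b := 3) (le_of_eq_of_le (by ring) k4) (by omega)

/-- A `p`-element of the model fixing the line `A` and moving `N / W`. -/
theorem NCh.exists_elt (c : NCh p h a b X V W A N) (hM : Mod p T N M) (hh : h ∈ M)
    (nW : M ≤ normalizer (W : Set Γ)) (hWE : W ≤ E) (hEN : E ≤ N) (j1 : W.relIndex E = p)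
    (j2 : E.relIndex N = p) (w : Wt h (a * a) E N) (hEA : E ≠ A) (ht : t ∈ T)
    (htE : t ∉ normalizer (E : Set Γ)) : ∃ s ∈ M, IsPGroup p (zpowers s) ∧
      s ∈ normalizer (A : Set Γ) ∧ ¬ ∀ n ∈ N, ⁅s, n⁆ ∈ W := by
  have WN := c.l3.trans c.l4
  have nT := hM.GL'.trans nW
  have c3 : ¬ ∀ n ∈ N, ⁅t, n⁆ ∈ W := fun hc =>
    htE (mem_normalizer_of_cm fun x hx => hWE (hc x (hEN hx)))
  obtain ⟨B, b1, b2, b3, b4⟩ := exists_between hM.pG hM.le WN nT hM.GN fun e =>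
    not_le_of_relIndex_prime c.i3 (c.l4.trans e)
  have iW : W.relIndex N = p * p := by rw [← relIndex_mul_relIndex _ _ _ c.l3 c.l4, c.i3, c.i4]
  have b5 := relIndex_eq_of_mul b1 b2 b3 iW
  have nB := le_normalizer_of_cm_le (b4.trans b1) le_rfl
  by_cases hBA : B = A
  · exact ⟨t, hM.GL' ht, pg_zpowers hM.pG ht, hBA ▸ nB ht, c3⟩
  have hBE : B ≠ E := fun e => htE (e ▸ nB ht)
  have hhB : conjS h B ≠ B := fun e => by
    have e' := mem_normalizer_iff_conjS.2 e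
    have u1 := c.w4.inf b2 e'
    have u2 := w.inf b2 e'
    rw [inf_eq_of_ne_prime c.l3 b1 c.i3 b3 (Ne.symm hBA)] at u1
    rw [inf_eq_of_ne_prime hWE b1 j1 b3 hBE.symm] at u2
    have := u1.unique u2 (c.pN.to_le b2) (not_le_of_relIndex_prime b3)
    push_cast at this
    exact c.a3 (by linear_combination c.ab - a * this)
  have eW := mem_normalizer_iff_conjS.1 c.hW
  have eN := mem_normalizer_iff_conjS.1 c.hN
  obtain ⟨i, hi⟩ := exists_conj_line c.pN (hM.EL.trans nW) (nT ht) b1 b2 b3 b5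
    (cm_mem_of_prime hM.pG hM.le b2 nB hM.GN b5 t ht) (commutator_le.1 b4 t ht) c3
    (eW ▸ conjS_mono b1) (eN ▸ conjS_mono b2) (by rw [← b3, ← relIndex_conjS h W B, eW]) hhB
    c.l3 c.l4 c.i3 c.i4 (Ne.symm hBA)
  have hg : t ^ i * h ∈ M := M.mul_mem (M.zpow_mem (hM.GL' ht) i) hh
  rw [← conjS_mul] at hi
  set g := t ^ i * h
  refine ⟨g * t * g⁻¹, conj_mem (le_normalizer hg) (hM.GL' ht),
    pg_zpowers (isPGroup_conjS hM.pG g) (conj_mem_conjS.2 ht), ?_, fun hc => c3 fun n hn => ?_⟩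
  · rw [← hi, ← conjS_normalizer]; exact conj_mem_conjS.2 (nB ht)
  · have := conj_mem' (nW hg) (hc _ (conj_mem (hM.norm hg) hn))
    convert this using 1
    group

theorem NCh.false (c : NCh p h a b X V W A N) (hM : Mod p T N M) (hr : Rk p 3 T) (hh : h ∈ M)
    (nX : M ≤ normalizer (X : Set Γ)) (nV : M ≤ normalizer (V : Set Γ))
    (nW : M ≤ normalizer (W : Set Γ)) (hΦ : V ≤ (frattini N).map N.subtype) (hWE : W ≤ E)
    (hEN : E ≤ N) (j1 : W.relIndex E = p) (j2 : E.relIndex N = p) (w : Wt h (a * a) E N)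
    (hEA : E ≠ A) (hT : ∀ t ∈ T, t ∈ normalizer (E : Set Γ) → t ∈ N) (hTN : ¬ T ≤ N) : False := by
  obtain ⟨t, ht, htN⟩ := SetLike.not_le_iff_exists.1 hTN
  obtain ⟨s, hs, ps, sA, sN⟩ := c.exists_elt hM hh nW hWE hEN j1 j2 w hEA ht fun e => htN (hT t ht e)
  have WN := c.l3.trans c.l4
  let R := M ⊓ (cs N A ⊓ (cs A W ⊓ cs W V))
  have pR : IsPGroup p R := by
    rw [← pResOf_eq_bot_iff, eq_bot_iff, pResOf_le_iff]
    intro z hz hc
    have h1 := hM.cent z hz.1 (mem_centralizer_of_frattini hc c.pN fun y hy => hΦ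
      (cm_trans hc (c.pN.to_le WN) c.l2 hz.2.2.2.2
        (cm_trans hc (c.pN.to_le c.l4) c.l3 hz.2.2.1.2 (hz.2.1.2 y hy))))
    exact mem_of_zpow_mem (pg_zpowers c.pN h1) (i := orderOf z) (fun hd =>
      hp.out.one_lt.ne' (Nat.eq_one_of_dvd_coprimes hc (by exact_mod_cast hd) dvd_rfl)) (by simp)
  have cN := commutator_le.1 c.cN
  have nA := le_normalizer_of_prime c.pN c.l4 c.i4
  have NR : N ≤ R := fun n hn => ⟨hM.EL hn, ⟨nA hn, fun y hy => c.l3 (c.l2 (cN n hn y hy))⟩,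
    ⟨nW (hM.EL hn), fun y hy => c.l2 (cN n hn y (c.l4 hy))⟩,
    ⟨nV (hM.EL hn), fun y hy => cN n hn y (WN hy)⟩⟩
  have hsR : s ∈ R := by
    have pP := isPGroup_sup ps c.pN (zpowers_le.2 (hM.norm hs))
    have PM : zpowers s ⊔ N ≤ M := sup_le (zpowers_le.2 hs) hM.EL
    have PA : zpowers s ⊔ N ≤ normalizer (A : Set Γ) := sup_le (zpowers_le.2 sA) nA
    have s0 : s ∈ zpowers s ⊔ N := mem_sup_left (mem_zpowers s)
    exact ⟨hs, ⟨sA, cm_mem_of_prime pP le_sup_right c.l4 PA (PM.trans hM.norm) c.i4 s s0⟩,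
      ⟨nW hs, cm_mem_of_prime pP (c.l4.trans le_sup_right) c.l3 (PM.trans nW) PA c.i3 s s0⟩,
      ⟨nV hs, cm_mem_of_prime pP (WN.trans le_sup_right) c.l2 (PM.trans nV) (PM.trans nW) c.i2 s s0⟩⟩
  have hC : M ⊓ (cs N W ⊓ cs W V) ≤ N := by
    have h1 : M ⊓ (cs N W ⊓ cs W V) ≤ R := fun z hz => ⟨hz.1,
      ⟨mem_normalizer_of_cm fun y hy => c.l3 (hz.2.1.2 y (c.l4 hy)), fun y hy => c.l3 (hz.2.1.2 y hy)⟩,
      ⟨hz.2.1.1, fun y hy => hz.2.1.2 y (c.l4 hy)⟩, hz.2.2⟩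
    have h2 := hM.syl.le_of_le_normalizer (pR.to_le h1) inf_le_left (le_normalizer_inf le_normalizer
      (le_normalizer_inf (fun g hg => mem_normalizer_cs (nW hg) (hM.norm hg))
        fun g hg => mem_normalizer_cs (nV hg) (nW hg)))
    exact fun z hz => hT z (h2 hz) (mem_normalizer_of_cm fun y hy => hWE (hz.2.1.2 y (hEN hy)))
  have RM : R ≤ M := inf_le_left
  obtain ⟨y, hy, hyA⟩ := exists_not_mem c.i4
  have k1 := relIndex_cs_le (RM.trans nW) (nW (hM.EL hy)) (c.l4.trans (hM.EL.trans nW))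
    (c.l4.trans (hM.EL.trans nW)) (commutator_le.2 fun r hr => hr.2.2.1.2)
    (fun r hr => cm_swap (hr.2.1.2 y hy)) (commutator_le.2 fun r hr => hr.2.2.1.2)
  rw [sup_zpowers_eq c.l4 c.i4 hy hyA, c.i3, ← inf_relIndex_left] at k1
  have hsN : s ∉ N := fun e => sN fun n hn => c.l2 (cN s e n hn)
  have i5 : N.relIndex R = p := relIndex_eq_prime pR (fun e => hsN (e hsR)) (by
    have := relIndex_le_of_le_left (fun z hz => hC ⟨hz.1.1, hz.2, hz.1.2.2.2⟩ : R ⊓ cs N W ≤ N)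
      (relIndex_pos' _ R).ne'
    nlinarith [hp.out.two_le])
  obtain ⟨g, hg, e⟩ := hM.syl.exists_conj pR RM
  have hrR : Rk p 3 R := by
    have := (hr.mono (conjS_le_iff_forall.2 e)).map (MulAut.conj g⁻¹).toMonoidHom
    rwa [← conjS_def, conjS_inv_conjS] at this
  exact c.fin pR hrR NR i5 (inf_normalizer_le_normalizer_inf ⟨le_normalizer hh,
    inf_normalizer_le_normalizer_inf ⟨mem_normalizer_cs c.hA c.hN, inf_normalizer_le_normalizer_inf
      ⟨mem_normalizer_cs c.hW c.hA, mem_normalizer_cs c.hV c.hW⟩⟩⟩) (RM.trans nX) (RM.trans nV)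
    (RM.trans nW) (fun r hr => hr.2.1.1) fun hc => sN (commutator_le.1 hc s hsR)

end CfsgLib.Fus2
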