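import Mathlib
import Cfsg.Agent.Lib.Fus2.Bridge
import Cfsg.Agent.Lib.Fus2.AM
import Cfsg.Agent.Lib.Fus2.Sp4
import Cfsg.Agent.Lib.Fusion.SmallCenter
import Cfsg.Agent.Lib.PGroup.MaxClass2

/-!
Fusion systems of sectional rank at most three with two essential subgroups normal in `S`.
-/

set_option autoImplicit false
set_option linter.unusedSectionVars false

namespace CfsgLib.Fus2

open Subgroup Cfsg Cfsg.FusionSystem CfsgLib.LAE CfsgLib.Fusion
open scoped commutatorElement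

universe u

section

variable {Γ : Type*} [Group Γ] [Finite Γ] {S E E₁ E₂ L P : Subgroup Γ} {F : FusionSystem S} {p : ℕ}
  [hp : Fact p.Prime]

theorem Rk.index_frattini {k : ℕ} (h : Rk p k S) (hE : E ≤ S) (pE : IsPGroup p E) :
    (frattini E).index ≤ p ^ k := by
  have h1 := (Core.map_frattini_le_iff_of_isPGroup pE (N := (frattini E).map E.subtype)).1 le_rfl
  have := h E _ hE h1.1 h1.2
  rwa [relIndex, show ((frattini E).map E.subtype).subgroupOf E = frattini E from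
    comap_map_eq_self_of_injective E.subtype_injective _] at this

theorem LR.idx (h : LR p F) (h2 : p ≠ 2) (hr : Rk p 3 S) (hE : F.IsEssential p E) :
    E.relIndex (normalizerIn S E) = p := by
  obtain ⟨M, hM⟩ := essential_essAut h.pS h.sat hE
  rw [← centric_relIndex_Inn hE.1]
  exact relIndex_Inn_of_rank_three hM (h.pS.to_le hE.1.1) h2
    (hr.index_frattini hE.1.1 (h.pS.to_le hE.1.1))

theorem AMod.exists_not_norm (h : AMod p F E L) (hl : LR p F) (hE : F.IsEssential p E) :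
    ∃ a ∈ L, a ∉ normalizer (normalizerIn S E : Set Γ) := by
  obtain ⟨f, hf, e, hTI⟩ := essential_exists_TI hl.pS hl.sat hE
  obtain ⟨a, ha, ea⟩ := h.lift E f le_rfl h.le hf e
  obtain ⟨g, hg, hgE⟩ := SetLike.exists_of_lt (essential_lt_normalizerIn hl.pS hl.sat hE)
  refine ⟨a, ha, fun hn => hgE (hTI g hg _ (conj_mem hn hg).1 fun x hx => ?_)⟩
  rw [ea _ (conj_mem hg.2 hx), ea x hx]; group

theorem LR.exists_par (h : LR p F) (h2 : p ≠ 2) (hr : Rk p 3 S) (hE : F.IsEssential p E) :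
    ∃ M, AMod p F E M ∧ ∃ L ≤ M, Par p (normalizerIn S E) E L := by
  obtain ⟨M, hM⟩ := h.ex E hE.1 hE.2.1
  obtain ⟨a, ha, haN⟩ := hM.exists_not_norm h hE
  exact ⟨M, hM, _, sup_le hM.GL' (conjS_le_of_le_of_mem hM.GL' ha),
    hM.toMod.par (h.idx h2 hr hE) ha haN⟩

omit [Finite Γ] hp in
theorem normalizerIn_eq (h : S ≤ normalizer (E : Set Γ)) : normalizerIn S E = S := inf_eq_left.2 h

theorem card_eq_cube_of_two_abelian (hS : IsPGroup p S) (hF : F.IsSaturated p) (h2 : p ≠ 2)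
    (hO : F.core = ⊥) (hE : F.IsEssential p E₁) (hE₂ : E₂ ≤ S) (i₁ : E₁.relIndex S = p)
    (i₂ : E₂.relIndex S = p) (hne : E₁ ≠ E₂) (c₁ : E₁ ≤ centralizer (E₁ : Set Γ))
    (c₂ : E₂ ≤ centralizer (E₂ : Set Γ)) : Nat.card S = p ^ 3 ∧ ¬ IsMulCommutative S := by
  obtain ⟨F', hF'⟩ := exists_isTopOf F
  have hna : ¬ IsMulCommutative S := fun hc => (essential_lt hS hF hE).not_ge fun g hg =>
    essential_mem_of_comm hE hg fun x hx =>
      congrArg Subtype.val (hc.1.1 ⟨x, hE.1.1 hx⟩ ⟨g, hg⟩)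
  have hi : (E₁ ⊓ E₂).relIndex S = p ^ 2 := by
    rw [← relIndex_mul_relIndex _ _ _ inf_le_right hE₂,
      relIndex_inf_prime hS hE.1.1 hE₂ i₁ i₂ hne, i₂, sq]
  have hz : (E₁ ⊓ E₂).subgroupOf S ≤ center S := fun x hx => mem_center_iff.2 fun y => by
    have hy : (y : Γ) ∈ centralizer {(x : Γ)} := by
      refine (sup_le (fun a ha => ?_) fun a ha => ?_ : E₁ ⊔ E₂ ≤ _)
        ((sup_eq_of_ne_prime hE.1.1 hE₂ i₁ i₂ hne).ge y.2)
      · exact mem_centralizer_singleton_iff.2 (c₁ hx.1 a ha)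
      · exact mem_centralizer_singleton_iff.2 (c₂ hx.2 a ha)
    exact Subtype.ext (mem_centralizer_singleton_iff.1 hy)
  obtain ⟨h3, h4⟩ := card_commutator_of_index_center_le hS hna
    (hi ▸ Nat.le_of_dvd (relIndex_pos' _ _) (index_dvd_of_le hz))
  have h5 := center_eq_commutator_of_card hS (hF'.saturated hS hF) h2 (hF'.core_eq_bot hO) h4
  refine ⟨?_, hna⟩
  rw [← (center S).card_mul_index, h3, h5, h4]; ring

/-- `E` is invariant under all automorphisms of `S` in the system. -/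
def AutInv (F : FusionSystem S) (E : Subgroup Γ) : Prop := ∀ f, Mor F S f → img E f = E

omit [Finite Γ] hp in
theorem AutInv.norm (h : AutInv F E) : S ≤ normalizer (E : Set Γ) := fun _ hs =>
  mem_normalizer_of_img_conj (h _ (Mor.conj F le_rfl hs))

theorem LR.two_inv (h : LR p F) (h2 : p ≠ 2) (hr : Rk p 3 S) (hO : F.core = ⊥) (hne : E₁ ≠ E₂)
    (hE₁ : F.IsEssential p E₁) (hE₂ : F.IsEssential p E₂) (n₁ : S ≤ normalizer (E₁ : Set Γ))
    (c₂ : AutInv F E₂) : (Nat.card S = p ^ 3 ∧ ¬ IsMulCommutative S) ∨ Sp4Cfg p S E₁ E₂ ∨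
      Sp4Cfg p S E₂ E₁ := by
  obtain ⟨M₁, m₁, L₁, l₁, p₁⟩ := h.exists_par h2 hr hE₁
  obtain ⟨M₂, m₂, L₂, l₂, p₂⟩ := h.exists_par h2 hr hE₂
  have e₁ := normalizerIn_eq n₁
  rw [normalizerIn_eq c₂.norm] at p₂
  rw [e₁] at p₁
  rcases (Am.mk p₁ p₂ hne hr h2).main_ext fun z hz hn => mem_normalizer_of_img_conj
    (c₂ _ (by
      have := m₁.mor _ le_rfl z (l₁ hz)
      rw [e₁] at this
      exact this fun x hx => conj_mem hn hx)) with hc | hc | hc
  · exact Or.inl (card_eq_cube_of_two_abelian h.pS h.sat h2 hO hE₁ hE₂.1.1 p₁.idx p₂.idx hne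
      hc.1 hc.2)
  · exact Or.inr (Or.inl hc.1)
  · exact Or.inr (Or.inr hc.1)

theorem exists_essential_ne (hS : IsPGroup p S) (hF : F.IsSaturated p) (hO : F.core = ⊥)
    (hE : F.IsEssential p E) : ∃ E₂, F.IsEssential p E₂ ∧ E ≠ E₂ := by
  by_contra hn
  push Not at hn
  have hb := eq_bot_of_isNormal_of_core hO (isNormal_of_alperin (Q := E) hS hF fun R hR => by
    rcases hR with rfl | hR
    · exact ⟨hE.1.1, fun α hα => (hn _ (((mem_autGroup le_rfl).1 hα).essential_img_of_top hE)).symm⟩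
    · obtain rfl := hn R hR
      exact ⟨le_rfl, fun α _ => img_extAut α⟩)
  exact (essential_lt hS hF hE).not_ge fun g hg => essential_mem_of_comm hE hg fun x hx => by
    rw [hb, mem_bot] at hx; simp [hx]

/-- Some essential subgroup moves the centre of `S`. -/
theorem exists_essential_moving (hS : IsPGroup p S) (hF : F.IsSaturated p) (hO : F.core = ⊥)
    (h0 : S ≠ ⊥) : ∃ E f, F.IsEssential p E ∧ Mor F E f ∧ img E f = E ∧
      img (S ⊓ centralizer (S : Set Γ)) f ≠ S ⊓ centralizer (S : Set Γ) := by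
  by_contra hn
  push Not at hn
  have hb := eq_bot_of_isNormal_of_core hO (isNormal_of_alperin
    (Q := S ⊓ centralizer (S : Set Γ)) hS hF fun R hR => by
    rcases hR with rfl | hR
    · refine ⟨inf_le_left, fun α hα => ?_⟩
      rw [((mem_autGroup le_rfl).1 hα).img_center, img_extAut]
    · exact ⟨fun g hg => essential_mem_of_comm hR hg.1 fun x hx => hg.2 x (hR.1.1 hx),
        fun α hα => hn R _ hR ((mem_autGroup hR.1.1).1 hα) (img_extAut α)⟩)
  have : Nontrivial S := (nontrivial_iff_ne_bot S).2 h0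
  rw [← map_center_subtype, map_eq_bot_iff_of_injective _ S.subtype_injective] at hb
  exact (nontrivial_iff_ne_bot _).1 hS.center_nontrivial hb

theorem LR.exists_moving (h : LR p F) (h2 : p ≠ 2) (hr : Rk p 3 S) (hE : F.IsEssential p E)
    (hn : S ≤ normalizer (E : Set Γ)) {f : Γ → Γ} (hf : Mor F E f) (e : img E f = E)
    (hm : img (S ⊓ centralizer (S : Set Γ)) f ≠ S ⊓ centralizer (S : Set Γ)) :
    ∃ L, Par p S E L ∧ ¬ ⁅pResOf p L, E ⊓ centralizer (E : Set Γ)⁆ ≤ ⊥ := by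
  obtain ⟨M, hM⟩ := h.ex E hE.1 hE.2.1
  obtain ⟨a, ha, ea⟩ := hM.lift E f le_rfl hM.le hf e
  have hi := h.idx h2 hr hE
  have hM' := hM.toMod
  rw [normalizerIn_eq hn] at hi hM'
  have hZ : S ⊓ centralizer (S : Set Γ) ≤ E := fun x hx => hM'.center_le hx.1 hx.2
  rw [img_congr fun x hx => ea x (hZ hx), img_conj, ← conjS_def] at hm
  have hP := hM'.par hi ha fun hN => hm (by
    rw [conjS_inf, conjS_centralizer, mem_normalizer_iff_conjS.1 hN])
  refine ⟨_, hP, fun hc => hm (eq_of_le_card ?_ (card_conjS _ _).le).symm⟩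
  have h1 : ⁅S ⊔ conjS a S, S ⊓ centralizer (S : Set Γ)⁆ ≤ ⊥ := hP.toMod.comm_le_of_res
    ((commutator_mono le_rfl (le_inf hZ (inf_le_right.trans (centralizer_le hM'.le)))).trans hc)
    (by rw [le_bot_iff, commutator_comm, commutator_eq_bot_iff_le_centralizer]; exact inf_le_right)
    bot_le
  rw [le_bot_iff, commutator_comm, commutator_eq_bot_iff_le_centralizer] at h1
  rw [conjS_inf, conjS_centralizer]
  refine le_inf (hZ.trans ?_) (h1.trans (centralizer_le (SetLike.coe_subset_coe.2 le_sup_right)))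
  exact (mem_normalizer_iff_conjS.1 (hM'.norm ha)).ge.trans (conjS_mono hM'.le)

theorem LR.all_normal (h : LR p F) (h2 : p ≠ 2) (hr : Rk p 3 S) (hO : F.core = ⊥) (h0 : S ≠ ⊥)
    (hn : ∀ E, F.IsEssential p E → S ≤ normalizer (E : Set Γ)) :
    (Nat.card S = p ^ 3 ∧ ¬ IsMulCommutative S) ∨
      ∃ U Q, F.IsEssential p U ∧ F.IsEssential p Q ∧ Sp4Cfg p S U Q := by
  obtain ⟨E₁, f, hE₁, hf, e, hm⟩ := exists_essential_moving h.pS h.sat hO h0
  obtain ⟨L₁, p₁, hc⟩ := h.exists_moving h2 hr hE₁ (hn _ hE₁) hf e hm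
  obtain ⟨E₂, hE₂, hne⟩ := exists_essential_ne h.pS h.sat hO hE₁
  obtain ⟨M₂, -, L₂, -, p₂⟩ := h.exists_par h2 hr hE₂
  rw [normalizerIn_eq (hn _ hE₂)] at p₂
  rcases (Am.mk p₁ p₂ hne hr h2).caseI hc with hc | hc | hc
  · exact Or.inl (card_eq_cube_of_two_abelian h.pS h.sat h2 hO hE₁ hE₂.1.1 p₁.idx p₂.idx hne
      hc.1 hc.2)
  · exact Or.inr ⟨_, _, hE₁, hE₂, hc.1⟩
  · exact Or.inr ⟨_, _, hE₂, hE₁, hc.1⟩

end

/-! ### Transport -/

theorem sectional_two_of_card {G : Type*} [Group G] [Finite G] {p : ℕ} [hp : Fact p.Prime]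
    (hc : Nat.card G = p ^ 3) (hna : ¬ IsMulCommutative G) : SectionalPRankLE p 2 G := by
  intro H N _ A hA he
  by_contra hlt
  have h1 := card_subgroup_dvd_card A
  have h2 := card_quotient_dvd_card N
  have h3 := hc ▸ card_subgroup_dvd_card H
  have hA3 : Nat.card A = p ^ 3 := by
    obtain ⟨i, hi, e⟩ := (Nat.dvd_prime_pow hp.out).1 (h1.trans (h2.trans h3))
    rw [e] at hlt ⊢
    have : ¬ i ≤ 2 := fun h => hlt (Nat.pow_le_pow_right hp.out.pos h)
    congr 1; omega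
  have hH : Nat.card H = p ^ 3 := Nat.dvd_antisymm h3 (hA3 ▸ h1.trans h2)
  have hQ : Nat.card (H ⧸ N) = p ^ 3 := Nat.dvd_antisymm (h2.trans h3) (hA3 ▸ h1)
  have hN : N = ⊥ := by
    have := N.card_eq_card_quotient_mul_card_subgroup
    rw [hH, hQ] at this
    exact card_eq_one.1 ((Nat.mul_eq_left (pow_pos hp.out.pos 3).ne').1 this.symm)
  have hAt := eq_top_of_card_eq A (hA3.trans hQ.symm)
  have hHt := eq_top_of_card_eq H (hH.trans hc.symm)
  refine hna ⟨⟨fun a b => ?_⟩⟩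
  have := congrArg Subtype.val (hA.1.1 ⟨QuotientGroup.mk (⟨a, hHt ▸ mem_top a⟩ : H), hAt ▸ mem_top _⟩
    ⟨QuotientGroup.mk (⟨b, hHt ▸ mem_top b⟩ : H), hAt ▸ mem_top _⟩)
  simp only [coe_mul, ← QuotientGroup.mk_mul, QuotientGroup.eq, hN, mem_bot, inv_mul_eq_one] at this
  exact congrArg Subtype.val this

section Transport

variable {Ω : Type*} [Group Ω] {Γ : Type*} [Group Γ] {S P : Subgroup Ω} {S' : Subgroup Γ}
  {F : FusionSystem S} {F' : FusionSystem S'} {t : Ω → Γ} {p : ℕ}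

/-- The isomorphism onto the image. -/
noncomputable def facEquiv (h : IsFactor F ⊥ t F') (hP : P ≤ S) : P ≃* img P t :=
  (h.hom.mono hP).isoOf (h.injOn.mono hP) rfl

theorem fac_rk [Finite S] (h : IsFactor F ⊥ t F') {k : ℕ} (hr : SectionalPRankLE p k S) :
    Rk p k S' := by
  have := (rk_top_of_sectional hr).map h.hom.toHom
  rwa [← MonoidHom.range_eq_map, h.hom.range_toHom, h.img_eq] at this

theorem fac_core (h : IsFactor F ⊥ t F') (hO : F.core = ⊥) : F'.core = ⊥ := by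
  rw [h.iso_core, hO, h.hom.img_bot]

theorem fac_norm (h : IsFactor F ⊥ t F') (hP : P ≤ S) :
    S' ≤ normalizer (img P t : Set Γ) ↔ S ≤ normalizer (P : Set Ω) := by
  refine ⟨fun H a ha => h.mem_normalizer_of hP bot_le ha (H (h.mem ha)), fun H y hy => ?_⟩
  obtain ⟨x, hx, rfl⟩ := h.exists_eq hy
  exact h.hom.mem_normalizer_img hP hx (H hx)

theorem fac_essential_iff [Finite S] [Fact p.Prime] (h : IsFactor F ⊥ t F') (hP : P ≤ S) :
    F'.IsEssential p (img P t) ↔ F.IsEssential p P := by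
  refine ⟨fun H => ?_, h.iso_essential⟩
  obtain ⟨t', h', e, -⟩ := h.iso_symm
  have := h.finite
  exact h.iso_img_img e hP ▸ h'.iso_essential H

theorem fac_autInv (h : IsFactor F ⊥ t F') (hP : P ≤ S) (hc : ∀ φ : MulAut S, φ ∈ F.autGroup S →
    (P.subgroupOf S).map φ.toMonoidHom = P.subgroupOf S) [Finite S] : AutInv F' (img P t) := by
  intro f' hf'
  obtain ⟨f, hf, e⟩ := h.iso_lift le_rfl (hf'.mono h.img_eq.le)
  obtain ⟨α, hα, eα⟩ := hf.exists_aut hf.img_top
  have h1 := (map_aut_subgroupOf_eq_iff α hP).1 (hc α hα)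
  rw [img_congr fun x hx => eα x (hP hx)] at h1
  rw [(h.hom.mono hP).img_img, img_congr (f := f' ∘ t) (g := t ∘ f) fun x hx => e x (hP hx),
    ← (hf.mono hP).hom.img_img, h1]

theorem comm_of_equiv {A B : Type*} [Group A] [Group B] (e : A ≃* B) (h : IsMulCommutative A) :
    IsMulCommutative B := ⟨⟨fun a b => e.symm.injective (by rw [map_mul, map_mul, h.1.1])⟩⟩

theorem fac_pow (h : IsFactor F ⊥ t F') (hP : P ≤ S) {n : ℕ} (he : ∀ x ∈ img P t, x ^ n = 1) :
    ∀ x ∈ P, x ^ n = 1 := fun x hx =>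
  h.injOn (S.pow_mem (hP hx) n) S.one_mem
    (by rw [h.hom.map_pow (hP hx), he _ (mem_img_of_mem t hx), h.hom.map_one])

theorem fac_elem (h : IsFactor F ⊥ t F') (hP : P ≤ S) (he : IsElementaryAbelian p (img P t)) :
    IsElementaryAbelian p P :=
  ⟨comm_of_equiv (facEquiv h hP).symm he.1, fac_pow h hP he.2⟩

theorem fac_extra [Finite S] [Fact p.Prime] (h : IsFactor F ⊥ t F') (hP : P ≤ S)
    (he : IsExtraspecial p (img P t)) (hc : Nat.card (img P t) = p ^ 3) : IsExtraspecial p P :=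
  have := Fusion.finite_of_le hP
  PGroup.isExtraspecial_of_card_eq_cube (h.iso_card hP ▸ hc) fun H =>
    PGroup.IsExtraspecial.not_isMulCommutative he (comm_of_equiv (facEquiv h hP) H)

theorem fac_not_cube [Finite S] [Fact p.Prime] (h : IsFactor F ⊥ t F')
    (hr : ¬ SectionalPRankLE p 2 S) : ¬ (Nat.card S' = p ^ 3 ∧ ¬ IsMulCommutative S') := by
  obtain rfl := h.img_eq
  exact fun H => hr (sectional_two_of_card (h.iso_card le_rfl ▸ H.1) fun hc =>
    H.2 (comm_of_equiv (facEquiv h le_rfl) hc))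

theorem fac_ne_bot [Fact p.Prime] (h : IsFactor F ⊥ t F') (hr : ¬ SectionalPRankLE p 2 S) :
    S' ≠ ⊥ := fun e => hr fun H N _ A _ _ => by
  have h1 : S = ⊥ := (h.iso_img_eq_bot le_rfl).1 (h.img_eq.trans e)
  have : Subsingleton S := by rw [h1]; infer_instance
  have : Subsingleton (H ⧸ N) := (QuotientGroup.mk'_surjective N).subsingleton
  rw [Nat.card_of_subsingleton (1 : A)]
  exact Nat.one_le_pow _ _ (Fact.out : p.Prime).pos

theorem fac_sp4 [Fact p.Prime] (h : IsFactor F ⊥ t F') {U Q : Subgroup Γ} (hs : Sp4Cfg p S' U Q)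
    (h2 : p ≠ 2) : ∃ P : Sylow p (Matrix.symplecticGroup (Fin 2) (ZMod p)),
      Nonempty (S ≃* (P : Subgroup (Matrix.symplecticGroup (Fin 2) (ZMod p)))) := by
  obtain rfl := h.img_eq
  obtain ⟨P, ⟨e⟩⟩ := hs.iso h2
  exact ⟨P, ⟨(facEquiv h le_rfl).trans e⟩⟩

end Transport

end CfsgLib.Fus2
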