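import Mathlib
import Cfsg.Agent.Lib.Fus2.NN1
import Cfsg.Agent.Lib.Fus2.Norm

/-!
Essential subgroups that are not normal in a `p`-group of sectional rank at most three.
-/

set_option autoImplicit false
set_option linter.unusedSectionVars false

namespace CfsgLib.Fus2

open Subgroup Cfsg Cfsg.FusionSystem CfsgLib.LAE CfsgLib.Fusion
open scoped commutatorElement

/-- Elementary abelian of order `p ^ 2` or extraspecial of order `p ^ 3` and exponent `p`. -/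
def Pearl (p : ℕ) {Γ : Type*} [Group Γ] (E : Subgroup Γ) : Prop :=
  (IsElementaryAbelian p E ∧ Nat.card E = p ^ 2) ∨
    (IsExtraspecial p E ∧ Nat.card E = p ^ 3 ∧ ∀ x ∈ E, x ^ p = 1)

theorem Pearl.of_equiv {p : ℕ} [Fact p.Prime] {Γ Ω : Type*} [Group Γ] [Group Ω] {E : Subgroup Γ}
    {E' : Subgroup Ω} [Finite E'] (h : Pearl p E) (e : E' ≃* E) : Pearl p E' := by
  have he : (∀ x ∈ E, x ^ p = 1) → ∀ x ∈ E', x ^ p = 1 := fun H x hx =>
    congrArg Subtype.val (e.injective (a₁ := ⟨x, hx⟩ ^ p) (a₂ := 1) (by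
      rw [map_pow, map_one]; exact Subtype.ext (H _ (e ⟨x, hx⟩).2)))
  have hc := Nat.card_congr e.toEquiv
  rcases h with h | h
  · exact Or.inl ⟨⟨comm_of_equiv e.symm h.1.1, he h.1.2⟩, hc.trans h.2⟩
  · exact Or.inr ⟨PGroup.isExtraspecial_of_card_eq_cube (hc.trans h.2.1) fun H =>
      PGroup.IsExtraspecial.not_isMulCommutative h.1 (comm_of_equiv e H), hc.trans h.2.1, he h.2.2⟩

variable {Γ : Type*} [Group Γ] {p : ℕ} {N E E₂ L L₂ D D₀ X V W A : Subgroup Γ} {v w g y h h' : Γ}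
  {a b : ℤ}

/-- The Frattini subgroup in the ambient group. -/
abbrev phi (X : Subgroup Γ) : Subgroup Γ := (frattini X).map X.subtype

/-- The structure `E = ⟨v, w⟩ ∘ D₀`. -/
structure EStr (p : ℕ) (N E L D D₀ : Subgroup Γ) (v w : Γ) : Prop
    extends NatSec p N E L D₀ E where
  odd : p ≠ 2
  D0D : D₀ ≤ D
  DE : D ≤ E
  iD : D₀.relIndex D = p
  iE : D.relIndex E = p
  res : ⁅pResOf p L, D₀⁆ ≤ ⊥
  cND : ⁅N, D⁆ ≤ D₀
  cNN : ⁅N, N⁆ ≤ D
  pw : ∀ g ∈ N, g ^ p ∈ D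
  vD : v ∈ D
  v0 : v ∉ D₀
  wE : w ∈ E
  wD : w ∉ D
  vc : v ∈ centralizer (D₀ : Set Γ)
  wc : w ∈ centralizer (D₀ : Set Γ)
  vp : v ^ p = 1
  wp : w ^ p = 1

variable [Finite Γ] [hp : Fact p.Prime]

theorem Am.exists_eStr (h : Am p N E E₂ L L₂) (hK : KCfg p E E₂ L L₂ ⊥) :
    ∃ D₀ v w, EStr p N E L (E ⊓ E₂) D₀ v w := by
  obtain ⟨K, -, k2, k3, -, k5, -, k7, k8⟩ := hK
  have hD := h.comm_le_of (h.h₁.GL'.trans k3) k7 k8
  obtain ⟨y, hy, hyE⟩ := h.exists₂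
  obtain ⟨l, -, t1, t2, s1, t3, -⟩ := h.h₁.transvection inf_le_left h.idx₁ h.GD k2 k3 k5
    (h.h₂.le hy) hyE (commutator_le.1 hD y (h.h₂.le hy))
  obtain ⟨z, hz, hzc, -, -, hzE⟩ := s1.exists_z
  have key : ∀ X : Subgroup Γ, E ⊓ E₂ ⊓ conjS l (E ⊓ E₂) ≤ X → ∀ a ∈ E,
      (a * (z * a * z⁻¹)⁻¹ ∈ X ↔ a ∈ X) := fun X hX a ha => by
    have h1 := hX (conj_mem' (s1.invX (s1.EL ha)) (hzE a ha))
    have e : a * (z * a * z⁻¹)⁻¹ * (a⁻¹ * (a * (z * a * z⁻¹)) * a) = a * a := by group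
    refine ⟨fun H => mem_of_sq_mem h.odd (pg_zpowers h.h₁.pE ha) (e ▸ X.mul_mem H h1), fun H => ?_⟩
    have := X.mul_mem (X.mul_mem H H) (X.inv_mem h1)
    rwa [← e, mul_inv_cancel_right] at this
  obtain ⟨a, ha, ha0⟩ := exists_not_mem t2
  obtain ⟨b, hb, hb0⟩ := exists_not_mem h.idx₁
  obtain ⟨v1, -, v2⟩ := s1.inverted h.odd t3 hz hzc hzE ha.1
  obtain ⟨w1, -, w2⟩ := s1.inverted h.odd t3 hz hzc hzE hb
  exact ⟨_, _, _, s1, h.odd, inf_le_left, inf_le_left, t2, h.idx₁, t3, hD.trans t1, h.comm_le,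
    fun g hg => ⟨h.h₁.pow_mem hg, h.h₂.pow_mem hg⟩, (key _ inf_le_left a ha.1).2 ha,
    fun H => ha0 ((key _ le_rfl a ha.1).1 H), (key E (inf_le_left.trans inf_le_left) b hb).2 hb,
    fun H => hb0 ((key _ inf_le_left b hb).1 H), v1, w1, v2, w2⟩

namespace EStr

theorem eD (h : EStr p N E L D D₀ v w) : D₀ ⊔ zpowers v = D := sup_zpowers_eq h.D0D h.iD h.vD h.v0

theorem eE (h : EStr p N E L D D₀ v w) : D ⊔ zpowers w = E := sup_zpowers_eq h.DE h.iE h.wE h.wD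

theorem c_mem (h : EStr p N E L D D₀ v w) : ⁅v, w⁆ ∈ D₀ :=
  cm_swap (commutator_le.1 h.cND w (h.le h.wE) v h.vD)

theorem nD0 (h : EStr p N E L D D₀ v w) : N ≤ normalizer (D₀ : Set Γ) := h.GL'.trans h.invX

theorem nD (h : EStr p N E L D D₀ v w) : N ≤ normalizer (D : Set Γ) :=
  le_normalizer_of_cm_le h.cNN (h.DE.trans h.le)

theorem cm_not_mem (h : EStr p N E L D D₀ v w) (hg : g ∈ N) (hgE : g ∉ E) (hy : y ∈ E)
    (hyD : y ∉ D) : ⁅g, y⁆ ∉ D₀ := fun hc => h.not_cm hg hgE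
  (sup_zpowers_eq h.DE h.iE hy hyD ▸ cm_sup_zpowers (h.DE.trans (h.le.trans h.nD0))
    (h.nD0 (h.le hy)) (commutator_le.1 h.cND g hg) hc)

theorem c_cent (h : EStr p N E L D D₀ v w) : E ≤ centralizer {⁅v, w⁆} := by
  rw [← h.eE, ← h.eD]
  refine sup_le (sup_le (fun d hd => mem_centralizer_singleton_iff.2 ?_) (zpowers_le.2 ?_))
    (zpowers_le.2 ?_)
  · have h1 := (commute_of_mem h.vc hd).symm
    have h2 := (commute_of_mem h.wc hd).symm
    exact ((h1.mul_right h2).mul_right h1.inv_right).mul_right h2.inv_right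
  · exact mem_centralizer_singleton_iff.2 (commute_of_mem h.vc h.c_mem)
  · exact mem_centralizer_singleton_iff.2 (commute_of_mem h.wc h.c_mem)

theorem pearl (h : EStr p N E L D D₀ v w) (hc : D₀ ≤ zpowers ⁅v, w⁆ ⊔ phi D₀) : Pearl p E := by
  have e0 := Core.eq_of_le_sup_map_frattini (zpowers_le.2 h.c_mem) hc
  have hv : v ∈ closure {v, w} := subset_closure (by simp)
  have hw : w ∈ closure {v, w} := subset_closure (by simp)
  have e1 : closure {v, w} = E := le_antisymm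
    ((closure_le E).2 (by rintro _ (rfl | rfl); exacts [h.DE h.vD, h.wE])) (by
      rw [← h.eE, ← h.eD, ← e0]
      exact sup_le (sup_le (zpowers_le.2 (mul_mem (mul_mem (mul_mem hv hw) (inv_mem hv))
        (inv_mem hw))) (zpowers_le.2 hv)) (zpowers_le.2 hw))
  have c0 : D₀ ≤ centralizer (E : Set Γ) := by
    rw [← e0, zpowers_le]
    exact fun x hx => mem_centralizer_singleton_iff.1 (h.c_cent hx)
  have he : ∀ x ∈ E, x ^ p = 1 := fun x hx => pow_eq_one_of_class_two (s := {v, w}) h.odd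
    (by rintro _ (rfl | rfl); exacts [h.vp, h.wp]) (by rw [e1]; exact h.cmE.trans c0) (e1 ▸ hx)
  by_cases h1 : ⁅v, w⁆ = 1
  · have e2 : D₀ = ⊥ := by rw [← e0, h1, zpowers_one_eq_bot]
    have h2 := h.cmE
    have h3 := h.idx2
    rw [e2] at h2 h3
    exact Or.inl ⟨⟨⟨⟨fun x y => Subtype.ext (commutatorElement_eq_one_iff_mul_comm.1
      (commutator_le.1 h2 x x.2 y y.2))⟩⟩, he⟩, by rwa [relIndex_bot_left] at h3⟩
  · have h2 := card_eq_of_relIndex h.XY (e0 ▸ card_zpowers_eq h1 (he _ (h.XY h.c_mem))) h.idx2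
    have h3 : Nat.card E = p ^ 3 := by rw [h2]; ring
    exact Or.inr ⟨PGroup.isExtraspecial_of_card_eq_cube h3 fun H => h1
      (commutatorElement_eq_one_iff_mul_comm.2
        (congrArg Subtype.val (H.1.1 ⟨v, h.DE h.vD⟩ ⟨w, h.wE⟩))), h3, he⟩

theorem not_pearl (h : EStr p N E L D D₀ v w) (hr : Rk p 3 N) (hn : ¬ Pearl p E) :
    (zpowers ⁅v, w⁆ ⊔ phi D₀).relIndex D₀ = p ∧ D₀ ≤ centralizer (E : Set Γ) := by
  have p0 := h.pX h.XY
  have hY : zpowers ⁅v, w⁆ ⊔ phi D₀ ≤ D₀ := sup_le (zpowers_le.2 h.c_mem) (map_subtype_le _)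
  have hc : E ≤ centralizer (zpowers ⁅v, w⁆ : Set Γ) := by
    rw [Core.centralizer_zpowers]; exact h.c_cent
  have nY : E ≤ normalizer ((zpowers ⁅v, w⁆ ⊔ phi D₀ : Subgroup Γ) : Set Γ) :=
    le_normalizer_sup (le_centralizer_normalizer hc)
      ((h.le.trans h.nD0).trans (Core.normalizer_le_normalizer_map_frattini D₀))
  set Y := zpowers ⁅v, w⁆ ⊔ phi D₀
  have cc : ⁅v, w⁆ ∈ Y := mem_sup_left (mem_zpowers _)
  have gen : ∀ u : Γ, (∀ d ∈ D₀, ⁅u, d⁆ ∈ Y) → ⁅u, v⁆ ∈ Y → ⁅u, w⁆ ∈ Y → ∀ x ∈ E, ⁅u, x⁆ ∈ Y :=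
    fun u h1 h2 h3 => h.eE ▸ cm_sup_zpowers (h.DE.trans nY) (nY h.wE)
      (h.eD ▸ cm_sup_zpowers (h.XY.trans nY) (nY (h.DE h.vD)) h1 h2) h3
  have h1 : ⁅E, E⁆ ≤ Y := commutator_le.2 fun u hu => gen u
    (fun d hd => cm_swap (gen d
      (fun d' hd' => mem_sup_right (commutator_le.1 (Core.commutator_le_map_frattini p0) d hd d' hd'))
      (by rw [cm_eq_one' h.vc hd]; exact Y.one_mem) (by rw [cm_eq_one' h.wc hd]; exact Y.one_mem) u hu))
    (cm_swap (gen v (fun d hd => by rw [cm_eq_one h.vc hd]; exact Y.one_mem) (by simp) cc u hu))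
    (cm_swap (gen w (fun d hd => by rw [cm_eq_one h.wc hd]; exact Y.one_mem) (cm_swap cc) (by simp)
      u hu))
  have h2 := hr E Y h.le h1 fun x hx => by
    obtain ⟨d, hd, i, rfl⟩ := exists_eq_mul_zpow h.pE h.DE h.iE h.wE h.wD hx
    obtain ⟨d', hd', j, rfl⟩ := exists_eq_mul_zpow (h.pX h.DE) h.D0D h.iD h.vD h.v0 hd
    have hv := E.zpow_mem (h.DE h.vD) j
    refine mul_pow_mem (nY (h.DE hd)) (nY (E.zpow_mem h.wE i))
      (commutator_le.1 h1 _ (h.DE hd) _ (E.zpow_mem h.wE i))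
      (mul_pow_mem (nY (h.XY hd')) (nY hv) (commutator_le.1 h1 _ (h.XY hd') _ hv)
        (mem_sup_right (Core.pow_mem_map_frattini p0 hd')) (zpow_pow_mem (h.vp ▸ Y.one_mem) j))
      (zpow_pow_mem (h.wp ▸ Y.one_mem) i)
  rw [← relIndex_mul_relIndex _ _ _ hY h.XY, h.idx2] at h2
  have h3 : Y.relIndex D₀ = p := relIndex_eq_prime p0 (fun H => hn (h.pearl H)) (by
    have := hp.out.two_le
    by_contra H
    exact not_pow_le (p := p) (a := 4) (b := 3) (le_trans (by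
      rw [show p ^ 4 = p ^ 2 * p ^ 2 by ring]; exact Nat.mul_le_mul_right _ (not_lt.1 H)) h2)
      (by omega))
  refine ⟨h3, ?_⟩
  obtain ⟨d, hd, hdY⟩ := exists_not_mem h3
  have e0 : zpowers ⁅v, w⁆ ⊔ zpowers d = D₀ := Core.eq_of_le_sup_map_frattini
    (sup_le (zpowers_le.2 h.c_mem) (zpowers_le.2 hd)) (by
      rw [sup_right_comm]; exact (sup_zpowers_eq hY h3 hd hdY).ge)
  have c0 : D₀ ≤ centralizer (D₀ : Set Γ) := e0 ▸ sup_zpowers_le_centralizer
    ((zpowers_le.2 (h.XY h.c_mem)).trans hc) (hc (h.XY hd))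
  rw [le_centralizer_iff, ← h.eE, ← h.eD]
  exact sup_le (sup_le c0 (zpowers_le.2 h.vc)) (zpowers_le.2 h.wc)

theorem nCh (h : EStr p N E L D D₀ v w) (hr : Rk p 3 N) (hn : ¬ Pearl p E) (h5 : 5 ≤ p) :
    (N ⊓ centralizer (N : Set Γ)) ⊔ ⁅N, N⁆ = D ∧ ∃ t ∈ L, ∃ a b A, NCh p t a b
      (phi (N ⊓ centralizer (N : Set Γ)) ⊔ ⁅⁅N, N⁆, N⁆) (phi (N ⊓ centralizer (N : Set Γ)) ⊔ ⁅N, N⁆)
      D A N ∧ Wt t (a * a) E N ∧ E ≠ A := by
  obtain ⟨iY, c0⟩ := h.not_pearl hr hn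
  obtain ⟨a, b, hab, ha⟩ := exists_gen p
  have hk : ∀ k : ℕ, k = 2 ∨ k = 3 ∨ k = 5 → (a : ZMod p) ^ k ≠ 1 := fun k hk e => by
    have h1 := ha k e
    have h6 : p ≠ 6 := fun e => absurd (e ▸ hp.out) (by decide)
    rcases hk with rfl | rfl | rfl
    · have := Nat.le_of_dvd (by omega) h1; omega
    · have := Nat.le_of_dvd (by omega) h1; omega
    · rcases (Nat.dvd_prime Nat.prime_five).1 h1 with e | e <;> omega
  have a2 := hk 2 (by simp)
  have a3 := hk 3 (by simp)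
  obtain ⟨t, ht, htc, tN, w5, v₀, hv₀, w₀, hw₀, k1, k2, k3, k4, k5⟩ := h.exists_torus hab
  push_cast at hab
  have a0 : (a : ZMod p) ≠ 0 := fun e => by simp [e] at hab
  have DN := h.DE.trans h.le
  have pD := h.pX h.DE
  obtain ⟨g, hg, hgE⟩ := h.exists_not_mem
  have t0 := h.invX ht
  have tc : ∀ d ∈ D₀, ⁅t, d⁆ = 1 := fun d hd => cm_mem_of_res h.res ht htc hd
  have hv₀D : v₀ ∈ D := by_contra fun H => h.cm_not_mem hg hgE hv₀ H (k3 g hg)
  have eD := sup_zpowers_eq h.D0D h.iD hv₀D k1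
  rw [eD] at k2
  have tD : t ∈ normalizer (D : Set Γ) := eD ▸ Ew.mem_normalizer k4 t0 (h.nD0 (h.le hv₀))
  have wD : Wt t a D₀ D := eD ▸ Ew.wt k4 t0 (h.nD0 (h.le hv₀))
  have k5' : Ew t b D w₀ := h.D0D k5
  have wE : Wt t b D E := sup_zpowers_eq h.DE h.iE hw₀ k2 ▸ k5'.wt tD (h.nD (h.le hw₀))
  have x1 := ew_eig tD h.nD tN h.cNN wE hg (w5 g hg)
  have x2 : (g ^ b)⁻¹ * (t * g * t⁻¹) ∈ N := N.mul_mem (N.inv_mem (N.zpow_mem hg b)) (conj_mem tN hg)
  have x3 : (g ^ b)⁻¹ * (t * g * t⁻¹) ∉ E := fun H => hgE (w5.step h.pG hg H fun e => a3 (by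
    push_cast at e; linear_combination hab - a * e))
  set x := (g ^ b)⁻¹ * (t * g * t⁻¹)
  have iA := relIndex_sup_zpowers (h.nD x2) (fun H => x3 (h.DE H)) (h.pw x x2)
  have xA : x ∈ D ⊔ zpowers x := mem_sup_right (mem_zpowers x)
  have tA := x1.mem_normalizer tD (h.nD x2)
  have wA := x1.wt tD (h.nD x2)
  have AN : D ⊔ zpowers x ≤ N := sup_le DN (zpowers_le.2 x2)
  have DA : D ≤ D ⊔ zpowers x := le_sup_left
  have mA := fun u => mem_sup_zpowers (x := u) (h.nD x2)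
  have cA0 := fun H => sup_zpowers_le_centralizer (U := D) (x := x) H
  set A := D ⊔ zpowers x
  have hEA : E ≠ A := fun e => x3 (e ▸ xA)
  have jA : A.relIndex N = p := relIndex_eq_of_mul DA AN iA (by
    rw [← relIndex_mul_relIndex _ _ _ h.DE h.le, h.iE, h.idx])
  have EA := inf_eq_of_ne_prime h.DE DA h.iE iA hEA
  have nA := le_normalizer_of_prime h.pG AN jA
  have wN : Wt t b A N := sup_zpowers_eq AN jA (h.le hw₀) (fun H => k2 (EA.le ⟨hw₀, H⟩)) ▸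
    (k5'.mono DA).wt tA (nA (h.le hw₀))
  have z0 : N ≤ centralizer (D₀ : Set Γ) := by
    rw [← h.sup_eq (cm_mem_right tN hg) fun H => hgE (w5.step h.pG hg (b := 1) (by
      have := conj_mem' (h.GN hg) H
      rw [Ew]; convert this using 1; group) fun e => a2 (by
        push_cast at e; linear_combination -e))]
    exact sup_le (le_centralizer_iff.1 c0) (zpowers_le.2 (mem_centralizer_of_cm fun d hd =>
      commutator_le.1 h.res _ (cm_mem_left (le_normalizer_pResOf L (h.GL' hg))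
        (mem_pResOf ht htc)) d hd))
  have cb : ∀ {U : Subgroup Γ}, U ≤ N → ⁅U, D₀⁆ ≤ ⊥ := fun hU =>
    (commutator_eq_bot_iff_le_centralizer.2 (hU.trans z0)).le
  have cD : D ≤ centralizer (D : Set Γ) := h.eD ▸ sup_zpowers_le_centralizer
    (h.D0D.trans (DN.trans z0)) h.vc
  have cAD : A ≤ centralizer (D : Set Γ) := commutator_eq_bot_iff_le_centralizer.1 (le_bot_iff.1
    (comm_le_of_wt (h.pX h.XY) (norm_bot ⊤ trivial) (norm_bot A) (norm_bot D) tD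
      ((commutator_mono AN le_rfl).trans h.cND) (cb AN) (cb DN)
      (commutator_eq_bot_iff_le_centralizer.2 cD).le (cb AN) wA wD (wt_one tc) fun e => a3 (by
        push_cast at e; linear_combination e)))
  have cA := cA0 cD (cAD xA)
  have Z0 : D₀ ≤ N ⊓ centralizer (N : Set Γ) := le_inf (h.D0D.trans DN) (le_centralizer_iff.1 z0)
  have ZD : N ⊓ centralizer (N : Set Γ) ≤ D := fun z hz => by_contra fun H =>
    h.cm_not_mem hg hgE (h.center_le hz.1 hz.2) H (by rw [cm_eq_one' hz.2 hg]; exact D₀.one_mem)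
  have tZ : t ∈ normalizer ((N ⊓ centralizer (N : Set Γ) : Subgroup Γ) : Set Γ) :=
    inf_normalizer_le_normalizer_inf ⟨tN, LAE.normalizer_le_normalizer_centralizer N tN⟩
  have cZ : N ⊓ centralizer (N : Set Γ) ≤ centralizer (N : Set Γ) := inf_le_right
  set Z := N ⊓ centralizer (N : Set Γ)
  have pZ := pD.to_le ZD
  have v1 := h.cm_not_mem hg hgE h.wE h.wD
  have v2 : ⁅g, w⁆ ∈ ⁅N, N⁆ := commutator_mem_commutator hg (h.le h.wE)
  have eW : Z ⊔ ⁅N, N⁆ = D := le_antisymm (sup_le ZD h.cNN) (by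
    rw [← sup_zpowers_eq h.D0D h.iD (h.cNN v2) v1]
    exact sup_le_sup Z0 (zpowers_le.2 v2))
  have pw0 : ∀ d ∈ D, d ^ p ∈ phi D₀ := fun d hd => by
    obtain ⟨d', hd', j, rfl⟩ := exists_eq_mul_zpow pD h.D0D h.iD h.vD h.v0 hd
    rw [((commute_of_mem h.vc hd').symm.zpow_right j).mul_pow,
      pow_eq_one_zpowers h.vp _ (zpow_mem_zpowers v j), mul_one]
    exact Core.pow_mem_map_frattini (h.pX h.XY) hd'
  have nc : N ≤ normalizer (zpowers ⁅v, w⁆ : Set Γ) := le_centralizer_normalizer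
    (z0.trans (centralizer_le (SetLike.coe_subset_coe.2 (zpowers_le.2 h.c_mem))))
  have XY : phi Z ⊔ ⁅⁅N, N⁆, N⁆ ≤ zpowers ⁅v, w⁆ ⊔ phi D₀ := by
    refine sup_le ((Core.map_frattini_le_iff_of_isPGroup pZ).2 ⟨commutator_le.2 fun u hu u' hu' => ?_,
      fun z hz => mem_sup_right (pw0 z (ZD hz))⟩)
      (((commutator_mono h.cNN le_rfl).trans ?_).trans le_sup_left)
    · rw [cm_eq_one (cZ hu) hu'.1]; exact one_mem _
    · rw [commutator_comm, commutator_le, ← h.eD]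
      intro n hn
      refine cm_sup_zpowers (h.D0D.trans (DN.trans nc)) (nc (DN h.vD))
        (fun d hd => by rw [cm_eq_one (z0 hn) hd]; exact one_mem _) (cm_swap ?_)
      refine (sup_zpowers_eq AN jA (h.le h.wE) (fun H => h.wD (EA.le ⟨h.wE, H⟩)) ▸
        cm_sup_zpowers (AN.trans nc) (nc (h.le h.wE)) (fun u hu => ?_) (mem_zpowers _) :
          ∀ n ∈ N, ⁅v, n⁆ ∈ zpowers ⁅v, w⁆) n hn
      rw [cm_eq_one' (cAD hu) h.vD]; exact one_mem _
  have X0 := XY.trans (sup_le (zpowers_le.2 h.c_mem) (map_subtype_le _))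
  have tN' := Core.normalizer_inf_le_normalizer_commutator N N ⟨tN, tN⟩
  have tΦ := Core.normalizer_le_normalizer_map_frattini Z tZ
  have tX := normalizer_inf_normalizer_le_normalizer_sup _ _
    ⟨tΦ, Core.normalizer_inf_le_normalizer_commutator _ N ⟨tN', tN⟩⟩
  have tV := normalizer_inf_normalizer_le_normalizer_sup _ _ ⟨tΦ, tN'⟩
  have XV : phi Z ⊔ ⁅⁅N, N⁆, N⁆ ≤ phi Z ⊔ ⁅N, N⁆ :=
    sup_le_sup_left (commutator_mono (h.cNN.trans DN) le_rfl) _
  have γ3 : ⁅N, ⁅N, N⁆⁆ ≤ phi Z ⊔ ⁅⁅N, N⁆, N⁆ := commutator_comm _ N ▸ le_sup_right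
  have Φ0 : phi D₀ ≤ phi Z ⊔ ⁅⁅N, N⁆, N⁆ :=
    (Core.map_frattini_mono_of_isPGroup pZ Z0).trans le_sup_left
  have ΦX : phi Z ≤ phi Z ⊔ ⁅⁅N, N⁆, N⁆ := le_sup_left
  set X := phi Z ⊔ ⁅⁅N, N⁆, N⁆
  have nX : N ≤ normalizer (X : Set Γ) := le_centralizer_normalizer
    (z0.trans (centralizer_le (SetLike.coe_subset_coe.2 X0)))
  have cW : ⁅N, D⁆ ≤ X := eW ▸ Core.commutator_sup_right_le (ZD.trans (DN.trans nX))
    (h.cNN.trans (DN.trans nX)) (commutator_le.2 fun n hn z hz => by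
      rw [cm_eq_one' (cZ hz) hn]; exact one_mem _) γ3
  have iX : X.relIndex D₀ = p := by
    rwa [le_antisymm XY (sup_le (zpowers_le.2 (cm_swap
      (commutator_le.1 cW w (h.le h.wE) v h.vD))) Φ0)]
  have eV : phi Z ⊔ ⁅N, N⁆ = X ⊔ zpowers ⁅g, w⁆ := by
    refine le_antisymm (sup_le (ΦX.trans le_sup_left) ?_)
      (sup_le XV (zpowers_le.2 (mem_sup_right v2)))
    have n1 : N ≤ normalizer ((X ⊔ zpowers ⁅g, w⁆ : Subgroup Γ) : Set Γ) := le_normalizer_of_cm_le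
      (cW.trans le_sup_left) (sup_le (X0.trans h.D0D) (zpowers_le.2 (h.cNN v2)))
    have cc : ⁅g, w⁆ ∈ X ⊔ zpowers ⁅g, w⁆ := mem_sup_right (mem_zpowers _)
    have gen : ∀ u ∈ N, ⁅u, w⁆ ∈ X ⊔ zpowers ⁅g, w⁆ → ⁅u, g⁆ ∈ X ⊔ zpowers ⁅g, w⁆ →
        ∀ y ∈ N, ⁅u, y⁆ ∈ X ⊔ zpowers ⁅g, w⁆ := fun u hu h1 h2 =>
      h.sup_eq hg hgE ▸ cm_sup_zpowers (h.le.trans n1) (n1 hg) (h.eE ▸ cm_sup_zpowers (DN.trans n1)
        (n1 (h.le h.wE)) (fun d hd => mem_sup_left (commutator_le.1 cW u hu d hd)) h1) h2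
    exact commutator_le.2 fun u hu => gen u hu
      (cm_swap (gen w (h.le h.wE) (by simp) (cm_swap cc) u hu)) (cm_swap (gen g hg cc (by simp) u hu))
  have i1 : X.relIndex (phi Z ⊔ ⁅N, N⁆) = p := eV ▸ relIndex_sup_zpowers (nX (DN (h.cNN v2)))
    (fun H => v1 (X0 H)) (Φ0 (pw0 _ (h.cNN v2)))
  have VD : phi Z ⊔ ⁅N, N⁆ ≤ D := sup_le ((map_subtype_le _).trans ZD) h.cNN
  have cN : ⁅N, N⁆ ≤ phi Z ⊔ ⁅N, N⁆ := le_sup_right
  set V := phi Z ⊔ ⁅N, N⁆
  have i2 : V.relIndex D = p := relIndex_eq_of_mul XV VD i1 (by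
    rw [← relIndex_mul_relIndex _ _ _ X0 h.D0D, iX, h.iD])
  have ne : D₀ ≠ V := fun e => v1 (e ▸ cN v2)
  have xp : x ^ p ∈ X := by
    have e1 : Ew t (a * a) X (x ^ p) := Ew.pow (nX x2) tX
      (by rw [cm_eq_one (cAD xA) x1]; exact one_mem _) (Φ0 (pw0 _ x1))
    refine (wt_one (X := X) (Y := D₀) fun d hd => by rw [tc d hd]; exact one_mem _).step
      (h.pX h.XY) (wD.step pD (h.pw x x2) (e1.mono X0) fun e => a2 ?_) e1 fun e => a2 ?_
    · have : (a : ZMod p) = 1 := mul_left_cancel₀ a0 (by push_cast at e; linear_combination e)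
      rw [this, one_pow]
    · push_cast at e; linear_combination e
  refine ⟨eW, t, ht, a, b, A, ⟨h.pG, XV, VD, DA, AN, i1, i2, iA, jA, tX, tV, tD, tA, tN,
    inf_eq_of_ne_prime X0 XV iX i1 ne ▸ wD.inf VD tV, wt_one ?_, wA, wN,
    (commutator_eq_bot_iff_le_centralizer.2 cA).le.trans bot_le, cW, cN, fun u hu => ?_,
    fun H => h.cm_not_mem x2 x3 h.wE h.wD (X0 (cm_swap (commutator_le.1 H w (h.le h.wE) x xA))),
    hab, a2, a3, hk 5 (by simp)⟩, w5, hEA⟩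
  · have nV := le_normalizer_of_prime pD VD i2
    exact sup_eq_of_ne_prime h.D0D VD h.iD i2 ne ▸ cm_sup (h.D0D.trans nV) (VD.trans nV)
      (fun d hd => by rw [tc d hd]; exact one_mem _) fun y hy => cm_mem_right tV hy
  · obtain ⟨d, hd, i, rfl⟩ := (mA u).1 hu
    rw [((commute_of_mem (cAD xA) hd).symm.zpow_right i).mul_pow]
    exact X.mul_mem (Φ0 (pw0 d hd)) (zpow_pow_mem xp i)

end EStr

theorem mem_normalizer_congr (hX : X ≤ N) (e : ∀ y ∈ N, h * y * h⁻¹ = h' * y * h'⁻¹)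
    (H : h ∈ normalizer (X : Set Γ)) : h' ∈ normalizer (X : Set Γ) :=
  Core.mem_normalizer_of_forall_conj_mem fun x hx => e x (hX hx) ▸ conj_mem H hx

theorem NCh.congr (c : NCh p h a b X V W A N) (e : ∀ y ∈ N, h * y * h⁻¹ = h' * y * h'⁻¹) :
    NCh p h' a b X V W A N :=
  have WN := c.l3.trans c.l4
  have VN := c.l2.trans WN
  { c with
    hX := mem_normalizer_congr (c.l1.trans VN) e c.hX
    hV := mem_normalizer_congr VN e c.hV
    hW := mem_normalizer_congr WN e c.hW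
    hA := mem_normalizer_congr c.l4 e c.hA
    hN := mem_normalizer_congr le_rfl e c.hN
    w1 := c.w1.congr fun y hy => e y (VN hy)
    w2 := c.w2.congr fun y hy => e y (WN hy)
    w3 := c.w3.congr fun y hy => e y (c.l4 hy)
    w4 := c.w4.congr e }

variable {S : Subgroup Γ} {F : FusionSystem S}

/-- The configuration given by an essential subgroup that is not normal. -/
theorem LR.exists_eStr (h : LR p F) (h2 : p ≠ 2) (hr : Rk p 3 S) (hE : F.IsEssential p E) {t : Γ}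
    (ht : t ∈ normalizerIn S (normalizerIn S E)) (htN : t ∉ normalizerIn S E) :
    ∃ M, AMod p F E M ∧ ∃ L ≤ M, ∃ D₀ v w,
      EStr p (normalizerIn S E) E L (E ⊓ conjS t E) D₀ v w := by
  obtain ⟨M, hM, L, hL, hP⟩ := h.exists_par h2 hr hE
  have hP' := hP.conj t
  rw [mem_normalizer_iff_conjS.1 ht.2] at hP'
  have am := Am.mk hP hP' (fun e => htN ⟨ht.1, mem_normalizer_iff_conjS.2 e.symm⟩)
    (hr.mono (normalizerIn_le _ _)) h2
  refine ⟨M, hM, L, hL, am.exists_eStr ?_⟩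
  rcases am.main with H | H | H
  · exact H
  · exact (PGroup.IsExtraspecial.not_isMulCommutative H.1.extra
      (comm_of_equiv (conjSEquiv t E) H.1.elem.1)).elim
  · exact (PGroup.IsExtraspecial.not_isMulCommutative H.1.extra
      (comm_of_equiv (conjSEquiv t E).symm H.1.elem.1)).elim

theorem LR.pearl_aux (h : LR p F) (h5 : 5 ≤ p) (hr : Rk p 3 S) (hE : F.IsEssential p E)
    (hn : ¬ S ≤ normalizer (E : Set Γ)) (hN : F.IsFullyNormalized (normalizerIn S E)) :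
    Pearl p E := by
  by_contra hP
  have hlt := lt_normalizerIn h.pS (lt_of_le_of_ne (normalizerIn_le S E) fun e =>
    hn (e.ge.trans inf_le_right))
  obtain ⟨t, ht, htN⟩ := SetLike.exists_of_lt hlt
  obtain ⟨M₁, m₁, L, hL, D₀, v, w, s⟩ := h.exists_eStr (by omega) hr hE ht htN
  obtain ⟨eW, z, hz, a, b, A, c, w5, hEA⟩ := s.nCh (hr.mono (normalizerIn_le _ _)) hP h5
  obtain ⟨M, m⟩ := h.ex _ (centric_of_le hE.1 s.le (normalizerIn_le _ _)) hN
  obtain ⟨z', hz', e⟩ := m.lift _ _ le_rfl m.le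
    (m₁.mor _ le_rfl z (hL hz) fun x hx => conj_mem c.hN hx) (img_conj_of_mem_normalizer c.hN)
  have n1 := le_normalizer_commutator m.norm m.norm
  have n2 := le_normalizer_inf m.norm (m.norm.trans (LAE.normalizer_le_normalizer_centralizer _))
  have n3 := n2.trans (Core.normalizer_le_normalizer_map_frattini _)
  exact (c.congr e).false m.toMod (hr.mono (normalizerIn_le _ _)) hz'
    (le_normalizer_sup n3 (le_normalizer_commutator n1 m.norm)) (le_normalizer_sup n3 n1)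
    (eW ▸ le_normalizer_sup n2 n1)
    (sup_le (Core.map_frattini_mono_of_isPGroup s.pG inf_le_left)
      (Core.commutator_le_map_frattini s.pG))
    s.DE s.le s.iE s.idx (w5.congr e) hEA (fun u hu hu' => ⟨hu.1, hu'⟩) hlt.not_ge

/-- An essential subgroup may be moved so that its normalizer is fully normalized. -/
theorem exists_good_conj (hS : IsPGroup p S) (hF : F.IsSaturated p) (hE : F.IsEssential p E) :
    ∃ f, Mor F (normalizerIn S E) f ∧ F.IsEssential p (img E f) ∧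
      img (normalizerIn S E) f = normalizerIn S (img E f) ∧
      F.IsFullyNormalized (normalizerIn S (img E f)) := by
  obtain ⟨f, hf, hn⟩ := sat_exists_mor_fullyNormalized hS hF (normalizerIn_le S E)
  have hf' := hf.mono (le_normalizerIn (normalizerIn_le S E))
  have hEN := le_normalizerIn hE.1.1
  have e := hf'.img_normalizerIn_eq hEN le_rfl hE.2.1
  exact ⟨f, hf', (hf'.mono hEN).essential_img hE (hf'.fullyNormalized_img hEN le_rfl hE.2.1), e,
    e ▸ hn⟩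

theorem LR.pearl_of_not_normal (h : LR p F) (h5 : 5 ≤ p) (hr : Rk p 3 S) (hE : F.IsEssential p E)
    (hn : ¬ S ≤ normalizer (E : Set Γ)) : Pearl p E := by
  obtain ⟨f, hf, hE', e, hN⟩ := exists_good_conj h.pS h.sat hE
  have hf' := hf.mono (le_normalizerIn hE.1.1)
  refine (h.pearl_aux h5 hr hE' (fun H => hn ?_) hN).of_equiv (hf'.hom.isoOf hf'.injOn rfl)
  rw [normalizerIn_eq H] at e
  exact (eq_of_le_card (normalizerIn_le S E) (by rw [← hf.card_img, e])).ge.trans inf_le_right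

end CfsgLib.Fus2
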