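import Mathlib
import Cfsg.Agent.Lib.Fus2.NN2
import Cfsg.Agent.Lib.MaxCl.Rank
import Cfsg.Agent.Lib.Fusion.MaxClFus

/-!
Groups of maximal class inside an ambient group, and stability for models of essential subgroups.
-/

set_option autoImplicit false
set_option linter.unusedSectionVars false

namespace CfsgLib.Fus2

open Subgroup Cfsg CfsgLib.LAE CfsgLib.Fusion CfsgLib.MaxCl
open Cfsg.FusionSystem hiding inv_mem
open scoped commutatorElement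

variable {Γ : Type*} [Group Γ] {p n i j : ℕ} {S A E M G N X Y : Subgroup Γ} {g h x y s : Γ}
  {a b : ℤ}

/-- The lower central series. -/
abbrev lc (S : Subgroup Γ) (i : ℕ) : Subgroup Γ := S.lowerCentralSeries i

/-- The two-step centralizers. -/
def kc (S : Subgroup Γ) (i : ℕ) : Subgroup Γ := S ⊓ cs (lc S i) (lc S (i + 2))

theorem lc_anti (S : Subgroup Γ) (h : i ≤ j) : lc S j ≤ lc S i := S.lowerCentralSeries_antitone h

theorem lc_le (S : Subgroup Γ) (i : ℕ) : lc S i ≤ S := lc_anti S (Nat.zero_le i)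

theorem map_L (S : Subgroup Γ) (i : ℕ) : (L S i).map S.subtype = lc S i :=
  top_subtype_lowerCentralSeries S i

theorem mem_lc {x : S} : x ∈ L S i ↔ (x : Γ) ∈ lc S i := by
  rw [← map_L]; exact (mem_map_iff_mem S.subtype_injective).symm

theorem S_n_lc (S : Subgroup Γ) (i : ℕ) : S ≤ normalizer (lc S i : Set Γ) :=
  S.self_le_normalizer_lowerCentralSeries i

theorem n_lc (hg : g ∈ normalizer (S : Set Γ)) (i : ℕ) : g ∈ normalizer (lc S i : Set Γ) := by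
  induction i with
  | zero => exact hg
  | succ i ih => exact Core.normalizer_inf_le_normalizer_commutator _ _ ⟨ih, hg⟩

theorem cm_lc (hg : g ∈ lc S i) (hx : x ∈ S) : ⁅g, x⁆ ∈ lc S (i + 1) :=
  commutator_mem_commutator hg hx

theorem kc_le (S : Subgroup Γ) (i : ℕ) : kc S i ≤ S := inf_le_left

theorem mem_kc : x ∈ kc S i ↔ x ∈ S ∧ ∀ g ∈ lc S i, ⁅x, g⁆ ∈ lc S (i + 2) :=
  ⟨fun h => ⟨h.1, h.2.2⟩, fun h => ⟨h.1, S_n_lc S _ h.1, h.2⟩⟩

theorem mem_kc' {x : S} : x ∈ K S i ↔ (x : Γ) ∈ kc S i := by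
  rw [mem_K, mem_kc]
  exact ⟨fun h => ⟨x.2, fun g hg => cm_swap (mem_lc.1 (h ⟨g, lc_le S i hg⟩ (mem_lc.2 hg)))⟩,
    fun h g hg => mem_lc.2 (cm_swap (h.2 g (mem_lc.1 hg)))⟩

theorem map_K (S : Subgroup Γ) (i : ℕ) : (K S i).map S.subtype = kc S i := by
  ext x
  exact ⟨fun ⟨y, hy, e⟩ => e ▸ mem_kc'.1 hy, fun hx => ⟨⟨x, hx.1⟩, mem_kc'.2 hx, rfl⟩⟩

theorem card_map_subtype (X : Subgroup S) : Nat.card (X.map S.subtype) = Nat.card X :=
  card_map_of_injective S.subtype_injective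

variable [Finite Γ]

theorem n_kc (hg : g ∈ normalizer (S : Set Γ)) (i : ℕ) : g ∈ normalizer (kc S i : Set Γ) :=
  inf_normalizer_le_normalizer_inf ⟨hg, mem_normalizer_cs (n_lc hg _) (n_lc hg _)⟩

theorem cm_lc₂ (hg : g ∈ lc S i) (hx : x ∈ lc S j) : ⁅g, x⁆ ∈ lc S (i + j + 1) :=
  mem_lc.1 (comm_mem_L₂ (g := ⟨g, lc_le S i hg⟩) (x := ⟨x, lc_le S j hx⟩) (mem_lc.2 hg)
    (mem_lc.2 hx))

theorem lc_le_kc (S : Subgroup Γ) (i : ℕ) : lc S 1 ≤ kc S i := fun _ hx =>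
  mem_kc.2 ⟨lc_le S 1 hx, fun _ hg => cm_swap (cm_lc₂ hg hx)⟩

variable [hp : Fact p.Prime]

theorem Ew.wt_prime (H : Ew h a X y) (pY : IsPGroup p Y) (hXY : X ≤ Y) (hi : X.relIndex Y = p)
    (hy : y ∈ Y) (hyX : y ∉ X) (hh : h ∈ normalizer (X : Set Γ)) : Wt h a X Y :=
  (H.wt hh (le_normalizer_of_prime pY hXY hi hy)).mono le_rfl (sup_zpowers_eq hXY hi hy hyX).ge

theorem mc_of_cent (hS : Nat.card S = p ^ n) (h3 : 3 ≤ n) (hA : A ≤ S) (hc : Nat.card A = p ^ 2)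
    (hC : ∀ x ∈ S, x ∈ centralizer (A : Set Γ) → x ∈ A) : MC S p n :=
  ⟨h3, hS, PGroup.maximal_class_of_self_centralizing hS (A := A.subgroupOf S)
    (by rw [Nat.card_congr (subgroupOfEquivOfLe hA).toEquiv, hc]) fun x hx =>
      hC x x.2 fun a ha => congrArg Subtype.val (hx ⟨a, hA ha⟩ ha)⟩

section
variable (m : MC S p n)
include m

theorem mc_card_lc (hi : 1 ≤ i) : Nat.card (lc S i) = p ^ (n - 1 - i) := by
  rw [← map_L, card_map_subtype, m.card_L hi]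

theorem mc_lc_bot (hi : n - 1 ≤ i) : lc S i = ⊥ := by rw [← map_L, m.L_eq_bot hi, Subgroup.map_bot]

theorem mc_idx_lc (hi : 1 ≤ i) (hn : i + 2 ≤ n) : (lc S (i + 1)).relIndex (lc S i) = p := by
  rw [← map_L, ← map_L, relIndex_map_map_of_injective _ _ S.subtype_injective, m.relIndex_L hi hn]

theorem mc_idx_one : (lc S 1).relIndex S = p ^ 2 := by
  have := m.three
  exact relIndex_eq_of_card (lc_le S 1) (mc_card_lc m le_rfl) (by
    rw [m.card, ← pow_add]; congr 1; omega)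

theorem mc_idx_kc (hi : 1 ≤ i) (hn : i + 3 ≤ n) : (kc S i).relIndex S = p :=
  relIndex_eq_of_card (kc_le S i) (by rw [← map_K, card_map_subtype, m.card_K hi hn]) (by
    rw [m.card, ← pow_succ]; congr 1; omega)

theorem mc_idx_max (h1 : lc S 1 ≤ M) (h2 : M ≤ S) (hi : M.relIndex S = p) :
    (lc S 1).relIndex M = p := relIndex_eq_of_mul' h1 h2 hi ((mc_idx_one m).trans (sq p))

theorem mc_lc_le (h2 : M ≤ S) (hi : M.relIndex S = p) : lc S 1 ≤ M :=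
  comm_le_of_prime m.pgroup hi

theorem mc_cm_not (hi : 1 ≤ i) (hx : x ∈ S) (hxK : x ∉ kc S i) (hg : g ∈ lc S i)
    (hg' : g ∉ lc S (i + 1)) : ⁅g, x⁆ ∉ lc S (i + 2) := fun H =>
  m.comm_not_mem hi (x := ⟨x, hx⟩) (g := ⟨g, lc_le S i hg⟩) (fun H => hxK (mem_kc'.1 H))
    (mem_lc.2 hg) (fun H => hg' (mem_lc.1 H)) (mem_lc.2 H)

theorem mc_cm_two (h1 : lc S 1 ≤ M) (h2 : M ≤ S) (hy : y ∈ M) (hy' : y ∉ lc S 1) (hx : x ∈ S)
    (hxM : x ∉ M) : ⁅y, x⁆ ∉ lc S 2 := fun H =>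
  m.comm_not_mem_two (M := M.subgroupOf S) (x := ⟨x, hx⟩) (y := ⟨y, h2 hy⟩)
    (fun _ hg => h1 (mem_lc.1 hg)) hy (fun H => hy' (mem_lc.1 H)) hxM (mem_lc.2 H)

theorem mc_pow_one (hx : x ∈ S) : x ^ p ∈ lc S 1 := mem_lc.1 (m.pow_mem_one ⟨x, hx⟩)

theorem mc_phi : phi S = lc S 1 := le_antisymm
  ((Core.map_frattini_le_iff_of_isPGroup m.pgroup).2 ⟨le_rfl, fun _ => mc_pow_one m⟩)
  (Core.commutator_le_map_frattini m.pgroup)

theorem mc_center : S ⊓ centralizer (S : Set Γ) = lc S (n - 2) := by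
  rw [← map_center_subtype, mc_center_eq m, map_L]

theorem mc_mem_of_comm (h1 : 1 ≤ i) (hn : i + 2 ≤ n) (hy : y ∈ S)
    (hc : ∀ x ∈ S, ⁅y, x⁆ ∈ lc S (i + 1)) : y ∈ lc S i :=
  mem_lc.1 (mc_mem_L_of_comm m h1 hn (y := ⟨y, hy⟩) fun x => mem_lc.2 (hc x x.2))

theorem mc_kc_last : kc S (n - 3) = S ⊓ centralizer (lc S (n - 3) : Set Γ) := by
  have := m.three
  ext x
  rw [mem_kc, mc_lc_bot m (i := n - 3 + 2) (by omega)]
  exact and_congr_right fun _ => ⟨fun H => mem_centralizer_of_cm H, fun H _ => cm_eq_one H⟩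

/-- The weights along the lower central series. -/
theorem mc_wt_succ (hh : h ∈ normalizer (S : Set Γ)) (hi : 1 ≤ i) (hn : i + 3 ≤ n)
    (w1 : Wt h a (kc S i) S) (w2 : Wt h b (lc S (i + 1)) (lc S i)) :
    Wt h (a * b) (lc S (i + 2)) (lc S (i + 1)) := by
  obtain ⟨x, hx, hxK⟩ := exists_not_mem (mc_idx_kc m hi hn)
  obtain ⟨g, hg, hg'⟩ := exists_not_mem (mc_idx_lc m hi (by omega))
  have h1 := cm_swap (cm_lc hg hx)
  have l := S_n_lc S (i + 2)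
  refine sup_zpowers_eq (lc_anti S (Nat.le_succ _)) (mc_idx_lc m (by omega) hn) h1
    (fun H => mc_cm_not m hi hx hxK hg hg' (cm_swap H)) ▸ Ew.wt ?_ (n_lc hh _) (l (lc_le S _ h1))
  exact Ew.comm (n_lc hh _) (l hx) (l (lc_le S i hg)) (cm_swap (cm_lc h1 hx))
    (cm_swap (cm_lc h1 (lc_le S i hg))) ((mem_kc.1 (w1 x hx)).2 _ (conj_mem (n_lc hh i) hg))
    (cm_swap (cm_lc (w2 g hg) hx))

theorem mc_wt_one (hh : h ∈ normalizer (S : Set Γ)) (h2 : M ≤ S) (hi : M.relIndex S = p)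
    (w1 : Wt h a M S) (w2 : Wt h b (lc S 1) M) : Wt h (a * b) (lc S 2) (lc S 1) := by
  have h1 := mc_lc_le m h2 hi
  have i2 := mc_idx_max m h1 h2 hi
  obtain ⟨x, hx, hxK⟩ := exists_not_mem hi
  obtain ⟨g, hg, hg'⟩ := exists_not_mem i2
  have h3 : ⁅x, g⁆ ∈ lc S 1 := cm_lc (i := 0) hx (h2 hg)
  have l := S_n_lc S 2
  have cM : ∀ u ∈ M, ∀ v ∈ M, ⁅u, v⁆ ∈ lc S 2 := fun u hu => sup_zpowers_eq h1 i2 hg hg' ▸
    cm_sup_zpowers ((lc_le S 1).trans l) (l (h2 hg)) (fun v hv => cm_swap (cm_lc hv (h2 hu)))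
      (cm_swap ((sup_zpowers_eq h1 i2 hg hg' ▸ cm_sup_zpowers ((lc_le S 1).trans l) (l (h2 hg))
        (fun v hv => cm_swap (cm_lc hv (h2 hg))) (by simp) : ∀ u ∈ M, ⁅g, u⁆ ∈ lc S 2) u hu))
  have hgM : h * g * h⁻¹ ∈ M := by simpa using M.mul_mem (M.zpow_mem hg b) (h1 (w2 g hg))
  refine sup_zpowers_eq (lc_anti S (Nat.le_succ _)) (mc_idx_lc m le_rfl m.three) h3
    (fun H => mc_cm_two m h1 h2 hg hg' hx hxK (cm_swap H)) ▸ Ew.wt ?_ (n_lc hh _) (l (lc_le S _ h3))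
  exact Ew.comm (n_lc hh _) (l hx) (l (h2 hg)) (cm_swap (cm_lc h3 hx))
    (cm_swap (cm_lc h3 (h2 hg))) (cM _ (w1 x hx) _ hgM) (cm_swap (cm_lc (w2 g hg) hx))

end

theorem Mod.isPGroup_of_cent (h : Mod p G E M) (hK : N ≤ M)
    (hc : ∀ z ∈ N, (orderOf z).Coprime p → z ∈ centralizer (E : Set Γ)) : IsPGroup p N :=
  isPGroup_of_forall_coprime_eq_one fun z hz hz' => by
    obtain ⟨k, hk⟩ := h.pE ⟨z, h.cent z (hK hz) (hc z hz hz')⟩
    exact orderOf_eq_one_iff.1 ((hz'.pow_right k).eq_one_of_dvd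
      (orderOf_dvd_of_pow_eq_one (congrArg Subtype.val hk)))

variable {F : FusionSystem S}

theorem AMod.le_of_normal (h : AMod p F E M) (hl : LR p F) (hE : F.IsEssential p E)
    (pN : IsPGroup p N) (hN : N ≤ M) (hn : M ≤ normalizer (N : Set Γ)) : N ≤ E := by
  obtain ⟨f, hf, e, hTI⟩ := essential_exists_TI hl.pS hl.sat hE
  obtain ⟨a, ha, ea⟩ := h.lift E f le_rfl h.le hf e
  have l := h.syl.le_of_le_normalizer pN hN hn
  refine fun g hg => hTI g (l hg) _ (l (conj_mem (hn ha) hg)).1 fun x hx => ?_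
  rw [ea _ (conj_mem (l hg).2 hx), ea x hx]; group

/-- An element stabilizing an invariant chain from `E` down to `Φ(E)` lies in `E`. -/
theorem AMod.mem_of_chain (h : AMod p F E M) (hl : LR p F) (hE : F.IsEssential p E)
    (hYX : Y ≤ X) (hX : X ≤ E) (hΦ : phi E ≤ Y) (nX : M ≤ normalizer (X : Set Γ))
    (nY : M ≤ normalizer (Y : Set Γ)) (hg : g ∈ normalizerIn S E) (c1 : ∀ e ∈ E, ⁅g, e⁆ ∈ X)
    (c2 : ∀ e ∈ X, ⁅g, e⁆ ∈ Y) (c3 : ∀ e ∈ Y, ⁅g, e⁆ ∈ phi E) : g ∈ E := by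
  have nΦ := h.norm.trans (Core.normalizer_le_normalizer_map_frattini E)
  have gM := h.GL' hg
  refine h.le_of_normal hl hE (N := M ⊓ (cs E X ⊓ (cs X Y ⊓ cs Y (phi E))))
    (h.isPGroup_of_cent inf_le_left fun z hz hc => mem_centralizer_of_frattini hc h.pE fun e he =>
      cm_trans hc (h.pX (hYX.trans hX)) hΦ hz.2.2.2.2
        (cm_trans hc (h.pX hX) hYX hz.2.2.1.2 (hz.2.1.2 e he))) inf_le_left
    (fun m hm => inf_normalizer_le_normalizer_inf ⟨le_normalizer hm,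
      inf_normalizer_le_normalizer_inf ⟨mem_normalizer_cs (nX hm) (h.norm hm),
        inf_normalizer_le_normalizer_inf ⟨mem_normalizer_cs (nY hm) (nX hm),
          mem_normalizer_cs (nΦ hm) (nY hm)⟩⟩⟩) ⟨gM, ⟨nX gM, c1⟩, ⟨nY gM, c2⟩, nΦ gM, c3⟩

/-- No invariant chain with factors of order `p` from `E` down to `Φ(E)`. -/
theorem AMod.false_of_chain (h : AMod p F E M) (hl : LR p F) (hE : F.IsEssential p E)
    (hX : X ≤ E) (hΦ : phi E ≤ X) (nX : M ≤ normalizer (X : Set Γ)) (i1 : X.relIndex E = p)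
    (i2 : (phi E).relIndex X = p) : False := by
  obtain ⟨g, hg, hgE⟩ := SetLike.exists_of_lt (essential_lt_normalizerIn hl.pS hl.sat hE)
  have nΦ := h.norm.trans (Core.normalizer_le_normalizer_map_frattini E)
  exact hgE (h.mem_of_chain hl hE hΦ hX le_rfl nX nΦ hg
    (cm_mem_of_prime h.pG h.le hX (h.GL'.trans nX) h.GN i1 g hg)
    (cm_mem_of_prime h.pG (hX.trans h.le) hΦ (h.GL'.trans nΦ) (h.GL'.trans nX) i2 g hg)
    fun e he => cm_mem_right (nΦ (h.GL' hg)) he)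

theorem LR.not_mc (hl : LR p F) (hE : F.IsEssential p E) (m : MC E p n) (h4 : 4 ≤ n) : False := by
  obtain ⟨M, h⟩ := hl.ex E hE.1 hE.2.1
  have i := mc_idx_kc m le_rfl h4
  exact h.false_of_chain hl hE (kc_le E 1) (mc_phi m ▸ lc_le_kc E 1) (fun g hg => n_kc (h.norm hg) 1)
    i (mc_phi m ▸ mc_idx_max m (lc_le_kc E 1) (kc_le E 1) i)

theorem LR.exists_top (hl : LR p F) : ∃ M, AMod p F S M ∧ Mod p S S M ∧
    ∀ f, Mor F S f → ∃ g ∈ M, ∀ x ∈ S, f x = g * x * g⁻¹ := by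
  obtain ⟨M, h⟩ := hl.ex S (centric_top F) (fullyNormalized_top F)
  have e : normalizerIn S S = S := normalizerIn_eq le_normalizer
  have h' := h.toMod
  rw [e] at h'
  exact ⟨M, h, h', fun f hf => h.lift S f le_rfl e.ge hf hf.img_top⟩

end CfsgLib.Fus2
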