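import Mathlib
import Cfsg.Agent.Lib.Fus2.MCA

/-!
Extending morphisms defined on overgroups of small centric subgroups to the whole Sylow subgroup.
-/

set_option autoImplicit false
set_option linter.unusedSectionVars false

namespace CfsgLib.Fus2

open Subgroup Cfsg CfsgLib.LAE CfsgLib.Fusion CfsgLib.MaxCl
open Cfsg.FusionSystem hiding inv_mem
open scoped commutatorElement

variable {Γ : Type*} [Group Γ] [Finite Γ] {p n : ℕ} [hp : Fact p.Prime] {S A B P R : Subgroup Γ}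
  {F : FusionSystem S} {f : Γ → Γ}

theorem card_lt_of_lt' (h : A < B) : Nat.card A < Nat.card B :=
  lt_of_le_of_ne (card_le_of_le' h.le) fun e => h.ne (eq_of_le_card h.le e.ge)

theorem img_lt (hf : Mor F P f) (h : A < P) (hR : img P f ≤ R) : img A f < R :=
  lt_of_le_of_ne ((img_mono f h.le).trans hR) fun e => (card_lt_of_lt' h).not_ge (by
    rw [← hf.card_img, ← (hf.mono h.le).card_img, e]; exact card_le_of_le' hR)

theorem mc_of_cube (hS : Nat.card S = p ^ n) (h3 : 3 ≤ n) (hA : A ≤ S) (hc : Nat.card A = p ^ 3)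
    (hna : ¬ IsMulCommutative A) (hC : ∀ x ∈ S, x ∈ centralizer (A : Set Γ) → x ∈ A) : MC S p n :=
  ⟨h3, hS, PGroup.maximal_class_of_centralizer_le_of_card_eq_cube hS (B := A.subgroupOf S)
    (by rw [Nat.card_congr (subgroupOfEquivOfLe hA).toEquiv, hc])
    (fun H => hna (comm_of_equiv (subgroupOfEquivOfLe hA) H)) fun x hx =>
      hC x x.2 fun a ha => congrArg Subtype.val (hx ⟨a, hA ha⟩ ha)⟩

theorem LR.centric_line (hl : LR p F) (hR : F.IsEssential p R) (c3 : Nat.card R = p ^ 3)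
    (hA : A ≤ R) (cA : F.IsCentric A) (c2 : Nat.card A = p ^ 2) (hB : B ≤ R)
    (c2' : Nat.card B = p ^ 2) : F.IsCentric B := by
  have m := mc_of_cent c3 le_rfl hA c2 fun x hx hc => centric_centralizerIn_le cA ⟨hR.1.1 hx, hc⟩
  obtain ⟨M, h⟩ := hl.ex R hR.1 hR.2.1
  obtain ⟨t, ht, htR⟩ := SetLike.exists_of_lt (essential_lt_normalizerIn hl.pS hl.sat hR)
  have nW : M ≤ normalizer (lc R 1 : Set Γ) := fun g hg => n_lc (h.norm hg) 1
  have i2 := mc_idx_one m
  obtain ⟨B₀, b1, b2, b3, b4⟩ := exists_between h.pG h.le (lc_le R 1) (h.GL'.trans nW) h.GN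
    (not_le_of_relIndex i2)
  have b5 := relIndex_eq_of_mul b1 b2 b3 (i2.trans (sq p))
  have nB := le_normalizer_of_cm_le (b4.trans b1) le_rfl
  obtain ⟨b, hb, hbB⟩ := SetLike.not_le_iff_exists.1 fun H =>
    h.false_of_chain hl hR b2 (mc_phi m ▸ b1) H b5 (mc_phi m ▸ b3)
  have eW := mem_normalizer_iff_conjS.1 (nW hb)
  have eR := mem_normalizer_iff_conjS.1 (h.norm hb)
  have key : ∀ X ≤ R, Nat.card X = p ^ 2 → ∃ g ∈ M, conjS g X = conjS b B₀ := fun X hX cX => by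
    by_cases e : X = B₀
    · exact ⟨b, hb, e ▸ rfl⟩
    have j := relIndex_eq_of_card hX cX (c3.trans (pow_succ p 2))
    have l := mc_lc_le m hX j
    obtain ⟨i, hi⟩ := exists_conj_line h.pE (h.EL.trans nW) (nW (h.GL' ht)) b1 b2 b3 b5
      (cm_mem_of_prime h.pG h.le b2 nB h.GN b5 t ht) (commutator_le.1 b4 t ht)
      (fun H => htR (h.mem_of_chain hl hR le_rfl (lc_le R 1) (mc_phi m).le nW nW ht H
        (fun e he => cm_mem_right (nW (h.GL' ht)) he)
        fun e he => mc_phi m ▸ cm_mem_right (nW (h.GL' ht)) he))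
      l hX (mc_idx_max m l hX j) e (eW ▸ conjS_mono b1) (eR ▸ conjS_mono b2)
      (by rw [← b3, ← relIndex_conjS b _ B₀, eW]) (by rw [← b5, ← relIndex_conjS b B₀ R, eR])
      fun e => hbB (mem_normalizer_iff_conjS.2 e)
    exact ⟨_, M.zpow_mem (h.GL' ht) i, hi⟩
  obtain ⟨g, hg, e⟩ := key A hA c2
  obtain ⟨g', hg', e'⟩ := key B hB c2'
  have hk := M.mul_mem (M.inv_mem hg') hg
  have := centric_of_isConj cA (h.mor A (hA.trans h.le) _ hk fun x hx =>
    h.le (conj_mem (h.norm hk) (hA hx))).isConj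
  rwa [img_conj, ← conjS_def, conjS_mul, e, ← e', conjS_inv_conjS] at this

theorem LR.ext_sq (hl : LR p F) (hno : ∀ R, F.IsEssential p R → Nat.card R = p ^ 3 →
      (∀ B ≤ R, Nat.card B = p ^ 2 → F.IsCentric B) → ¬ IsMulCommutative R → False)
    (hf : Mor F P f) (hA : A < P)
    (cA : F.IsCentric A) (c2 : Nat.card A = p ^ 2) : ∃ g, Mor F S g ∧ ∀ x ∈ P, g x = f x :=
  hf.exists_ext_top_of_pred hl.pS hl.sat
    (Φ := fun P => ∃ A < P, F.IsCentric A ∧ Nat.card A = p ^ 2)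
    (fun _ _ _ hf ⟨_, h1, h2, h3⟩ l _ => ⟨_, img_lt hf h1 l,
      centric_of_isConj h2 (hf.mono h1.le).isConj, (hf.mono h1.le).card_img.trans h3⟩)
    (fun R hR ⟨A, h1, h2, h3⟩ => by
      obtain ⟨n, hn⟩ := exists_card_eq (hl.pS.to_le hR.1.1)
      have h4 := card_lt_of_lt' h1
      rw [hn, h3, Nat.pow_lt_pow_iff_right hp.out.one_lt] at h4
      have m := mc_of_cent hn h4 h1.le h3 fun x hx hc => centric_centralizerIn_le h2 ⟨hR.1.1 hx, hc⟩
      rcases Nat.eq_or_lt_of_le m.three with rfl | h5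
      · exact hno R hR hn (fun B => hl.centric_line hR hn h1.le h2 h3) m.not_comm
      · exact hl.not_mc hR m h5) ⟨A, hA, cA, c2⟩

theorem LR.ext_cube (hl : LR p F) (hf : Mor F P f) (hA : A < P) (cA : F.IsCentric A)
    (c3 : Nat.card A = p ^ 3) (hna : ¬ IsMulCommutative A) :
    ∃ g, Mor F S g ∧ ∀ x ∈ P, g x = f x :=
  hf.exists_ext_top_of_pred hl.pS hl.sat
    (Φ := fun P => ∃ A < P, F.IsCentric A ∧ Nat.card A = p ^ 3 ∧ ¬ IsMulCommutative A)
    (fun _ _ _ hf ⟨_, h1, h2, h3, h4⟩ l _ => have hf' := hf.mono h1.le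
      ⟨_, img_lt hf h1 l, centric_of_isConj h2 hf'.isConj, hf'.card_img.trans h3,
        fun H => h4 (comm_of_equiv (hf'.hom.isoOf hf'.injOn rfl).symm H)⟩)
    (fun R hR ⟨A, h1, h2, h3, h4⟩ => by
      obtain ⟨n, hn⟩ := exists_card_eq (hl.pS.to_le hR.1.1)
      have h5 := card_lt_of_lt' h1
      rw [hn, h3, Nat.pow_lt_pow_iff_right hp.out.one_lt] at h5
      exact hl.not_mc hR (mc_of_cube hn h5.le h1.le h3 h4 fun x hx hc =>
        centric_centralizerIn_le h2 ⟨hR.1.1 hx, hc⟩) h5) ⟨A, hA, cA, c3, hna⟩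

end CfsgLib.Fus2
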