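import Mathlib
import Cfsg.Agent.Lib.Fus2.PT
import Cfsg.Agent.Lib.Coprime.Abelian
import Cfsg.Agent.Lib.Coprime.SchurZassenhaus

/-!
The focal subgroup is controlled by the automorphisms of `S` when all essential subgroups have a
single natural section.
-/

set_option autoImplicit false
set_option linter.unusedSectionVars false

namespace CfsgLib.Fus2

open Subgroup Cfsg CfsgLib.LAE CfsgLib.Fusion
open Cfsg.FusionSystem hiding inv_mem
open scoped commutatorElement

variable {Γ : Type*} [Group Γ] [Finite Γ] {p : ℕ} [hp : Fact p.Prime]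
  {S G E L M W X Y : Subgroup Γ} {F : FusionSystem S} {h : Γ} {a : ℤ}

theorem NatSec.comm_le_of_norm (s : NatSec p G E L X E) (h2 : p ≠ 2) (hΦ : phi E ≤ X)
    (hO : ⁅pResOf p L, X⁆ ≤ phi E) (hW : phi E ≤ W)
    (h1 : ∀ z ∈ L, z ∈ normalizer (G : Set Γ) → ∀ e ∈ E, ⁅z, e⁆ ∈ W) : ⁅L, E⁆ ≤ W := by
  have nΦ := s.norm.trans (Core.normalizer_le_normalizer_map_frattini E)
  have cΦ : ∀ a ∈ E, ∀ b ∈ E, ⁅a, b⁆ ∈ phi E := commutator_le.1 (Core.commutator_le_map_frattini s.pE)
  have key : L ⊓ (cs E X ⊓ cs X (phi E)) ≤ E := s.le_of_normal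
    (s.isPGroup_of_cent inf_le_left fun z hz hc => mem_centralizer_of_frattini hc s.pE fun e he =>
      cm_trans hc (s.pX s.XY) hΦ hz.2.2.2 (hz.2.1.2 e he)) inf_le_left
    fun m hm => inf_normalizer_le_normalizer_inf ⟨le_normalizer hm,
      inf_normalizer_le_normalizer_inf ⟨mem_normalizer_cs (s.invX hm) (s.norm hm),
        mem_normalizer_cs (nΦ hm) (s.invX hm)⟩⟩
  obtain ⟨z, hz, hzc, zG, -, z2⟩ := s.exists_z
  have zE := s.norm hz
  have nX := s.EL.trans s.invX
  have zc : z ∈ cs X (phi E) := ⟨nΦ hz, fun x hx => cm_mem_of_res hO hz hzc hx⟩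
  have k1 : z * z ∈ E := key ⟨L.mul_mem hz hz, ⟨s.invX (L.mul_mem hz hz), fun e he => by
    have := conj_mem (nX he) (X.mul_mem (X.inv_mem (conj_mem' (nX he) (z2 e he)))
      (z2 _ (conj_mem zE he)))
    convert this using 1
    group⟩, mul_mem zc zc⟩
  have k2 : ∀ l ∈ L, z⁻¹ * (l⁻¹ * z * l) ∈ E := fun l hl =>
    have h3 := L.mul_mem (L.inv_mem hz) (conj_mem' (le_normalizer hl) hz)
    key ⟨h3, ⟨s.invX h3, fun e he => cm_swap (by
      have := conj_mem' (s.invX hz) (X.mul_mem (X.inv_mem (z2 _ (E.inv_mem he)))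
        (conj_mem' (s.invX hl) (z2 _ (conj_mem (s.norm hl) (E.inv_mem he)))))
      convert this using 1
      group)⟩, (cs X (phi E)).mul_mem ((cs X (phi E)).inv_mem zc) (conj_mem' (mem_normalizer_cs (nΦ hl) (s.invX hl)) zc)⟩
  let W₀ : Subgroup Γ :=
    { carrier := {e | e ∈ E ∧ e * (z * e * z⁻¹) ∈ phi E}
      one_mem' := ⟨E.one_mem, by simp⟩
      mul_mem' := fun {a b} ha hb => ⟨E.mul_mem ha.1 hb.1, by
        have := mul_mem (mul_mem (conj_mem (nΦ (s.EL ha.1)) (cΦ b hb.1 _ (conj_mem zE ha.1))) ha.2)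
          hb.2
        convert this using 1
        group⟩
      inv_mem' := fun {a} ha => ⟨E.inv_mem ha.1, by
        have := inv_mem (conj_mem' (nΦ (s.EL ha.1)) ha.2)
        convert this using 1
        group⟩ }
  have ΦW : phi E ≤ W₀ := fun e he => ⟨map_subtype_le _ he, mul_mem he (conj_mem (nΦ hz) he)⟩
  have WE : W₀ ≤ E := fun e he => he.1
  have nW : L ≤ normalizer (W₀ : Set Γ) := fun l hl =>
    Core.mem_normalizer_of_forall_conj_mem fun e he => ⟨conj_mem (s.norm hl) he.1, by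
      have := conj_mem (nΦ hl) (mul_mem (conj_mem (nΦ (s.EL he.1)) (conj_mem (nΦ hz)
        (cΦ _ (k2 l hl) e he.1))) he.2)
      convert this using 1
      group⟩
  have e0 : E ≤ W₀ ⊔ X := fun e he => mem_of_sq_mem h2 (pg_zpowers s.pE he) (by
    have h3 : e * (z * e * z⁻¹)⁻¹ ∈ W₀ := ⟨E.mul_mem he (E.inv_mem (conj_mem zE he)), by
      have := cΦ e he _ k1
      convert this using 1
      group⟩
    have := mul_mem (mem_sup_left (T := X) h3) (mem_sup_right (conj_mem' (nX he) (z2 e he)))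
    convert this using 1
    group)
  have WW : W₀ ≤ W ⊓ E := fun e he => ⟨mem_of_sq_mem h2 (pg_zpowers s.pE he.1) (by
    have := mul_mem (inv_mem (h1 z hz zG e he.1)) (hW (conj_mem' (nΦ (s.EL he.1)) he.2))
    convert this using 1
    group), he.1⟩
  refine (s.comm_le_of_res (((commutator_mono le_rfl e0).trans (Core.commutator_sup_right_le
    le_normalizer (s.XY.trans (s.EL.trans nW)) (commutator_le_right_of_le_normalizer
      ((pResOf_le L).trans nW)) (hO.trans ΦW))).trans WW) (commutator_le.2 fun g hg e he =>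
        ⟨h1 g (s.GL' hg) (le_normalizer hg) e he, cm_mem_right (s.GN hg) he⟩) inf_le_right).trans
    inf_le_left

theorem LR.foc (hl : LR p F) (h2 : p ≠ 2)
    (hi : ∀ E, F.IsEssential p E → E.relIndex (normalizerIn S E) = p)
    (hX : ∀ E L, F.IsEssential p E → Par p (normalizerIn S E) E L → ∃ X, phi E ≤ X ∧
      NatSec p (normalizerIn S E) E L X E ∧ ⁅pResOf p L, X⁆ ≤ phi E)
    (hW : phi S ≤ W) (h0 : ∀ f, Mor F S f → ∀ x ∈ S, x⁻¹ * f x ∈ W) : F.focalSubgroup ≤ W := by
  suffices H : ∀ n P f, Mor F P f → Nat.card S ≤ Nat.card P + n → ∀ x ∈ P, x⁻¹ * f x ∈ W from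
    focal_le_iff.2 fun P f hf => H _ P f hf (Nat.le_add_left _ _)
  intro n
  induction n with
  | zero =>
    intro P f hf hc
    obtain rfl := eq_of_le_card hf.le hc
    exact h0 f hf
  | succ n ih =>
    intro P f hf
    refine alperin_induction hl.pS hl.sat
      (Φ := fun P f => Nat.card S ≤ Nat.card P + (n + 1) → ∀ x ∈ P, x⁻¹ * f x ∈ W)
      (fun R hR α hα P hP hc x hx => ?_) (fun P f g _ H e hc x hx => e x hx ▸ H hc x hx)
      (fun P Q f g hf hg H H' hm hc x hx => by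
        have : Nat.card P ≤ Nat.card Q := by
          rw [← hf.card_img]; exact card_le_of_le' (img_le_iff.2 hm)
        simpa using mul_mem (H hc x hx) (H' (by omega) _ (hm x hx))) hf
    rcases hR with rfl | hR
    · exact h0 _ ((mem_autGroup le_rfl).1 hα) x (hP hx)
    obtain ⟨M, m⟩ := hl.ex R hR.1 hR.2.1
    obtain ⟨g, hg, e⟩ := m.lift R _ le_rfl m.le ((mem_autGroup hR.1.1).1 hα) (img_extAut α)
    have k : ∀ z ∈ M, z ∈ normalizer (normalizerIn S R : Set Γ) → ∀ y ∈ R,
        y⁻¹ * (z * y * z⁻¹) ∈ W := fun z hz hn y hy =>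
      ih _ _ (m.mor _ le_rfl z hz fun x hx => conj_mem hn hx) (by
        have := card_lt_of_lt' (essential_lt_normalizerIn hl.pS hl.sat hR)
        have := card_le_of_le' hP
        omega) y (m.le hy)
    rw [e x (hP hx)]
    by_cases hn : g ∈ normalizer (normalizerIn S R : Set Γ)
    · exact k g hg hn x (hP hx)
    have par := m.toMod.par (hi R hR) hg hn
    have LM := sup_le m.GL' (conjS_le_of_le_of_mem m.GL' hg)
    obtain ⟨X, x1, s, x2⟩ := hX R _ hR par
    have c := s.comm_le_of_norm h2 x1 x2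
      ((Core.map_frattini_mono_of_isPGroup hl.pS hR.1.1).trans hW) fun z hz hn y hy => cm_swap (by
        simpa [commutatorElement_def, mul_assoc] using k z (LM hz) hn _ (R.inv_mem hy))
    obtain ⟨l, hl', e'⟩ := par.syl.exists_map_conj_eq (par.syl.of_card_le (isPGroup_conjS m.pG g)
      le_sup_right (card_conjS g _).ge)
    rw [← conjS_def, ← conjS_mul] at e'
    have hlg := M.mul_mem (LM hl') hg
    have := W.mul_mem (k _ hlg (mem_normalizer_iff_conjS.2 e') x (hP hx)) (cm_swap (commutator_le.1 c _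
      (inv_mem hl') _ (R.inv_mem (conj_mem (m.norm hlg) (hP hx)))))
    convert this using 1
    group

/-- No factor above the Frattini subgroup is centralized. -/
theorem Mod.le_of_comm (m : Mod p S S M) (h0 : S ≤ phi S ⊔ ⁅S, M⁆) (hX : phi S ≤ X) (hXY : X ≤ Y)
    (hY : Y ≤ S) (hc : ⁅Y, M⁆ ≤ X) : Y ≤ X := by
  obtain ⟨k, hk⟩ := exists_card_eq m.pG
  have cop : (Nat.card S).Coprime (S.relIndex M) :=
    hk ▸ ((Nat.Prime.coprime_iff_not_dvd hp.out).2 m.syl.not_dvd_relIndex).pow_left k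
  obtain ⟨A, a1, -, a2, a3⟩ := Coprime.exists_complement_of_le_normalizer m.GL' m.norm cop
  have nΦ := m.norm.trans (Core.normalizer_le_normalizer_map_frattini S)
  have cΦ := Core.commutator_le_map_frattini m.pG
  have l : ⁅S, A⁆ ≤ S := commutator_le_left_of_le_normalizer (a1.trans m.norm)
  have e : ⁅S, A⁆ = S := Core.eq_of_le_sup_map_frattini l (h0.trans (sup_le le_sup_right (by
    rw [← a2]
    exact Core.commutator_sup_right_le
      (le_normalizer_of_cm_le (cΦ.trans le_sup_right) (sup_le l (map_subtype_le _)))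
      (le_normalizer_sup (le_normalizer_commutator (a1.trans m.norm) le_normalizer) (a1.trans nΦ))
      (cΦ.trans le_sup_right) le_sup_left)))
  intro y hy
  obtain ⟨u, hu, c, hc', rfl⟩ := Coprime.exists_mul_centralizer_of_commutator_le hXY
    ((commutator_mono le_rfl a1).trans hc)
    (a3 ▸ cop.symm.coprime_dvd_right (card_dvd_of_le (hXY.trans hY)))
    (Or.inr (by have := (m.pX (hXY.trans hY)).isNilpotent; infer_instance)) hy
  exact X.mul_mem hu (hX (cΦ (Coprime.centralizer_inf_commutator_le (a1.trans m.norm)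
    (a3 ▸ cop.symm) ⟨hc'.2, e.ge (hY hc'.1)⟩)))

theorem Wt.ne_zero (w : Wt h a X Y) (hh : h ∈ normalizer (X : Set Γ)) (hY : ∀ y ∈ Y, y ^ p ∈ X)
    (hn : ¬ Y ≤ X) : (a : ZMod p) ≠ 0 := fun e => hn fun y hy => by
  obtain ⟨j, rfl⟩ := (ZMod.intCast_zmod_eq_zero_iff_dvd a p).1 e
  have := w y hy
  rw [zpow_mul, zpow_natCast, X.mul_mem_cancel_left (X.inv_mem (X.zpow_mem (hY y hy) j))] at this
  exact mem_of_conj_mem hh this

theorem Wt.cm_of_one (w : Wt h a X Y) (hY : ∀ y ∈ Y, y ^ p ∈ X) (e : (a : ZMod p) = 1) :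
    ∀ y ∈ Y, ⁅y, h⁆ ∈ X := fun y hy => by
  obtain ⟨j, hj⟩ := (ZMod.intCast_eq_intCast_iff_dvd_sub 1 a p).1 (by rw [e, Int.cast_one])
  have := X.mul_mem (X.zpow_mem (hY _ (Y.inv_mem hy)) j) (w _ (Y.inv_mem hy))
  rw [show a = p * j + 1 by omega, ← zpow_natCast, ← zpow_mul] at this
  convert this using 1
  group

end CfsgLib.Fus2
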