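import Mathlib
import Cfsg.Agent.Lib.Fus2.Foc
import Cfsg.Agent.Lib.Fus3.XA

/-!
Saturated fusion systems on groups of order `p ^ 5`.
-/

set_option autoImplicit false
set_option linter.unusedSectionVars false

namespace CfsgLib.Fus2

open Subgroup Cfsg CfsgLib.LAE CfsgLib.Fusion CfsgLib.MaxCl CfsgLib.Fus3
open Cfsg.FusionSystem hiding inv_mem
open scoped commutatorElement

variable {Γ : Type*} [Group Γ] {p : ℕ} {S E L M N D D₀ : Subgroup Γ} {F : FusionSystem S}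
  {h t v w : Γ} {a b : ℤ}

/-- A counterexample of order `p ^ 5`. -/
structure P5 (p : ℕ) (F : FusionSystem S) : Prop extends LR p F where
  odd : p ≠ 2
  c5 : Nat.card S = p ^ 5
  core : F.core = ⊥
  foc : S ≤ F.focalSubgroup
  na : ∀ A ≤ S, A.relIndex S = p → ¬ A ≤ centralizer (A : Set Γ)

variable [Finite Γ] [hp : Fact p.Prime]

theorem cb {U V : Subgroup Γ} (H : U ≤ centralizer (V : Set Γ)) : ⁅U, V⁆ ≤ ⊥ :=
  (commutator_eq_bot_iff_le_centralizer.2 H).le

theorem bc {U V : Subgroup Γ} (H : ⁅U, V⁆ ≤ ⊥) : U ≤ centralizer (V : Set Γ) :=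
  commutator_eq_bot_iff_le_centralizer.1 (le_bot_iff.1 H)

theorem ab_of_prime {A B : Subgroup Γ} (hAB : A ≤ B) (hi : A.relIndex B = p)
    (hA : A ≤ centralizer (A : Set Γ)) (hc : B ≤ centralizer (A : Set Γ)) :
    B ≤ centralizer (B : Set Γ) :=
  let ⟨_, hx, hxA⟩ := exists_not_mem hi
  sup_zpowers_eq hAB hi hx hxA ▸ sup_zpowers_le_centralizer hA (hc hx)

theorem LR.eStr_of_par (h : LR p F) (h2 : p ≠ 2) (hr : Rk p 3 S)
    (hP : Par p (normalizerIn S E) E L) (ht : t ∈ normalizerIn S (normalizerIn S E))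
    (htN : t ∉ normalizerIn S E) :
    ∃ D₀ v w, EStr p (normalizerIn S E) E L (E ⊓ conjS t E) D₀ v w := by
  have hP' := hP.conj t
  rw [mem_normalizer_iff_conjS.1 ht.2] at hP'
  have am := Am.mk hP hP' (fun e => htN ⟨ht.1, mem_normalizer_iff_conjS.2 e.symm⟩)
    (hr.mono (normalizerIn_le _ _)) h2
  refine am.exists_eStr ?_
  rcases am.main with H | H | H
  · exact H
  · exact (PGroup.IsExtraspecial.not_isMulCommutative H.1.extra
      (comm_of_equiv (conjSEquiv t E) H.1.elem.1)).elim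
  · exact (PGroup.IsExtraspecial.not_isMulCommutative H.1.extra
      (comm_of_equiv (conjSEquiv t E).symm H.1.elem.1)).elim

theorem exists_norm_norm (hS : IsPGroup p S) (hn : ¬ S ≤ normalizer (E : Set Γ)) :
    ∃ t ∈ normalizerIn S (normalizerIn S E), t ∉ normalizerIn S E :=
  SetLike.exists_of_lt (lt_normalizerIn hS (lt_of_le_of_ne (normalizerIn_le S E) fun e =>
    hn (e.ge.trans inf_le_right)))

namespace P5

theorem ne_bot (h : P5 p F) : S ≠ ⊥ := fun e => by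
  have := h.c5
  rw [e, card_bot] at this
  exact (Nat.one_lt_pow (by omega) hp.out.one_lt).ne this

theorem rk (h : P5 p F) : Rk p 3 S := fun H N hH h1 _ => by_contra fun hc => by
  have p1 := hp.out.one_lt
  obtain ⟨i, hi⟩ := exists_card_eq (h.pS.to_le (inf_le_left.trans hH : H ⊓ N ≤ S))
  obtain ⟨j, hj⟩ := exists_relIndex_eq (h.pS.to_le hH) N
  obtain ⟨k, hk⟩ := exists_relIndex_eq h.pS H
  have e := card_eq_of_relIndex hH (card_eq_of_relIndex inf_le_left hi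
    ((inf_relIndex_left H N).trans hj)) hk
  rw [h.c5, ← pow_add, ← pow_add, Nat.pow_right_inj p1] at e
  rw [hj, Nat.pow_le_pow_iff_right p1] at hc
  have l : ⁅H, H⁆ ≤ H ⊓ N := le_inf (commutator_le_left_of_le_normalizer le_normalizer) h1
  have b : i = 0 → H ≤ centralizer (H : Set Γ) := fun e => bc (l.trans (card_eq_one.1 (by
    rw [hi, e, pow_zero])).le)
  rcases Nat.eq_zero_or_pos k with rfl | k0
  · obtain rfl := le_antisymm hH (relIndex_eq_one.1 hk)
    refine h.ne_bot (eq_bot_of_isNormal_of_core h.core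
      (isNormal_top_of_no_essential h.pS h.sat fun E hE => ?_))
    have lt := essential_lt h.pS h.sat hE
    rcases Nat.eq_zero_or_pos i with i0 | i0
    · exact lt.not_ge fun g hg => essential_mem_of_comm hE hg fun x hx => b i0 hg x (lt.le hx)
    · have c1 : Nat.card (H ⊓ N : Subgroup Γ) = p := by rw [hi, show i = 1 by omega, pow_one]
      obtain ⟨h3, h4⟩ := essential_of_commutator_prime h.pS h.sat hE lt.le le_rfl lt.ne c1 inf_le_left
        (le_centralizer_iff.1 (le_centralizer_of_card_prime h.pS inf_le_left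
          (le_normalizer_of_cm_le l inf_le_left) c1)) l
      exact h.na E lt.le h4 fun a ha b hb => congrArg Subtype.val (h3 ⟨b, hb⟩ ⟨a, ha⟩)
  · exact h.na H hH (by rw [hk, show k = 1 by omega, pow_one]) (b (by omega))

theorem nat (h : P5 p F) (hE : F.IsEssential p E) (P : Par p (normalizerIn S E) E L) :
    ∃ X, phi E ≤ X ∧ NatSec p (normalizerIn S E) E L X E ∧ ⁅pResOf p L, X⁆ ≤ phi E ∧
      (S ≤ normalizer (E : Set Γ) → X = phi E ∨ X = E ⊓ centralizer (E : Set Γ)) := by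
  by_cases hn : S ≤ normalizer (E : Set Γ)
  swap
  · obtain ⟨t, ht, htN⟩ := exists_norm_norm h.pS hn
    obtain ⟨D₀, v, w, s⟩ := h.eStr_of_par h.odd h.rk P ht htN
    exact ⟨D₀, (Core.map_frattini_le_iff_of_isPGroup s.pE).2 ⟨s.cmE, fun _ => s.pow_mem'⟩,
      s.toNatSec, s.res.trans bot_le, fun H => (hn H).elim⟩
  have p1 := hp.out.one_lt
  have nΦ := P.norm.trans (Core.normalizer_le_normalizer_map_frattini E)
  have lΦ : phi E ≤ E := map_subtype_le _
  have cΦ := Core.commutator_le_map_frattini P.pE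
  have nc : ¬ ⁅pResOf p L, E⁆ ≤ phi E := fun H => P.res_not_le (res_comm_le (norm_bot L)
    fun z hz hc y hy => cm_eq_one (mem_centralizer_of_frattini hc P.pE
      fun y hy => cm_mem_of_res H hz hc hy) hy)
  have iE : E.relIndex S = p := normalizerIn_eq hn ▸ P.idx
  have c4 : Nat.card E = p ^ 4 := card_eq_of_relIndex' hE.1.1 (h.c5.trans (pow_succ p 4)) iE
  have na := h.na E hE.1.1 iE
  obtain ⟨j, hj⟩ := exists_relIndex_eq P.pE (phi E)
  have j1 := h.rk E _ hE.1.1 cΦ fun x hx => Core.pow_mem_map_frattini P.pE hx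
  have j2 : ¬ (phi E).relIndex E < p ^ 2 := fun H => nc (P.res_comm_dvd lΦ P.le nΦ P.norm H)
  rw [hj, Nat.pow_le_pow_iff_right p1] at j1
  rw [hj, Nat.pow_lt_pow_iff_right p1] at j2
  by_cases j3 : j = 2
  · exact ⟨_, le_rfl, ⟨P, lΦ, le_rfl, nΦ, P.norm, j3 ▸ hj, nc⟩,
      commutator_le_right_of_le_normalizer ((pResOf_le L).trans nΦ), fun _ => Or.inl rfl⟩
  rw [show j = 3 by omega] at hj
  have c1 : Nat.card (phi E) = p := card_eq_of_relIndex' lΦ (c4.trans (pow_succ' p 3)) hj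
  have l : phi E ≤ E ⊓ centralizer (E : Set Γ) := le_inf lΦ
    (le_centralizer_iff.1 (le_centralizer_of_card_prime P.pE lΦ (P.EL.trans nΦ) c1))
  have nZ := le_normalizer_inf P.norm (P.norm.trans (LAE.normalizer_le_normalizer_centralizer E))
  obtain ⟨i, hi⟩ := exists_relIndex_eq (P.pX inf_le_left) (phi E) (Y := E ⊓ centralizer (E : Set Γ))
  obtain ⟨k, hk⟩ := exists_relIndex_eq P.pE (E ⊓ centralizer (E : Set Γ))
  have e := relIndex_mul_relIndex _ _ _ l inf_le_left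
  rw [hi, hk, hj, ← pow_add, Nat.pow_right_inj p1] at e
  have k0 : k ≠ 0 := fun e => na ((relIndex_eq_one.1 (by rw [hk, e, pow_zero])).trans inf_le_right)
  have k1 : k ≠ 1 := fun e => na (ab_of_prime inf_le_left (hk.trans (by rw [e, pow_one]))
    (inf_le_right.trans (centralizer_le inf_le_left)) (le_centralizer_iff.1 inf_le_right))
  have i0 : i ≠ 0 := fun e => by
    obtain ⟨m, -, hm⟩ := PGroup.IsExtraspecial.exists_card_eq (PGroup.isExtraspecial_of_ambient P.pE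
      (by rw [card_eq_of_relIndex l c1 hi, e, pow_zero, mul_one]) (cΦ.trans (l.trans inf_le_right))
      fun H => na fun a ha b hb => congrArg Subtype.val (H.1.1 ⟨b, hb⟩ ⟨a, ha⟩))
    rw [c4, Nat.pow_right_inj p1] at hm
    omega
  have r := P.res_comm_prime l (inf_le_left.trans P.le) nΦ nZ (by rw [hi, show i = 1 by omega, pow_one])
  exact ⟨_, l, ⟨P, inf_le_left, le_rfl, nZ, P.norm, by rw [hk, show k = 2 by omega],
    fun H => nc (res_trans (P.pX inf_le_left) l r H)⟩, r, fun _ => Or.inr rfl⟩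

theorem star (h : P5 p F) : ∃ M, Mod p S S M ∧ (∀ f, Mor F S f → ∃ g ∈ M, ∀ x ∈ S,
    f x = g * x * g⁻¹) ∧ ∀ X Y, phi S ≤ X → X ≤ Y → Y ≤ S → ⁅Y, M⁆ ≤ X → Y ≤ X := by
  obtain ⟨M, -, m, l⟩ := h.exists_top
  refine ⟨M, m, l, fun X Y => m.le_of_comm (h.foc.trans (h.toLR.foc h.odd
    (fun E => h.idx h.odd h.rk) (fun E L hE P => ?_) le_sup_left fun f hf x hx => ?_))⟩
  · obtain ⟨X, h1, h2, h3, -⟩ := h.nat hE P
    exact ⟨X, h1, h2, h3⟩
  · obtain ⟨g, hg, e⟩ := l f hf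
    have := mem_sup_right (S := phi S) (commutator_mem_commutator (S.inv_mem hx) hg)
    rw [e x hx]
    convert this using 1
    group

theorem kc_cent (m : MC S p 5) : kc S 1 ≤ centralizer (lc S 2 : Set Γ) ∧
    lc S 1 ≤ centralizer (lc S 1 : Set Γ) := by
  have b := mc_lc_bot m (i := 4) le_rfl
  have c : lc S 1 ≤ centralizer (lc S 2 : Set Γ) :=
    bc (commutator_le.2 fun x hx y hy => b.le (cm_lc₂ (i := 1) (j := 2) hx hy))
  have c1 := ab_of_prime (lc_anti S (by omega)) (mc_idx_lc m le_rfl (by omega))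
    ((lc_anti S (by omega)).trans c) c
  refine ⟨le_centralizer_iff.1 (commutator_eq_bot_iff_le_centralizer.1
    (commutator_commutator_eq_bot_of_rotate (H₁ := lc S 1) (H₂ := S) ?_ ?_)), c1⟩
  · exact le_bot_iff.1 ((commutator_mono (commutator_mono le_rfl (kc_le S 1)) le_rfl).trans (cb c1))
  · exact le_bot_iff.1 ((commutator_mono (commutator_le.2 fun x hx => (mem_kc.1 hx).2) le_rfl).trans
      b.le)

theorem mc_wt (h : P5 p F) (m : MC S p 5) {g : Γ} (hg : g ∈ normalizer (S : Set Γ))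
    (w : Wt g a (kc S 1) S) : ∃ b : ℤ, Wt g b (lc S 1) (kc S 1) ∧ (b : ZMod p) = a ^ 2 ∧
      ∀ c : ℤ, Wt g c ⊥ (lc S 3) → (c : ZMod p) = a ^ 5 := by
  obtain ⟨c1, c2⟩ := kc_cent m
  have i := mc_idx_kc m le_rfl (by omega)
  have j := mc_idx_max m (lc_le_kc S 1) (kc_le S 1) i
  have pS := m.pgroup
  have e : kc S 1 = kc S 2 := ((eq_or_eq_prime i (W := kc S 2)
    (mc_kc_last m ▸ le_inf (kc_le S 1) c1) (kc_le S 2)).resolve_right fun e =>
      not_le_of_relIndex_prime (mc_idx_kc m (i := 2) (by omega) le_rfl) e.ge).symm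
  obtain ⟨b, w0⟩ := exists_wt (pS.to_le (kc_le S 1)) (lc_le_kc S 1) j (n_lc hg 1) (n_kc hg 1)
  have w1 := mc_wt_one m hg (kc_le S 1) i w w0
  have w3 := mc_wt_succ m hg (i := 2) (by omega) le_rfl (e ▸ w)
    (mc_wt_succ m hg le_rfl (by omega) w w1)
  have b4 := mc_lc_bot m (i := 4) le_rfl
  rw [b4] at w3
  have p3 := pS.to_le (lc_le S 3)
  have cS : S ≤ centralizer (lc S 3 : Set Γ) := le_centralizer_iff.1 (bc b4.le)
  have e1 : ((b * (a * b) : ℤ) : ZMod p) = (a * (a * (a * b)) : ℤ) := by_contra fun H =>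
    h.na _ (kc_le S 1) i (ab_of_prime (lc_le_kc S 1) j c2 (bc (comm_le_of_wt p3
      (norm_bot ⊤ trivial) (norm_bot _) (norm_bot _) (n_lc hg 1)
      (commutator_le.2 fun x hx => (mem_kc.1 hx).2) (cb ((kc_le S 1).trans cS))
      (cb ((lc_le S 1).trans cS)) (cb c2) (cb c1) w0 w1 w3 H)))
  have a0 := w.ne_zero (n_kc hg 1) (fun y => pow_mem_of_prime pS i) (not_le_of_relIndex_prime i)
  have b0 := w0.ne_zero (n_lc hg 1) (fun y hy => mc_pow_one m (kc_le S 1 hy))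
    (not_le_of_relIndex_prime j)
  push_cast at e1
  have e2 : (b : ZMod p) = a ^ 2 := mul_right_cancel₀ (mul_ne_zero a0 b0) (by linear_combination e1)
  refine ⟨b, w0, e2, fun c w4 => ?_⟩
  rw [w4.unique w3 p3 (b4 ▸ not_le_of_relIndex_prime (mc_idx_lc m (i := 3) (by omega) le_rfl))]
  push_cast
  rw [e2]; ring

theorem sq_one (h3 : p = 3) {x : ZMod p} (hx : x ≠ 0) : x ^ 2 = 1 := by
  have := ZMod.pow_card_sub_one_eq_one hx
  rwa [show p - 1 = 2 by omega] at this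

theorem mc_three (h : P5 p F) (m : MC S p 5) : p ≠ 3 := fun h3 => by
  obtain ⟨M, hM, -, H⟩ := h.star
  have i := mc_idx_kc m le_rfl (by omega)
  refine not_le_of_relIndex_prime (mc_idx_max m (lc_le_kc S 1) (kc_le S 1) i)
    (H _ _ (mc_phi m).le (lc_le_kc S 1) (kc_le S 1) (commutator_le.2 fun y hy g hg => ?_))
  obtain ⟨a, w⟩ := exists_wt h.pS (kc_le S 1) i (n_kc (hM.norm hg) 1) (hM.norm hg)
  obtain ⟨b, w0, e, -⟩ := h.mc_wt m (hM.norm hg) w
  exact w0.cm_of_one (fun y hy => mc_pow_one m (kc_le S 1 hy)) (e.trans (sq_one h3 (w.ne_zero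
    (n_kc (hM.norm hg) 1) (fun y => pow_mem_of_prime h.pS i) (not_le_of_relIndex_prime i)))) y hy

theorem not_centric (m : MC S p 5) {B : Subgroup Γ} (hB : B ≤ kc S 1) (hc : F.IsCentric B)
    (hZ : Nat.card (B ⊓ centralizer (B : Set Γ) : Subgroup Γ) = p ∨ Nat.card B = p ^ 2) : False := by
  have p1 := hp.out.one_lt
  have c := (kc_cent m).1
  have l : lc S 2 ≤ B ⊓ centralizer (B : Set Γ) := fun y hy =>
    have := le_centralizer_iff.1 (hB.trans c) hy
    ⟨centric_centralizerIn_le hc ⟨lc_le S 2 hy, this⟩, this⟩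
  have c2 : Nat.card (lc S 2) = p ^ 2 := mc_card_lc m (by omega)
  rcases hZ with e | e
  · have := card_le_of_le' l
    rw [c2, e] at this
    nlinarith
  · obtain rfl := eq_of_le_card (l.trans inf_le_left) (e.trans c2.symm).le
    exact not_le_of_relIndex_prime (mc_idx_max m (lc_le_kc S 1) (kc_le S 1)
      (mc_idx_kc m le_rfl (by omega))) ((le_inf (kc_le S 1) c).trans
        ((centric_centralizerIn_le hc).trans (lc_anti S (by omega))))

theorem pearl (h : P5 p F) (h7 : p ≠ 7) (hE : F.IsEssential p E) {M : Subgroup Γ}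
    (hM : AMod p F E M) (hL : L ≤ M) (s : EStr p (normalizerIn S E) E L D D₀ v w) :
    ¬ Pearl p E := fun hP => by
  have p1 := hp.out.one_lt
  have cen := fun x (hx : x ∈ S) hc => centric_centralizerIn_le hE.1 ⟨hx, hc⟩
  have lt := essential_lt_normalizerIn h.pS h.sat hE
  obtain ⟨a, b, hab, ha⟩ := exists_gen p
  obtain ⟨t, ht, htc, tN, -, x, hx, y, hy, k1, k2, k3, k4, k5⟩ := s.exists_torus hab
  have mt := hM.mor _ le_rfl t (hL ht) fun x hx => conj_mem tN hx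
  have m : MC S p 5 := hP.elim (fun H => mc_of_cent h.c5 (by omega) hE.1.1 H.2 cen) fun H =>
    mc_of_cube h.c5 (by omega) hE.1.1 H.2.1 (PGroup.IsExtraspecial.not_isMulCommutative H.1) cen
  have i := mc_idx_kc m le_rfl (by omega)
  obtain ⟨f, hf, e⟩ : ∃ g, Mor F S g ∧ ∀ x ∈ normalizerIn S E, g x = t * x * t⁻¹ := by
    refine hP.elim (fun H => h.ext_sq (fun R hR c3 H' _ => ?_) mt lt hE.1 H.2) fun H =>
      h.ext_cube mt lt hE.1 H.2.1 (PGroup.IsExtraspecial.not_isMulCommutative H.1)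
    obtain ⟨j, hj⟩ := exists_card_eq (h.pS.to_le (inf_le_left.trans hR.1.1 : R ⊓ kc S 1 ≤ S))
    have j1 : (R ⊓ kc S 1).relIndex R ≤ p := by
      rw [inf_relIndex_left, ← i]
      exact relIndex_le_of_le_right hR.1.1 (relIndex_pos' _ _).ne'
    have j2 := card_eq_of_relIndex inf_le_left hj rfl
    have j3 : 2 ≤ j := by_contra fun H => not_pow_le (p := p) (a := 3) (b := j + 1)
      (by rw [← c3, j2, pow_succ]; exact Nat.mul_le_mul_left _ j1) (by omega)
    obtain ⟨B, hB⟩ := Sylow.exists_subgroup_card_pow_prime (G := (R ⊓ kc S 1 : Subgroup Γ)) p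
      (hj ▸ pow_dvd_pow p j3)
    have hB' := (card_map_subtype B).trans hB
    exact not_centric m ((map_subtype_le B).trans inf_le_right)
      (H' _ ((map_subtype_le B).trans inf_le_left) hB') (Or.inr hB')
  obtain ⟨M', -, hM', l⟩ := h.exists_top
  obtain ⟨g, hg, e'⟩ := l f hf
  have e2 : ∀ y ∈ E, t * y * t⁻¹ = g * y * g⁻¹ := fun y hy => by
    rw [← e' y (hE.1.1 hy), e y (s.le hy)]
  have gS := hM'.norm hg
  obtain ⟨c, w1⟩ := exists_wt h.pS (kc_le S 1) i (n_kc gS 1) gS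
  obtain ⟨-, -, -, w2⟩ := h.mc_wt m gS w1
  have eZ := mc_center m
  have c3 : Nat.card (lc S 3) = p := (mc_card_lc m (by omega)).trans (pow_one p)
  have ZE : lc S 3 ≤ E ⊓ centralizer (E : Set Γ) := fun z hz =>
    have := centralizer_le hE.1.1 (eZ.ge hz).2
    ⟨cen z (lc_le S 3 hz) this, this⟩
  have ZK : lc S 3 ≤ kc S 1 := (lc_anti S (by omega)).trans (lc_le_kc S 1)
  have eE : D₀ ⊔ zpowers x ⊔ zpowers y = E := by
    have i1 := relIndex_sup_zpowers (s.nD0 (s.le hx)) k1 (s.pow_mem' hx)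
    have l1 : D₀ ⊔ zpowers x ≤ E := sup_le s.XY (zpowers_le.2 hx)
    exact sup_zpowers_eq l1 (relIndex_eq_of_mul le_sup_left l1 i1 (s.idx2.trans (sq p))) hy k2
  have ew : ∀ u ∈ E, ∀ d : ℤ, D₀ ≤ kc S 1 → (u ^ d)⁻¹ * (t * u * t⁻¹) ∈ D₀ → u ∉ kc S 1 →
      (d : ZMod p) = c := fun u hu d H1 H2 H3 => by_contra fun H =>
    H3 (w1.step h.pS (hE.1.1 hu) (by rw [Ew, ← e2 u hu]; exact H1 H2) H)
  push_cast at hab
  have fin : ∀ k, (a : ZMod p) ^ k = 1 → k = 5 ∨ k = 6 → False := fun k hk H => by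
    have h1 := ha k hk
    have h3 := h.mc_three m
    have h2 := h.odd
    have h4 : p ≠ 4 := fun e => absurd (e ▸ hp.out) (by decide)
    have h6 : p ≠ 6 := fun e => absurd (e ▸ hp.out) (by decide)
    rcases H with rfl | rfl
    · rcases (Nat.dvd_prime Nat.prime_five).1 h1 with e | e <;> omega
    · have := Nat.le_of_dvd (by omega) h1
      have h5 : p = 5 := by omega
      rw [h5] at h1
      omega
  rcases hP with H | H
  · have e0 : D₀ = ⊥ := card_eq_one.1 (card_eq_of_relIndex' s.XY (by rw [H.2, one_mul]) s.idx2)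
    rw [e0] at k1 k3 k4
    have xZ : x ∈ lc S 3 := by_contra fun H' => not_le_of_relIndex_prime s.idx fun n hn =>
      cen n hn.1 (sup_zpowers_eq (ZE.trans inf_le_left) (relIndex_eq_of_card (ZE.trans inf_le_left)
        c3 (H.2.trans (sq p))) hx H' ▸ mem_centralizer_sup_zpowers
          (le_centralizer_iff.1 (eZ.ge.trans inf_le_right) hn.1)
          (commutatorElement_eq_one_iff_commute.1 (k3 n hn)))
    have e3 := w2 a (Ew.wt_prime (by rw [Ew, ← e2 x hx]; exact k4) (h.pS.to_le (lc_le S 3)) bot_le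
      (by rw [relIndex_bot_left, c3]) xZ k1 (norm_bot ⊤ trivial))
    have e4 := ew y hy b (e0 ▸ bot_le) k5 fun H' => not_centric m
      (eE ▸ sup_le (sup_le (e0 ▸ bot_le) (zpowers_le.2 (ZK xZ))) (zpowers_le.2 H')) hE.1 (Or.inr H.2)
    have e5 : ((a : ZMod p) * b) ^ 5 = 1 := by rw [hab, one_pow]
    exact fin 6 (by rw [← e5, mul_pow, e4, ← e3, ← pow_succ]) (Or.inr rfl)
  · obtain ⟨x1, x2⟩ := PGroup.IsExtraspecial.ambient H.1
    have e0 : lc S 3 = D₀ := eq_of_le_card ((eq_of_le_card ZE (x2.trans c3.symm).le).le.trans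
      (x1 ▸ s.cmE)) (by
        rw [card_eq_of_relIndex' (a := p) s.XY (H.2.1.trans (pow_succ' p 2)) s.idx2, c3])
    have e3 := w2 1 (e0 ▸ (wt_one fun d hd => cm_mem_of_res s.res ht htc hd).congr
      fun d hd => e2 d (s.XY hd))
    push_cast at e3
    refine fin 5 ?_ (Or.inl rfl)
    by_cases hxK : x ∈ kc S 1
    · have e4 := ew y hy b (e0 ▸ ZK) k5 fun H' => not_centric m
        (eE ▸ sup_le (sup_le (e0 ▸ ZK) (zpowers_le.2 hxK)) (zpowers_le.2 H')) hE.1 (Or.inl x2)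
      have e5 : ((a : ZMod p) * b) ^ 5 = 1 := by rw [hab, one_pow]
      rwa [mul_pow, e4, ← e3, mul_one] at e5
    · rw [ew x hx a (e0 ▸ ZK) k4 hxK, ← e3]

/-- The last configuration for `p = 3`. -/
theorem fin3 (h : P5 p F) (h3 : p = 3) {V B : Subgroup Γ} (hNS : N ≤ S) (iN : N.relIndex S = p)
    (hVD : V ≤ D) (hDB : D ≤ B) (hBN : B ≤ N) (cV : Nat.card V = p) (iV : V.relIndex D = p)
    (iD : D.relIndex B = p) (iB : B.relIndex N = p) (eZ : N ⊓ centralizer (N : Set Γ) = D)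
    (cN : ⁅N, N⁆ = V) (cSN : ⁅S, N⁆ ≤ B) (nSN : ¬ ⁅S, N⁆ ≤ D) (cSB : ⁅S, B⁆ ≤ V)
    (pD : ∀ d ∈ D, d ^ p = 1) (hw : w ∈ N) (hwB : w ∉ B) (wp : w ^ p = 1) : False := by
  have p1 := hp.out.one_lt
  have hBS := hBN.trans hNS
  have hVB := hVD.trans hDB
  have nV : S ≤ normalizer (V : Set Γ) := le_normalizer_of_cm_le cSB hVB
  have zV := le_centralizer_of_card_prime h.pS (hVB.trans hBS) nV cV
  have cND : N ≤ centralizer (D : Set Γ) := le_centralizer_iff.1 (eZ.ge.trans inf_le_right)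
  have cB := ab_of_prime hDB iD ((hDB.trans hBN).trans cND) (hBN.trans cND)
  have eN := sup_zpowers_eq hBN iB hw hwB
  have iBS : B.relIndex S = p * p := by rw [← relIndex_mul_relIndex _ _ _ hBN hNS, iB, iN]
  have cen : ∀ c ∈ B, c ∉ D → w ∉ S ⊓ centralizer {c} ∧ (S ⊓ centralizer {c}).relIndex S = p ∧
      B ≤ S ⊓ centralizer {c} ∧ B.relIndex (S ⊓ centralizer {c}) = p := fun c hc hcD => by
    have h1 : w ∉ S ⊓ centralizer {c} := fun H => hcD (eZ.le ⟨hBN hc, eN ▸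
      mem_centralizer_sup_zpowers (cB hc) (Commute.symm (mem_centralizer_singleton_iff.1 H.2))⟩)
    have h2 := relIndex_cent_le (R := S) (X := V) fun r hr => cm_swap (commutator_le.1 cSB r hr c hc)
    rw [cV, ← inf_relIndex_left] at h2
    have h4 := relIndex_eq_prime h.pS (fun H => h1 (H (hNS hw))) (by nlinarith)
    have h5 : B ≤ S ⊓ centralizer {c} := le_inf hBS fun b hb =>
      mem_centralizer_singleton_iff.2 (commute_of_mem (cB hb) hc)
    exact ⟨h1, h4, h5, relIndex_eq_of_mul' h5 inf_le_left h4 iBS⟩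
  by_cases cSD : S ≤ centralizer (D : Set Γ)
  · obtain ⟨c, hc, hcD⟩ := exists_not_mem iD
    obtain ⟨-, h1, h2, h4⟩ := cen c hc hcD
    exact h.na _ inf_le_left h1 (ab_of_prime h2 h4 cB fun x hx => sup_zpowers_eq hDB iD hc hcD ▸
      mem_centralizer_sup_zpowers (cSD hx.1) (mem_centralizer_singleton_iff.1 hx.2))
  have gen : ∀ X : Subgroup Γ, V ≤ X → S ≤ normalizer (X : Set Γ) → ∀ t ∈ S, t ∉ N → ⁅w, t⁆ ∈ X →
      ⁅S, S⁆ ≤ X := fun X hX nX t ht htN H => by
    have k : ∀ u ∈ S, ⁅u, w⁆ ∈ X → ⁅u, t⁆ ∈ X → ∀ y ∈ S, ⁅u, y⁆ ∈ X := fun u hu h1 h2 =>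
      sup_zpowers_eq hNS iN ht htN ▸ cm_sup_zpowers (hNS.trans nX) (nX ht) (eN ▸ cm_sup_zpowers
        (hBS.trans nX) (nX (hNS hw)) (fun b hb => hX (commutator_le.1 cSB u hu b hb)) h1) h2
    exact commutator_le.2 fun u hu => k u hu (cm_swap (k w (hNS hw) (by simp) H u hu))
      (cm_swap (k t ht (cm_swap H) (by simp) u hu))
  have nD : S ≤ normalizer (D : Set Γ) := le_normalizer_of_cm_le (cSB.trans hVD) hDB
  have nSS : ¬ ⁅S, S⁆ ≤ D := fun H => nSN ((commutator_mono le_rfl hNS).trans H)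
  obtain ⟨t, ht, htN⟩ := exists_not_mem iN
  have c1 : ⁅w, t⁆ ∈ B := cm_swap (commutator_le.1 cSN t ht w hw)
  have c2 : ⁅w, t⁆ ∉ D := fun H => nSS (gen D hVD nD t ht htN H)
  have c3 : ⁅w, t⁆ ^ p ∈ V := by
    simpa [wp] using V.inv_mem (zpow_conj_mod (nV (hNS hw)) (nV ht)
      (commutator_le.1 cSB w (hNS hw) _ c1) p)
  obtain ⟨q1, q2, q3, q4⟩ := cen _ c1 c2
  have iT := relIndex_sup_zpowers (nV (hBS c1)) (fun H => c2 (hVD H)) c3
  have TB : V ⊔ zpowers ⁅w, t⁆ ≤ B := sup_le hVB (zpowers_le.2 c1)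
  have eT : V ⊔ zpowers ⁅w, t⁆ = ⁅S, S⁆ := le_antisymm
    (sup_le (cN ▸ commutator_mono hNS hNS) (zpowers_le.2 (commutator_mem_commutator (hNS hw) ht)))
    (gen _ le_sup_left (le_normalizer_of_cm_le (cSB.trans le_sup_left) TB) t ht htN
      (mem_sup_right (mem_zpowers _)))
  have eQ : S ⊓ centralizer {⁅w, t⁆} = S ⊓ centralizer ((⁅S, S⁆ : Subgroup Γ) : Set Γ) := by
    ext x
    exact and_congr_right fun hx => ⟨fun H => eT ▸ mem_centralizer_sup_zpowers (zV hx)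
      (mem_centralizer_singleton_iff.1 H), fun H => mem_centralizer_singleton_iff.2
        (commute_of_mem H (commutator_mem_commutator (hNS hw) ht))⟩
  have VT : V ≤ ⁅S, S⁆ := eT ▸ le_sup_left
  rw [eT] at iT TB
  rw [eQ] at q1 q2 q3 q4
  have cT : ⁅w, t⁆ ∈ ⁅S, S⁆ := commutator_mem_commutator (hNS hw) ht
  have QS : S ⊓ centralizer ((⁅S, S⁆ : Subgroup Γ) : Set Γ) ≤ S := inf_le_left
  have QT : S ⊓ centralizer ((⁅S, S⁆ : Subgroup Γ) : Set Γ) ≤
    centralizer ((⁅S, S⁆ : Subgroup Γ) : Set Γ) := inf_le_right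
  have nT : ∀ g ∈ normalizer (S : Set Γ), g ∈ normalizer ((⁅S, S⁆ : Subgroup Γ) : Set Γ) :=
    fun g hg => n_lc hg 1
  have nQ : ∀ g ∈ normalizer (S : Set Γ), g ∈ normalizer
      ((S ⊓ centralizer ((⁅S, S⁆ : Subgroup Γ) : Set Γ) : Subgroup Γ) : Set Γ) := fun g hg =>
    inf_normalizer_le_normalizer_inf ⟨hg, LAE.normalizer_le_normalizer_centralizer _ (nT g hg)⟩
  have pT := fun x hx y hy => mul_pow_mem (X := ⁅S, S⁆) (n := p) (nT x (le_normalizer hx))
    (nT y (le_normalizer hy)) (commutator_mem_commutator hx hy)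
  set T := ⁅S, S⁆
  set Q := S ⊓ centralizer (T : Set Γ)
  have jT : T.relIndex B = p := relIndex_eq_of_mul VT TB iT (by
    rw [← relIndex_mul_relIndex _ _ _ hVD hDB, iV, iD])
  have nST : ¬ ⁅S, T⁆ ≤ ⊥ := fun H => q1 ⟨hNS hw, bc H (hNS hw)⟩
  have eV : ⁅S, T⁆ = V := (eq_or_eq_prime (by rw [relIndex_bot_left, cV]) bot_le
    ((commutator_mono le_rfl TB).trans cSB)).resolve_left fun e => nST e.le
  have BZ : B ≤ S ⊓ cs S V := fun b hb =>
    ⟨hBS hb, nV (hBS hb), fun s hs => cm_swap (commutator_le.1 cSB s hs b hb)⟩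
  have eB : S ⊓ cs S V = B := by_contra fun H => by
    have e := relIndex_mul_relIndex _ _ _ BZ inf_le_left
    have h1 := le_relIndex (h.pS.to_le inf_le_left) fun l => H (le_antisymm l BZ)
    have nS : ¬ S ≤ S ⊓ cs S V := fun l => c2 (hVD ((l (hNS hw)).2.2 t ht))
    have h2 : (S ⊓ cs S V).relIndex S = p := relIndex_eq_prime h.pS nS (by nlinarith)
    obtain ⟨s, hs, hsZ⟩ := exists_not_mem h2
    have k : ∀ u ∈ S, ⁅u, s⁆ ∈ V → ∀ y ∈ S, ⁅u, y⁆ ∈ V := fun u hu h4 =>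
      sup_zpowers_eq inf_le_left h2 hs hsZ ▸ cm_sup_zpowers (inf_le_left.trans nV) (nV hs)
        (fun b hb => cm_swap (hb.2.2 u hu)) h4
    exact hsZ ⟨hs, nV hs, k s hs (by simp)⟩
  obtain ⟨d, hd, hdV⟩ := exists_not_mem iV
  have hdT : d ∉ T := fun H => hdV ((inf_eq_of_ne_prime hVD VT iV iT fun e => c2 (e ▸ cT)).le ⟨hd, H⟩)
  obtain ⟨s, hs, hsB⟩ := exists_not_mem q4
  have hsN : s ∉ N := fun H => hsB (((eq_or_eq_prime iB (W := N ⊓ Q) (le_inf hBN q3)
    inf_le_left).resolve_right fun e => q1 (e.ge hw).2).le ⟨H, hs⟩)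
  have eS := sup_zpowers_eq hNS iN hs.1 hsN
  have hsd : ¬ Commute s d := fun H => cSD (eS ▸ sup_le cND (zpowers_le.2
    (sup_zpowers_eq hVD iV hd hdV ▸ mem_centralizer_sup_zpowers (zV hs.1) H)))
  have pB : ∀ b ∈ B, b ^ p ∈ T := fun b hb => by
    obtain ⟨u, hu, j, rfl⟩ := exists_eq_mul_zpow (h.pS.to_le hBS) TB jT (hDB hd) hdT hb
    exact pT u (hBS (TB hu)) _ (S.zpow_mem (hBS (hDB hd)) j) (T.pow_mem hu p)
      (zpow_pow_mem (pD d hd ▸ T.one_mem) j)
  have ps : s ^ p ∈ T := by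
    obtain ⟨u, hu, j, e⟩ := exists_eq_mul_zpow (h.pS.to_le hBS) TB jT (hDB hd) hdT
      (pow_mem_of_prime (h.pS.to_le QS) q4 hs)
    obtain ⟨k, rfl⟩ : (p : ℤ) ∣ j := by_contra fun H => hsd (Commute.symm
      (mem_centralizer_singleton_iff.1 (mem_of_zpow_mem (X := centralizer {s})
        (pg_zpowers h.pS (hBS (hDB hd))) H (mem_centralizer_singleton_iff.2 (by
          rw [eq_inv_mul_iff_mul_eq.2 e.symm]
          exact ((commute_of_mem hs.2 hu).symm.inv_left.mul_left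
            (Commute.self_pow s p).symm).eq)))))
    rwa [e, zpow_mul, zpow_natCast, pD d hd, one_zpow, mul_one]
  obtain ⟨M, hM, -, H⟩ := h.star
  refine not_le_of_relIndex_prime jT (H T B ((Core.map_frattini_le_iff_of_isPGroup h.pS).2
    ⟨le_rfl, fun x hx => ?_⟩) TB hBS (commutator_le.2 fun y hy g hg => ?_))
  · obtain ⟨n, hn, i, rfl⟩ := exists_eq_mul_zpow h.pS hNS iN hs.1 hsN hx
    obtain ⟨u, hu, j, rfl⟩ := exists_eq_mul_zpow (h.pS.to_le hNS) hBN iB hw hwB hn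
    exact pT _ (hNS hn) _ (S.zpow_mem hs.1 i) (pT u (hBS hu) _ (S.zpow_mem (hNS hw) j) (pB u hu)
      (zpow_pow_mem (wp ▸ T.one_mem) j)) (zpow_pow_mem ps i)
  have gS := hM.norm hg
  have gT := nT g gS
  have gQ := nQ g gS
  have gV : g ∈ normalizer (V : Set Γ) := eV ▸ Core.normalizer_inf_le_normalizer_commutator _ _ ⟨gS, gT⟩
  have gB : g ∈ normalizer (B : Set Γ) :=
    eB ▸ inf_normalizer_le_normalizer_inf ⟨gS, mem_normalizer_cs gV gS⟩
  have TS := TB.trans hBS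
  have pV := h.pS.to_le (VT.trans TS)
  obtain ⟨a, w1⟩ := exists_wt h.pS QS q2 gQ gS
  obtain ⟨b, w2⟩ := exists_wt (h.pS.to_le QS) q3 q4 gB gQ
  obtain ⟨c, w3⟩ := exists_wt (h.pS.to_le hBS) TB jT gT gB
  obtain ⟨e, w4⟩ := exists_wt (h.pS.to_le TS) VT iT gV gT
  obtain ⟨f, w5⟩ := exists_wt pV bot_le (by rw [relIndex_bot_left, cV]) (norm_bot ⊤ trivial) gV
  have cQ : ⁅Q, Q⁆ ≤ V := by
    have k : ∀ u ∈ S, ⁅u, s⁆ ∈ V → ∀ y ∈ Q, ⁅u, y⁆ ∈ V := fun u hu h4 =>
      sup_zpowers_eq q3 q4 hs hsB ▸ cm_sup_zpowers (hBS.trans nV) (nV hs.1)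
        (commutator_le.1 cSB u hu) h4
    exact commutator_le.2 fun u hu => k u hu.1 (cm_swap (k s hs.1 (by simp) u hu))
  have e1 : ((a * b : ℤ) : ZMod p) = e := by_contra fun H => hsB (eB.le ⟨hs.1, nV hs.1, fun u hu =>
    cm_swap (commutator_le.1 (comm_le_of_wt (h.pS.to_le TS) gV nV (QS.trans nV) gQ
      (commutator_mono le_rfl QS) eV.le ((commutator_mono QS le_rfl).trans eV.le) cQ cSB w1 w2 w4 H)
      u hu s hs)⟩)
  have e2 : ((a * e : ℤ) : ZMod p) = f := by_contra fun H => nST (comm_le_of_wt pV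
    (norm_bot ⊤ trivial) (norm_bot _) (norm_bot _) gT eV.le (cb zV) (cb (TS.trans zV)) (cb QT)
    (cb zV) w1 w4 w5 H)
  have e3 : ((b * c : ℤ) : ZMod p) = f := by_contra fun H => hsd (commute_of_mem (bc
    (comm_le_of_wt pV (norm_bot ⊤ trivial) (norm_bot _) (norm_bot _) gB
      ((commutator_mono QS le_rfl).trans cSB) (cb (QS.trans zV)) (cb (hBS.trans zV)) (cb cB) (cb QT)
      w2 w3 w5 H) hs) (hDB hd))
  have a0 := sq_one h3 (w1.ne_zero gQ (fun y => pow_mem_of_prime h.pS q2)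
    (not_le_of_relIndex_prime q2))
  have b0 := w2.ne_zero gB (fun y => pow_mem_of_prime (h.pS.to_le QS) q4)
    (not_le_of_relIndex_prime q4)
  push_cast at e1 e2 e3
  exact w3.cm_of_one pB (mul_left_cancel₀ b0 (by
    linear_combination e3 - e2 - (a : ZMod p) * e1 + b * a0)) y hy

theorem non_pearl (h : P5 p F) (h3 : p = 3) (hE : F.IsEssential p E) {M : Subgroup Γ}
    (hM : AMod p F E M) (hL : L ≤ M) (s : EStr p (normalizerIn S E) E L D D₀ v w)
    (hn : ¬ S ≤ normalizer (E : Set Γ)) : Pearl p E := by_contra fun hP => by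
  have p1 := hp.out.one_lt
  have hNS := normalizerIn_le S E
  obtain ⟨iY, c0⟩ := s.not_pearl (h.rk.mono hNS) hP
  have mor := fun z hz => hM.mor _ le_rfl z (hL hz)
  have lt : normalizerIn S E < S := lt_of_le_of_ne hNS fun e => hn (e.ge.trans inf_le_right)
  set N := normalizerIn S E
  obtain ⟨i, hi⟩ := exists_card_eq (s.pX s.XY)
  have cN := card_eq_of_relIndex s.le (card_eq_of_relIndex s.XY hi s.idx2) s.idx
  have lY : zpowers ⁅v, w⁆ ⊔ phi D₀ ≤ D₀ := sup_le (zpowers_le.2 s.c_mem) (map_subtype_le _)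
  have i1 : i = 1 := by
    have h1 := card_lt_of_lt' lt
    rw [cN, h.c5, ← pow_add, ← pow_succ, Nat.pow_lt_pow_iff_right p1] at h1
    have h2 : i ≠ 0 := fun e => not_le_of_relIndex_prime iY ((card_eq_one.1 (by
      rw [hi, e, pow_zero])).le.trans bot_le)
    omega
  rw [i1, pow_one] at hi cN
  have iN : N.relIndex S = p := relIndex_eq_of_card hNS cN (by rw [h.c5]; ring)
  have nN := le_normalizer_of_prime h.pS hNS iN
  have vw : ⁅v, w⁆ = 1 := mem_bot.1 ((card_eq_one.1 (card_eq_of_relIndex' lY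
    (by rw [hi, one_mul]) iY)).le (mem_sup_left (mem_zpowers _)))
  have DN := s.DE.trans s.le
  have z0 := le_centralizer_of_card_prime s.pG (s.D0D.trans DN) s.nD0 hi
  have cD := ab_of_prime s.D0D s.iD ((s.D0D.trans DN).trans z0) (DN.trans z0)
  have cED : E ≤ centralizer (D : Set Γ) := s.eE ▸ sup_le cD (zpowers_le.2 (s.eD ▸
    mem_centralizer_sup_zpowers s.wc (commutatorElement_eq_one_iff_commute.1 vw).symm))
  obtain ⟨z, hz, hzc, zN, z1, z2⟩ := s.exists_z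
  have zc : ∀ d ∈ D₀, ⁅z, d⁆ = 1 := fun d hd => cm_mem_of_res s.res hz hzc hd
  have cND : N ≤ centralizer (D : Set Γ) := bc (comm_le_of_wt (s.pX s.XY) (norm_bot ⊤ trivial)
    (norm_bot _) (norm_bot _) (Core.mem_normalizer_of_forall_conj_mem fun d hd => by
      simpa using mul_mem (inv_mem hd) (s.D0D (z2 d (s.DE hd)))) s.cND (cb z0) (cb (DN.trans z0))
    (cb cED) (cb z0) (wt_one z1) ((wt_neg z2).mono le_rfl s.DE) (wt_one zc)
    (by simpa using neg_one_ne h.odd))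
  obtain ⟨y, hy, hyE⟩ := s.exists_not_mem
  have eZ : N ⊓ centralizer (N : Set Γ) = D := le_antisymm (fun z hz => by_contra fun H =>
    s.cm_not_mem hy hyE (s.center_le hz.1 hz.2) H (by rw [cm_eq_one' hz.2 hy]; exact D₀.one_mem))
    (le_inf DN (le_centralizer_iff.1 cND))
  have pD : ∀ d ∈ D, d ^ p = 1 := s.eD ▸ pow_eq_one_sup
    (le_centralizer_iff.1 (zpowers_le.2 s.vc))
    (fun d hd => congrArg Subtype.val (hi ▸ pow_card_eq_one' (x := (⟨d, hd⟩ : D₀))))
    (pow_eq_one_zpowers s.vp)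
  have v1 := s.cm_not_mem hy hyE s.wE s.wD
  have v2 : ⁅y, w⁆ ∈ ⁅N, N⁆ := commutator_mem_commutator hy (s.le s.wE)
  have v3 := s.cNN (cm_swap v2)
  have eV : ⁅N, N⁆ = zpowers ⁅w, y⁆ := le_antisymm (by
    conv_lhs => rw [← s.sup_eq hy hyE, ← s.eE]
    exact comm_le_zpowers cD (cND (s.le s.wE)) (cND hy) (commute_of_mem (cND (s.le s.wE)) v3)
      (commute_of_mem (cND hy) v3)) (zpowers_le.2 (cm_swap v2))
  have cV : Nat.card (⁅N, N⁆ : Subgroup Γ) = p := eV ▸ card_zpowers_eq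
    (fun e => v1 (cm_swap (e ▸ D₀.one_mem))) (pD _ v3)
  have iV : (⁅N, N⁆ : Subgroup Γ).relIndex D = p :=
    relIndex_eq_of_card s.cNN cV (card_eq_of_relIndex s.D0D hi s.iD)
  have nV : ∀ g ∈ normalizer (N : Set Γ), g ∈ normalizer ((⁅N, N⁆ : Subgroup Γ) : Set Γ) :=
    fun g hg => n_lc hg 1
  have nD : ∀ g ∈ normalizer (N : Set Γ), g ∈ normalizer (D : Set Γ) := fun g hg => eZ ▸
    inf_normalizer_le_normalizer_inf ⟨hg, LAE.normalizer_le_normalizer_centralizer _ hg⟩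
  have eD : ⁅N, N⁆ ⊔ D₀ = D := (eq_or_eq_prime iV le_sup_left (sup_le s.cNN s.D0D)).resolve_left
    fun e => v1 ((eq_of_le_card (le_sup_right.trans e.le) (cV.trans hi.symm).le).ge v2)
  have VD := s.cNN
  have cNN : ⁅N, N⁆ ≤ ⁅N, N⁆ := le_rfl
  set V := ⁅N, N⁆ with hV
  have SD : S ≤ normalizer (D : Set Γ) := fun g hg => nD g (nN hg)
  have SV : S ≤ normalizer (V : Set Γ) := fun g hg => nV g (nN hg)
  have iDN : D.relIndex N = p * p := by rw [← relIndex_mul_relIndex _ _ _ s.DE s.le, s.iE, s.idx]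
  obtain ⟨B, b1, b2, b3, b4⟩ := exists_between h.pS hNS DN SD nN fun H => hyE (s.DE (H hy))
  have b5 := relIndex_eq_of_mul b1 b2 b3 iDN
  have nB := le_normalizer_of_cm_le (b4.trans b1) le_rfl
  have BE := inf_eq_of_ne_prime s.DE b1 s.iE b3 fun e => hn (e ▸ nB)
  have wB : w ∉ B := fun H => s.wD (BE.le ⟨s.wE, H⟩)
  have cSN : ⁅S, N⁆ ≤ B := commutator_le.2 (cm_mem_of_prime h.pS hNS b2 nB nN b5)
  have nSN : ¬ ⁅S, N⁆ ≤ D := fun H => hn (le_normalizer_of_cm_le (H.trans s.DE) s.le)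
  have cSD : ⁅S, D⁆ ≤ V := commutator_le.2 (cm_mem_of_prime h.pS (DN.trans hNS) VD SV SD iV)
  have gB : ∀ g ∈ normalizer (S : Set Γ), g ∈ normalizer (N : Set Γ) →
      g ∈ normalizer (B : Set Γ) := fun g h1 h2 =>
    (eq_or_eq_prime b3 le_sup_left (sup_le b1 cSN)).resolve_left (fun e => nSN
      (le_sup_right.trans e.le)) ▸ normalizer_inf_normalizer_le_normalizer_sup _ _
        ⟨nD g h2, Core.normalizer_inf_le_normalizer_commutator _ _ ⟨h1, h2⟩⟩
  have key : ∀ g ∈ normalizer (S : Set Γ), g ∈ normalizer (N : Set Γ) → ∀ a b : ℤ, Wt g a N S →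
      Wt g b D B → Wt g 1 V D → ((a * b : ℤ) : ZMod p) ≠ (1 : ℤ) → ⁅S, B⁆ ≤ V :=
    fun g h1 h2 a b w1 w2 w3 H => comm_le_of_wt (s.pX s.DE) (nV g h2) SV (b2.trans (hNS.trans SV))
      (gB g h1 h2) b4 cSD ((commutator_mono (b2.trans hNS) le_rfl).trans cSD)
      ((commutator_mono le_rfl b2).trans cNN) cSD w1 w2 w3 H
  refine h.fin3 h3 hNS iN VD b1 b2 cV iV b3 b5 eZ rfl cSN nSN ?_ pD (s.le s.wE) wB s.wp
  by_cases hN : F.IsEssential p N
  · obtain ⟨M', -, L', -, P⟩ := h.exists_par h.odd h.rk hN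
    obtain ⟨X, x1, s', -, x2⟩ := h.nat hN P
    obtain rfl : X = D := (x2 nN).elim (fun e => by
      have l : X ≤ D := e ▸ (Core.map_frattini_le_iff_of_isPGroup s.pG).2 ⟨VD, s.pw⟩
      have := relIndex_mul_relIndex _ _ _ l DN
      rw [iDN, s'.idx2, sq, Nat.mul_eq_right (by positivity), relIndex_eq_one] at this
      exact le_antisymm l this) fun e => e.trans eZ
    rw [normalizerIn_eq nN] at s'
    obtain ⟨g, hg, gc, gS, g1, g2⟩ := s'.exists_z
    exact key g gS (s'.norm hg) _ _ (wt_one g1) ((wt_neg g2).mono le_rfl b2)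
      (wt_one fun d hd => cm_mem_of_res (s'.res_comm_prime VD (DN.trans hNS)
        (fun l hl => nV l (s'.norm hl)) s'.invX iV) hg gc hd) (by simpa using neg_one_ne h.odd)
  obtain ⟨f, hf, e⟩ := (mor z hz fun x hx => conj_mem zN hx).exists_ext_top_of_pred h.pS h.sat
    (Φ := fun P => ∃ Q ≤ P, F.IsConj N Q)
    (fun _ _ f hf ⟨_, h1, h2⟩ l _ => ⟨_, (img_mono f h1).trans l,
      isConj_trans h2 (hf.mono h1).isConj⟩)
    (fun R hR ⟨Q, h1, h2⟩ => by
      obtain ⟨f, hf, rfl⟩ := isConj_iff.1 h2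
      obtain ⟨g, hg, -, -, -, e⟩ := hf.exists_inv
      obtain rfl := (eq_or_eq_prime (relIndex_eq_of_card (h1.trans hR.1.1) (hf.card_img.trans cN)
        (by rw [h.c5]; ring)) h1 hR.1.1).resolve_right (essential_lt h.pS h.sat hR).ne
      exact hN (e ▸ hg.essential_img hR (e.symm ▸ fullyNormalized_of_le_normalizer hNS nN)))
    ⟨N, le_rfl, isConj_refl F hNS⟩
  obtain ⟨M', -, hM', l⟩ := h.exists_top
  obtain ⟨g, hg, e'⟩ := l f hf
  have e2 : ∀ y ∈ N, z * y * z⁻¹ = g * y * g⁻¹ := fun y hy => by rw [← e' y (hNS hy), e y hy]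
  have gS := hM'.norm hg
  have gN := mem_normalizer_congr le_rfl e2 zN
  have gB' := gB g gS gN
  obtain ⟨c, w1⟩ := exists_wt h.pS hNS iN gN gS
  have w2 : Wt g 1 D B := BE ▸ ((wt_one z1).congr e2).inf b2 gB'
  have w3 : Wt g (-1) B N := Ew.wt_prime (((wt_neg z2).congr fun y hy => e2 y (s.le hy)).mono
    (s.D0D.trans b1) le_rfl w s.wE) s.pG b2 b5 (s.le s.wE) wB gB'
  have e3 : ((c * -1 : ℤ) : ZMod p) = (1 : ℤ) := by_contra fun H => nSN (comm_le_of_wt
    (s.pG.to_le b2) (nD g gN) SD (hNS.trans SD) gN cSN b4 ((commutator_mono hNS le_rfl).trans b4)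
    VD b4 w1 w3 w2 H)
  refine key g gS gN _ _ w1 w2 ((wt_one (eD ▸ cm_sup ((VD.trans DN).trans (hNS.trans SV))
    ((s.D0D.trans DN).trans (hNS.trans SV)) (fun y hy => cm_mem_right (nV z zN) hy)
    fun d hd => by rw [zc d hd]; exact one_mem _)).congr fun y hy => e2 y (DN hy)) fun H => ?_
  refine neg_one_ne h.odd ?_
  push_cast at e3 H ⊢
  linear_combination e3 + H

theorem false (h : P5 p F) (h7 : p ≠ 7) : False := by
  have p1 := hp.out.one_lt
  obtain ⟨E, hE, hn⟩ : ∃ E, F.IsEssential p E ∧ ¬ S ≤ normalizer (E : Set Γ) := by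
    by_contra H
    push Not at H
    rcases h.all_normal h.odd h.rk h.core h.ne_bot H with ⟨H, -⟩ | ⟨_, _, -, -, H⟩
    · rw [h.c5, Nat.pow_right_inj p1] at H; omega
    · have := H.cardG
      rw [h.c5, Nat.pow_right_inj p1] at this; omega
  obtain ⟨t, ht, htN⟩ := exists_norm_norm h.pS hn
  obtain ⟨M, hM, L, hL, D₀, v, w, s⟩ := h.exists_eStr h.odd h.rk hE ht htN
  refine h.pearl h7 hE hM hL s ?_
  by_cases h3 : p = 3
  · exact h.non_pearl h3 hE hM hL s hn
  · have h4 : p ≠ 4 := fun e => absurd (e ▸ hp.out) (by decide)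
    have := h.odd
    exact h.pearl_of_not_normal (by omega) h.rk hE hn

end P5

end CfsgLib.Fus2
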